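import Groth.Agent.DevLib.Apps
import Groth.Prelude.Def_ClSub2

/-!
# Powers of pieces
-/

set_option autoImplicit false

universe u

open CategoryTheory CategoryTheory.Limits AlgebraicGeometry TopologicalSpace Opposite
open Groth.Agent.PullbackMod Groth.Agent.QCohLib

noncomputable section

namespace Groth.Agent.DevLib

variable {X : Scheme.{u}}

/-- The stalk of a binary biproduct. -/
def stalkBiprodEquiv (P Q : X.Modules) (x : X) :
    (P ⊞ Q : X.Modules).presheaf.stalk x ≃ₗ[X.presheaf.stalk x] P.presheaf.stalk x × Q.presheaf.stalk x :=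
  LinearEquiv.ofLinear
    ((stalkLin (biprod.fst : P ⊞ Q ⟶ P) x).prod (stalkLin (biprod.snd : P ⊞ Q ⟶ Q) x))
    ((stalkLin (biprod.inl : P ⟶ P ⊞ Q) x).coprod (stalkLin (biprod.inr : Q ⟶ P ⊞ Q) x))
    (by
      refine LinearMap.ext fun z => ?_
      have key : ∀ {A B : X.Modules} (f : A ⟶ (P ⊞ Q : X.Modules)) (g : (P ⊞ Q : X.Modules) ⟶ B) (w : A.presheaf.stalk x),
          stalkLin g x (stalkLin f x w) = stalkLin (f ≫ g) x w := fun f g w => by
        rw [stalkLin_comp]; rfl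
      refine Prod.ext ?_ ?_
      · show stalkLin biprod.fst x (stalkLin biprod.inl x z.1 + stalkLin biprod.inr x z.2) = z.1
        rw [map_add, key, key, biprod.inl_fst, biprod.inr_fst, stalkLin_id, stalkLin_zero]
        exact add_zero _
      · show stalkLin biprod.snd x (stalkLin biprod.inl x z.1 + stalkLin biprod.inr x z.2) = z.2
        rw [map_add, key, key, biprod.inl_snd, biprod.inr_snd, stalkLin_id, stalkLin_zero]
        exact zero_add _)
    (by
      refine LinearMap.ext fun z => ?_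
      show stalkLin biprod.inl x (stalkLin biprod.fst x z) + stalkLin biprod.inr x (stalkLin biprod.snd x z) = z
      rw [← LinearMap.comp_apply, ← LinearMap.comp_apply, ← stalkLin_comp, ← stalkLin_comp,
        ← LinearMap.add_apply, ← stalkLin_add, biprod.total, stalkLin_id]
      rfl)

/-- Torsion-free at `ξ`. -/
def IsTF (ξ : X) (M : X.Modules) : Prop :=
  ∀ (V : X.Opens) (s : Γ(M, V)), (∀ hx : ξ ∈ V, M.presheaf.germ V ξ hx s = 0) → s = 0

variable {ξ : X}

theorem isTF_biprod {P Q : X.Modules} (hP : IsTF ξ P) (hQ : IsTF ξ Q) : IsTF ξ (P ⊞ Q : X.Modules) := by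
  intro V s hs
  refine eq_zero_of_forall_germ s fun y hy => ?_
  have h1 : (biprod.fst : P ⊞ Q ⟶ P).app V s = 0 := hP V _ fun hx => by
    rw [← stalkLin_germ, hs hx, map_zero]
  have h2 : (biprod.snd : P ⊞ Q ⟶ Q).app V s = 0 := hQ V _ fun hx => by
    rw [← stalkLin_germ, hs hx, map_zero]
  apply (stalkBiprodEquiv P Q y).injective
  rw [map_zero]
  refine Prod.ext ?_ ?_
  · show stalkLin (biprod.fst : P ⊞ Q ⟶ P) y _ = 0
    rw [stalkLin_germ, h1, map_zero]
  · show stalkLin (biprod.snd : P ⊞ Q ⟶ Q) y _ = 0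
    rw [stalkLin_germ, h2, map_zero]

theorem isCoh_biprod {P Q : X.Modules} (hP : Coh.IsCoh P) (hQ : Coh.IsCoh Q) :
    Coh.IsCoh (P ⊞ Q : X.Modules) :=
  isCoh_X₂ (S := ShortComplex.mk (biprod.inl : P ⟶ P ⊞ Q) biprod.snd biprod.inl_snd)
    (ShortComplex.Splitting.ofHasBinaryBiproduct P Q).shortExact hP hQ

lemma support_biprod_subset {P Q : X.Modules} :
    CohB1.support (P ⊞ Q : X.Modules) ⊆ CohB1.support P ∪ CohB1.support Q :=
  (support_X₂ (S := ShortComplex.mk (biprod.inl : P ⟶ P ⊞ Q) biprod.snd biprod.inl_snd)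
    (ShortComplex.Splitting.ofHasBinaryBiproduct P Q).shortExact).le

/-- `k + 1` copies of a module, bracketed to the right. -/
def powMod (Q : X.Modules) : ℕ → X.Modules
  | 0 => Q
  | k + 1 => Q ⊞ powMod Q k

/-- A piece of a power. -/
theorem powMod_spec {Q : X.Modules} (hQ : IsPiece ξ Q) : ∀ k,
    Coh.IsCoh (powMod Q k) ∧ IsTF ξ (powMod Q k) ∧ (∀ y ∈ CohB1.support (powMod Q k), ξ ⤳ y) ∧
      Nonempty ((powMod Q k).presheaf.stalk ξ ≃ₗ[X.presheaf.stalk ξ]
        (Fin (k + 1) → Q.presheaf.stalk ξ)) ∧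
      (∃ (i : Q ⟶ powMod Q k) (r : powMod Q k ⟶ Q), i ≫ r = 𝟙 Q)
  | 0 => ⟨hQ.coh, hQ.tf, hQ.supp, ⟨(LinearEquiv.funUnique (Fin 1) _ _).symm⟩, 𝟙 Q, 𝟙 Q, Category.id_comp _⟩
  | k + 1 => by
    obtain ⟨hc, ht, hs, ⟨e⟩, -⟩ := powMod_spec hQ k
    exact ⟨isCoh_biprod hQ.coh hc, isTF_biprod hQ.tf ht,
      fun y hy => (support_biprod_subset hy).elim (hQ.supp y) (hs y),
      ⟨((stalkBiprodEquiv Q (powMod Q k) ξ).trans ((LinearEquiv.refl _ _).prodCongr e)).trans
        (Fin.consLinearEquiv (X.presheaf.stalk ξ) (fun _ : Fin (k + 2) => Q.presheaf.stalk ξ))⟩,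
      biprod.inl, biprod.fst, biprod.inl_fst⟩

/-- The torsion-free quotient of a coherent module. -/
theorem exists_tfQuot [IsLocallyNoetherian X] {G : X.Modules} (hG : Coh.IsCoh G)
    (hsupp : ∀ y ∈ CohB1.support G, ξ ⤳ y) :
    ∃ (S : ShortComplex X.Modules), S.ShortExact ∧ Coh.IsCoh S.X₁ ∧ Coh.IsCoh S.X₂ ∧ Coh.IsCoh S.X₃ ∧
      IsTF ξ S.X₃ ∧ (∀ y ∈ CohB1.support S.X₃, ξ ⤳ y) ∧
      (∀ y ∈ CohB1.support S.X₁, ξ ⤳ y) ∧ ξ ∉ CohB1.support S.X₁ ∧ Nonempty (S.X₂ ≅ G) ∧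
      Nonempty (S.X₃.presheaf.stalk ξ ≃ₗ[X.presheaf.stalk ξ] G.presheaf.stalk ξ) := by
  haveI := hG.1
  have hB : Absorbs (⊥ : Submodule (X.presheaf.stalk ξ) (G.presheaf.stalk ξ)) :=
    absorbs_bot (W₀ := ⊤) trivial fun y _ hy => hsupp y hy
  let j := subAtMap (bot_le : (⊥ : Submodule (X.presheaf.stalk ξ) (G.presheaf.stalk ξ)) ≤ ⊤)
  have hi := isIso_subAtι_top (M := G) ξ
  have h1 := isCoh_subAt hG hB
  have h2 : Coh.IsCoh (subAt (⊤ : Submodule (X.presheaf.stalk ξ) (G.presheaf.stalk ξ))) :=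
    isCoh_subAt hG (hB.mono bot_le)
  have hsub : ∀ z, stalkLin (cokernel.π j) ξ z = 0 → z = 0 := fun z hz => by
    obtain ⟨v, rfl⟩ := (coker_exact j ξ z).1 hz
    have h : Subsingleton ((subAt (⊥ : Submodule (X.presheaf.stalk ξ) (G.presheaf.stalk ξ))).presheaf.stalk ξ) :=
      subsingleton_of_notMem subsingleton_subAt_bot
    rw [h.elim v 0, map_zero]
  refine ⟨cokerSeq j, cokerSeq_shortExact j, h1, h2, (isCoh_kernel_cokernel j h1 h2).2,
    fun V s hs => tf_coker hsupp j (subAtMap_ι _) V s hs, supp_coker j fun y hy => hsupp y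
      (support_subset_of_mono (subAtι _) hy),
    fun y hy => hsupp y (support_subset_of_mono (subAtι _) hy), subsingleton_subAt_bot,
    ⟨@asIso _ _ _ _ _ hi⟩, ⟨?_⟩⟩
  exact (LinearEquiv.ofBijective (stalkLin (cokernel.π j) ξ)
      ⟨(injective_iff_map_eq_zero _).2 hsub, coker_surjective j ξ⟩).symm.trans
    ((LinearEquiv.ofInjective _ (injective_stalk_subAtι
      (⊤ : Submodule (X.presheaf.stalk ξ) (G.presheaf.stalk ξ)) ξ)).trans
      ((LinearEquiv.ofEq _ _ (range_stalk_subAtι _)).trans Submodule.topEquiv))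

/-- A finite module killed by the maximal ideal is a power of any simple module. -/
theorem exists_equiv_pi_simple {R : Type u} [CommRing R] [IsLocalRing R] {S M : Type u}
    [AddCommGroup S] [Module R S] [AddCommGroup M] [Module R M] [IsSimpleModule R S] [Module.Finite R M]
    [Nontrivial M] (h : ∀ a ∈ IsLocalRing.maximalIdeal R, ∀ m : M, a • m = 0) :
    ∃ k, Nonempty (M ≃ₗ[R] (Fin (k + 1) → S)) := by
  obtain ⟨m, hm, ⟨e⟩⟩ := isSimpleModule_iff_quot_maximal.1 (inferInstance : IsSimpleModule R S)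
  obtain rfl := IsLocalRing.eq_maximalIdeal hm
  have ht : Module.IsTorsionBySet R M (IsLocalRing.maximalIdeal R : Set R) := fun z a => h a.1 a.2 z
  letI : Module (IsLocalRing.ResidueField R) M := ht.module
  haveI : IsScalarTower R (IsLocalRing.ResidueField R) M :=
    .of_algebraMap_smul fun _ _ => rfl
  haveI : Module.Finite (IsLocalRing.ResidueField R) M :=
    Module.Finite.of_restrictScalars_finite R (IsLocalRing.ResidueField R) M
  obtain ⟨k, hk⟩ : ∃ k, Module.finrank (IsLocalRing.ResidueField R) M = k + 1 :=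
    Nat.exists_eq_succ_of_ne_zero Module.finrank_pos.ne'
  exact ⟨k, ⟨(((Module.finBasisOfFinrankEq _ M hk).equivFun).restrictScalars R).trans
    (LinearEquiv.piCongrRight fun _ => e.symm)⟩⟩

end Groth.Agent.DevLib

namespace Groth.Agent.DevLib

variable {X : Scheme.{u}} {ξ : X}

/-- Modules killed by the reduced ideal of the closure of a point have semisimple stalk there. -/
theorem smul_eq_zero_of_killed {Z : Set X} (hZ : IsClosed Z) (hξ : closure {ξ} = Z) {G : X.Modules}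
    (hk : ClSub.KilledByIdeal (Scheme.IdealSheafData.vanishingIdeal ⟨Z, hZ⟩) G)
    {a : X.presheaf.stalk ξ} (ha : a ∈ IsLocalRing.maximalIdeal (X.presheaf.stalk ξ))
    (z : G.presheaf.stalk ξ) : a • z = 0 := by
  obtain ⟨V, hV, a, rfl⟩ := TopCat.Presheaf.exists_germ_eq X.presheaf a
  obtain ⟨U, hU, s, rfl⟩ := TopCat.Presheaf.exists_germ_eq G.presheaf z
  obtain ⟨_, ⟨W : X.Opens, (hW : IsAffineOpen W), rfl⟩, hξW, hWle⟩ :=
    X.isBasis_affineOpens.exists_subset_of_mem_open (a := ξ) (show ξ ∈ V ⊓ U from ⟨hV, hU⟩) (V ⊓ U).2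
  rw [← X.presheaf.germ_res_apply (homOfLE (fun y hy => (hWle hy).1 : W ≤ V)) ξ hξW a] at ha ⊢
  rw [← G.presheaf.germ_res_apply (homOfLE (fun y hy => (hWle hy).2 : W ≤ U)) ξ hξW s]
  generalize X.presheaf.map (homOfLE (fun y hy => (hWle hy).1 : W ≤ V)).op a = f at ha ⊢
  generalize G.presheaf.map (homOfLE (fun y hy => (hWle hy).2 : W ≤ U)).op s = m
  have hf : f ∈ (Scheme.IdealSheafData.vanishingIdeal ⟨Z, hZ⟩).ideal ⟨W, hW⟩ := by
    rw [Scheme.IdealSheafData.vanishingIdeal_ideal]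
    refine (PrimeSpectrum.mem_vanishingIdeal _ _).2 fun p hp => by_contra fun hnp => ?_
    have hmem : hW.fromSpec p ∈ X.basicOpen f := by
      have h : p ∈ hW.fromSpec ⁻¹ᵁ X.basicOpen f := by
        rw [hW.fromSpec_preimage_basicOpen]
        exact hnp
      exact h
    have hsp : ξ ⤳ hW.fromSpec p := specializes_iff_mem_closure.2 (hξ.symm ▸ hp)
    exact (IsLocalRing.mem_maximalIdeal _).1 ha
      ((X.mem_basicOpen f ξ hξW).1 (hsp.mem_open (X.basicOpen f).2 hmem))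
  refine (PresheafOfModules.germ_smul (R := X.presheaf) G.val ξ W hξW f m).symm.trans ?_
  exact (congrArg (G.presheaf.germ W ξ hξW) (hk ⟨W, hW⟩ f hf m)).trans (map_zero _)

/-- A semisimple-stalk module good, two out of three, and summands give pieces. -/
theorem piece_of_summand [IsLocallyNoetherian X] (T : Set X) (hξ : closure {ξ} ⊆ T) (P : X.Modules → Prop)
    (hiso : ∀ M N : X.Modules, Nonempty (M ≅ N) → P M → P N)
    (h : ∀ S : ShortComplex X.Modules, S.ShortExact → Coh.IsCoh S.X₁ → Coh.IsCoh S.X₂ → Coh.IsCoh S.X₃ →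
      CohB1.support S.X₂ ⊆ T →
      (P S.X₁ → P S.X₂ → P S.X₃) ∧ (P S.X₁ → P S.X₃ → P S.X₂) ∧ (P S.X₂ → P S.X₃ → P S.X₁))
    (hsum : ∀ (M N : X.Modules) (i : N ⟶ M) (r : M ⟶ N), i ≫ r = 𝟙 N → Coh.IsCoh M → Coh.IsCoh N →
      P M → P N)
    {G : X.Modules} (hG : Coh.IsCoh G) (hsupp : ∀ y ∈ CohB1.support G, ξ ⤳ y)
    (hne : ξ ∈ CohB1.support G)
    (hkill : ∀ a ∈ IsLocalRing.maximalIdeal (X.presheaf.stalk ξ), ∀ z : G.presheaf.stalk ξ, a • z = 0)
    (hPG : P G) {Q : X.Modules} (hQ : IsPiece ξ Q) (hsm : SmallerOK P ξ) : P Q := by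
  obtain ⟨S, hS, h1, h2, h3, htf, hs3, hs1, hn1, ⟨e⟩, ⟨θ⟩⟩ := exists_tfQuot hG hsupp
  have hS3 : P S.X₃ := (h S hS h1 h2 h3 ((support_X₂ hS).subset.trans
    (Set.union_subset (subset_of_specializes hξ hs1) (subset_of_specializes hξ hs3)))).1
    (hsm _ h1 hs1 hn1) (hiso _ _ ⟨e.symm⟩ hPG)
  haveI := hQ.simple
  haveI := hG.1
  haveI := finite_stalk_of_isFT hG.2 ξ
  haveI : Nontrivial (G.presheaf.stalk ξ) := not_subsingleton_iff_nontrivial.1 hne
  obtain ⟨k, ⟨e'⟩⟩ := exists_equiv_pi_simple (S := Q.presheaf.stalk ξ) hkill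
  obtain ⟨hc, htp, hsp, ⟨ep⟩, i, r, hir⟩ := powMod_spec hQ k
  have hk3 : ∀ a ∈ IsLocalRing.maximalIdeal (X.presheaf.stalk ξ), ∀ z : S.X₃.presheaf.stalk ξ, a • z = 0 :=
    fun a ha z => θ.injective (by rw [map_smul, map_zero]; exact hkill a ha _)
  obtain ⟨H, p, q, hH, hp, hq, hps, hqs⟩ := exists_common' h3 hc htf htp hk3 (θ.trans (e'.trans ep.symm))
  have hcp := (isCoh_kernel_cokernel p hH h3).2
  have hcq := (isCoh_kernel_cokernel q hH hc).2
  have hPH : P H := (h (cokerSeq p) (cokerSeq_shortExact p) hH h3 hcp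
    (subset_of_specializes hξ hs3)).2.2 hS3 (hsm _ hcp (supp_coker p hs3) (notMem_support_coker p hps))
  exact hsum _ Q i r hir hc hQ.coh ((h (cokerSeq q) (cokerSeq_shortExact q) hH hc hcq
    (subset_of_specializes hξ hsp)).2.1 hPH (hsm _ hcq (supp_coker q hsp) (notMem_support_coker q hqs)))

end Groth.Agent.DevLib
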