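import Groth.Agent.DevLib.Sub

/-!
# Pieces: coherent modules without torsion whose generic stalk is simple
-/

set_option autoImplicit false

universe u

open CategoryTheory CategoryTheory.Limits AlgebraicGeometry TopologicalSpace Opposite
open Groth.Agent.PullbackMod Groth.Agent.CohBase Groth.Agent.QCohLib

noncomputable section

namespace Groth.Agent.DevLib

variable {X : Scheme.{u}}

/-- The short exact sequence of a monomorphism. -/
def cokerSeq {M N : X.Modules} (f : M ⟶ N) : ShortComplex X.Modules :=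
  ShortComplex.mk f (cokernel.π f) (cokernel.condition f)

lemma cokerSeq_shortExact {M N : X.Modules} (f : M ⟶ N) [Mono f] : (cokerSeq f).ShortExact :=
  ShortComplex.ShortExact.mk' (ShortComplex.exact_of_g_is_cokernel _ (cokernelIsCokernel _))
    (inferInstanceAs (Mono f)) (inferInstanceAs (Epi (cokernel.π f)))

lemma coker_exact {M N : X.Modules} (f : M ⟶ N) [Mono f] (y : X) :
    Function.Exact (stalkLin f y) (stalkLin (cokernel.π f) y) :=
  stalk_exact (cokerSeq_shortExact f) y

lemma coker_surjective {M N : X.Modules} (f : M ⟶ N) [Mono f] (y : X) :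
    Function.Surjective (stalkLin (cokernel.π f) y) :=
  stalk_surjective (cokerSeq_shortExact f) y

lemma coker_app_zero {M N : X.Modules} (f : M ⟶ N) [Mono f] (W : X.Opens) (t : Γ(M, W)) :
    (cokernel.π f).app W (f.app W t) = 0 :=
  app_g_f (S := cokerSeq f) W t

lemma subsingleton_coker {M N : X.Modules} (f : M ⟶ N) [Mono f] {y : X}
    (h : Function.Surjective (stalkLin f y)) : Subsingleton ((cokernel f).presheaf.stalk y) := by
  refine subsingleton_of_forall_eq 0 fun z => ?_
  obtain ⟨w, rfl⟩ := stalk_surjective (cokerSeq_shortExact f) y z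
  exact (stalk_exact (cokerSeq_shortExact f) y w).2 (h w)

lemma support_coker_subset {M N : X.Modules} (f : M ⟶ N) [Mono f] :
    CohB1.support (cokernel f) ⊆ CohB1.support N :=
  Set.subset_union_right.trans (support_X₂ (cokerSeq_shortExact f)).superset

lemma support_subset_of_mono {M N : X.Modules} (f : M ⟶ N) [Mono f] :
    CohB1.support M ⊆ CohB1.support N :=
  Set.subset_union_left.trans (support_X₂ (cokerSeq_shortExact f)).superset

variable (ξ : X)

/-- A coherent module on the closure of `ξ` without torsion, with simple stalk at `ξ`. -/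
structure IsPiece (Q : X.Modules) : Prop where
  coh : Coh.IsCoh Q
  supp : ∀ y ∈ CohB1.support Q, ξ ⤳ y
  simple : IsSimpleModule (X.presheaf.stalk ξ) (Q.presheaf.stalk ξ)
  tf : ∀ (V : X.Opens) (s : Γ(Q, V)), (∀ hx : ξ ∈ V, Q.presheaf.germ V ξ hx s = 0) → s = 0

variable {ξ}

lemma eq_zero_of_forall_germ {M : X.Modules} {V : X.Opens} (s : Γ(M, V))
    (h : ∀ (y : X) (hy : y ∈ V), M.presheaf.germ V y hy s = 0) : s = 0 :=
  TopCat.Presheaf.section_ext (⟨M.presheaf, M.isSheaf⟩ : TopCat.Sheaf Ab X) V s 0 fun y hy =>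
    (h y hy).trans (map_zero (M.presheaf.germ V y hy).hom).symm

/-- Quotients of stalk conditions have no torsion at `ξ`. -/
theorem tf_coker {M : X.Modules} {S S' : Submodule (X.presheaf.stalk ξ) (M.presheaf.stalk ξ)}
    (hsupp : ∀ y ∈ CohB1.support M, ξ ⤳ y)
    (j : subAt S ⟶ subAt S') (hj : j ≫ subAtι S' = subAtι S) [Mono j] (V : X.Opens)
    (s : Γ(cokernel j, V)) (hs : ∀ hx : ξ ∈ V, (cokernel j).presheaf.germ V ξ hx s = 0) : s = 0 := by
  refine eq_zero_of_forall_germ s fun y hy => ?_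
  by_cases hys : y ∈ CohB1.support M
  · obtain ⟨w, hw⟩ := coker_surjective j y ((cokernel j).presheaf.germ V y hy s)
    obtain ⟨U, hyU, p, rfl⟩ := TopCat.Presheaf.exists_germ_eq (subAt S').presheaf w
    rw [stalkLin_germ] at hw
    obtain ⟨W, hyW, i₁, i₂, hres⟩ := TopCat.Presheaf.germ_eq (cokernel j).presheaf y hyU hy _ s hw
    have hξW : ξ ∈ W := (hsupp y hys).mem_open W.2 hyW
    have hgerm : stalkLin (cokernel.π j) ξ ((subAt S').presheaf.germ U ξ (i₁.le hξW) p) = 0 := by
      rw [stalkLin_germ, ← (cokernel j).presheaf.germ_res_apply i₁ ξ hξW]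
      exact (congrArg ((cokernel j).presheaf.germ W ξ hξW) hres).trans
        (((cokernel j).presheaf.germ_res_apply i₂ ξ hξW s).trans (hs _))
    obtain ⟨v, hv⟩ := (coker_exact j ξ _).1 hgerm
    obtain ⟨q, hq⟩ := (exists_app_subAtι S W (M.presheaf.map i₁.op ((subAtι S').app U p))).2 fun hx => by
      rw [← range_stalk_subAtι S]
      refine ⟨v, ?_⟩
      rw [← hj, stalkLin_comp]
      show stalkLin (subAtι S') ξ (stalkLin j ξ v) = _
      rw [hv, stalkLin_germ]
      exact (M.presheaf.germ_res_apply i₁ ξ hx _).symm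
    have hp : j.app W q = (subAt S').presheaf.map i₁.op p := by
      refine subAtι_app_injective S' W ?_
      refine (congrArg (fun g => g.app W q) hj).trans ?_
      rw [hq]
      exact (app_res (subAtι S') i₁.le p).symm
    rw [← (cokernel j).presheaf.germ_res_apply i₂ y hyW s]
    refine (congrArg ((cokernel j).presheaf.germ W y hyW) (hres.symm.trans
      ((app_res (cokernel.π j) i₁.le p).symm.trans
        ((congrArg ((cokernel.π j).app W) hp.symm).trans (coker_app_zero j W q))))).trans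
      (map_zero _)
  · exact germ_eq_zero_of_notMem
      (fun h => hys (support_subset_of_mono (subAtι S') (support_coker_subset j h))) hy s

/-- A quotient of stalk conditions with simple quotient is a piece. -/
theorem isPiece_coker [IsLocallyNoetherian X] {M : X.Modules} (hM : Coh.IsCoh M)
    {S S' : Submodule (X.presheaf.stalk ξ) (M.presheaf.stalk ξ)} (hS : Absorbs S) (hle : S ≤ S')
    (hsupp : ∀ y ∈ CohB1.support M, ξ ⤳ y)
    (hsimple : IsSimpleModule (X.presheaf.stalk ξ) (↥S' ⧸ S.comap S'.subtype))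
    (j : subAt S ⟶ subAt S') (hj : j ≫ subAtι S' = subAtι S) [Mono j] :
    IsPiece ξ (cokernel j) where
  coh := (isCoh_kernel_cokernel j (isCoh_subAt hM hS) (isCoh_subAt hM (hS.mono hle))).2
  supp y hy := hsupp y (support_subset_of_mono (subAtι S') (support_coker_subset j hy))
  simple := by
    let π := stalkLin (cokernel.π j) ξ
    let ι' := stalkLin (subAtι S') ξ
    have hι : Function.Injective ι' := injective_stalk_subAtι S' ξ
    let e₁ : (subAt S').presheaf.stalk ξ ≃ₗ[X.presheaf.stalk ξ] ↥S' :=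
      (LinearEquiv.ofInjective ι' hι).trans (LinearEquiv.ofEq _ _ (range_stalk_subAtι S'))
    have hker : Submodule.map (e₁ : (subAt S').presheaf.stalk ξ →ₗ[X.presheaf.stalk ξ] ↥S')
        (LinearMap.ker π) = S.comap S'.subtype := by
      ext z
      obtain ⟨z, rfl⟩ := e₁.surjective z
      simp only [Submodule.mem_map, LinearMap.mem_ker, Submodule.mem_comap]
      constructor
      · rintro ⟨w, hw, hwz⟩
        obtain rfl := e₁.injective hwz
        obtain ⟨v, rfl⟩ := (coker_exact j ξ w).1 hw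
        refine (range_stalk_subAtι S).le ⟨v, ?_⟩
        show _ = ι' (stalkLin j ξ v)
        rw [← hj, stalkLin_comp]
        rfl
      · intro hz
        rw [← range_stalk_subAtι S] at hz
        obtain ⟨v, hv⟩ := hz
        refine ⟨z, ?_, rfl⟩
        refine (coker_exact j ξ z).2 ⟨v, hι ?_⟩
        rw [← hj, stalkLin_comp] at hv
        exact hv
    exact IsSimpleModule.congr
      (((LinearMap.quotKerEquivOfSurjective π (coker_surjective j ξ)).symm).trans
        (Submodule.Quotient.equiv _ _ e₁ hker))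
  tf := tf_coker hsupp j hj

/-- The inclusion between stalk conditions. -/
def subAtMap {M : X.Modules} {S S' : Submodule (X.presheaf.stalk ξ) (M.presheaf.stalk ξ)}
    (hle : S ≤ S') : subAt S ⟶ subAt S' :=
  kernel.lift _ (subAtι S) (Scheme.Modules.hom_ext _ _ fun V => AddCommGrpCat.hom_ext
    (AddMonoidHom.ext fun t => funext fun hx =>
      (Submodule.Quotient.mk_eq_zero S').2 (hle ((exists_app_subAtι S V _).1 ⟨t, rfl⟩ hx.down))))

@[reassoc]
lemma subAtMap_ι {M : X.Modules} {S S' : Submodule (X.presheaf.stalk ξ) (M.presheaf.stalk ξ)}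
    (hle : S ≤ S') : subAtMap hle ≫ subAtι S' = subAtι S := kernel.lift_ι _ _ _

instance mono_subAtMap {M : X.Modules} {S S' : Submodule (X.presheaf.stalk ξ) (M.presheaf.stalk ξ)}
    (hle : S ≤ S') : Mono (subAtMap hle) :=
  haveI : Mono (subAtMap hle ≫ subAtι S') := by rw [subAtMap_ι]; infer_instance
  mono_of_mono _ (subAtι S')

/-- Torsion-free modules with isomorphic semisimple generic stalks contain a common submodule. -/
theorem exists_common' [IsLocallyNoetherian X] {Q G : X.Modules} (hQc : Coh.IsCoh Q) (hGc : Coh.IsCoh G)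
    (hQtf : ∀ (V : X.Opens) (s : Γ(Q, V)), (∀ hx : ξ ∈ V, Q.presheaf.germ V ξ hx s = 0) → s = 0)
    (hGtf : ∀ (V : X.Opens) (s : Γ(G, V)), (∀ hx : ξ ∈ V, G.presheaf.germ V ξ hx s = 0) → s = 0)
    (hQk : ∀ a ∈ IsLocalRing.maximalIdeal (X.presheaf.stalk ξ), ∀ z : Q.presheaf.stalk ξ, a • z = 0)
    (θ : Q.presheaf.stalk ξ ≃ₗ[X.presheaf.stalk ξ] G.presheaf.stalk ξ) :
    ∃ (H : X.Modules) (p : H ⟶ Q) (q : H ⟶ G), Coh.IsCoh H ∧ Mono p ∧ Mono q ∧
      Function.Surjective (stalkLin p ξ) ∧ Function.Surjective (stalkLin q ξ) := by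
  let N : X.Modules := Q ⊞ G
  let f1 : N ⟶ Q := biprod.fst
  let f2 : N ⟶ G := biprod.snd
  let i1 : Q ⟶ N := biprod.inl
  let i2 : G ⟶ N := biprod.inr
  let l : N.presheaf.stalk ξ →ₗ[X.presheaf.stalk ξ] G.presheaf.stalk ξ :=
    θ.toLinearMap ∘ₗ stalkLin f1 ξ - stalkLin f2 ξ
  have hN : Coh.IsCoh N := isCoh_X₂ (S := ShortComplex.mk i1 f2 biprod.inl_snd)
    (ShortComplex.Splitting.ofHasBinaryBiproduct Q G).shortExact hQc hGc
  have hdec : ∀ (y : X) (z : N.presheaf.stalk y),
      stalkLin i1 y (stalkLin f1 y z) + stalkLin i2 y (stalkLin f2 y z) = z := fun y z => by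
    have h : stalkLin (f1 ≫ i1 + f2 ≫ i2) y = stalkLin (𝟙 N) y :=
      congrArg (fun k => stalkLin k y) biprod.total
    rw [stalkLin_add, stalkLin_comp, stalkLin_comp, stalkLin_id] at h
    exact LinearMap.congr_fun h z
  have hkill : ∀ a ∈ IsLocalRing.maximalIdeal (X.presheaf.stalk ξ), ∀ z : N.presheaf.stalk ξ,
      a • z = 0 := fun a ha z => by
    have k1 : a • stalkLin f1 ξ z = 0 := hQk a ha _
    have k2 : a • stalkLin f2 ξ z = 0 := θ.symm.injective (by
      rw [map_smul, map_zero]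
      exact hQk a ha _)
    rw [← hdec ξ z, smul_add, ← map_smul (stalkLin i1 ξ) a, ← map_smul (stalkLin i2 ξ) a, k1, k2,
      map_zero, map_zero, add_zero]
  have hS : Absorbs (LinearMap.ker l) := fun a ha z => ⟨1, by rw [pow_one, hkill a ha z]; exact zero_mem _⟩
  have hcomp : ∀ (v : (subAt (LinearMap.ker l)).presheaf.stalk ξ),
      θ (stalkLin f1 ξ (stalkLin (subAtι _) ξ v)) = stalkLin f2 ξ (stalkLin (subAtι _) ξ v) := fun v => by
    have h : stalkLin (subAtι (LinearMap.ker l)) ξ v ∈ LinearMap.ker l :=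
      (range_stalk_subAtι (LinearMap.ker l)).le ⟨v, rfl⟩
    exact sub_eq_zero.1 h
  have surj : ∀ a : Q.presheaf.stalk ξ, ∃ v, stalkLin f1 ξ (stalkLin (subAtι (LinearMap.ker l)) ξ v) = a := by
    intro a
    have hz : stalkLin i1 ξ a + stalkLin i2 ξ (θ a) ∈ LinearMap.ker l := by
      have a1 : stalkLin f1 ξ (stalkLin i1 ξ a) = a := by
        rw [← LinearMap.comp_apply, ← stalkLin_comp, show i1 ≫ f1 = 𝟙 Q from biprod.inl_fst, stalkLin_id]; rfl
      have a2 : stalkLin f1 ξ (stalkLin i2 ξ (θ a)) = 0 := by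
        rw [← LinearMap.comp_apply, ← stalkLin_comp, show i2 ≫ f1 = 0 from biprod.inr_fst, stalkLin_zero]; rfl
      have a3 : stalkLin f2 ξ (stalkLin i1 ξ a) = 0 := by
        rw [← LinearMap.comp_apply, ← stalkLin_comp, show i1 ≫ f2 = 0 from biprod.inl_snd, stalkLin_zero]; rfl
      have a4 : stalkLin f2 ξ (stalkLin i2 ξ (θ a)) = θ a := by
        rw [← LinearMap.comp_apply, ← stalkLin_comp, show i2 ≫ f2 = 𝟙 G from biprod.inr_snd, stalkLin_id]; rfl
      show θ (stalkLin f1 ξ _) - stalkLin f2 ξ _ = 0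
      simp only [map_add, a1, a2, a3, a4, map_zero, add_zero, zero_add, sub_self]
    rw [← range_stalk_subAtι (LinearMap.ker l)] at hz
    obtain ⟨v, hv⟩ := hz
    refine ⟨v, ?_⟩
    rw [hv, map_add, ← LinearMap.comp_apply, ← stalkLin_comp, show i1 ≫ f1 = 𝟙 Q from biprod.inl_fst,
      stalkLin_id, ← LinearMap.comp_apply, ← stalkLin_comp, show i2 ≫ f1 = 0 from biprod.inr_fst,
      stalkLin_zero]
    exact add_zero _
  -- both projections are injective
  have hmono : ∀ (T : X.Modules) (f : N ⟶ T),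
      (∀ v : (subAt (LinearMap.ker l)).presheaf.stalk ξ,
        stalkLin f ξ (stalkLin (subAtι _) ξ v) = 0 → stalkLin (subAtι (LinearMap.ker l)) ξ v = 0) →
      Mono (subAtι (LinearMap.ker l) ≫ f) := fun T f hf => by
    refine (mono_iff_stalk _).2 fun y => (injective_iff_map_eq_zero _).2 fun z hz => ?_
    obtain ⟨U, hy, t, rfl⟩ := TopCat.Presheaf.exists_germ_eq (subAt _).presheaf z
    rw [stalkLin_germ] at hz
    obtain ⟨W, hyW, i₁, i₂, hres⟩ := TopCat.Presheaf.germ_eq T.presheaf y hy hy _ 0 (hz.trans (map_zero _).symm)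
    rw [map_zero] at hres
    set t' := (subAt (LinearMap.ker l)).presheaf.map i₁.op t
    suffices h : (subAtι (LinearMap.ker l)).app W t' = 0 by
      rw [← (subAt _).presheaf.germ_res_apply i₁ y hyW t]
      exact (congrArg _ (subAtι_app_injective _ W (h.trans (map_zero _).symm))).trans (map_zero _)
    have hzero : ∀ hx : ξ ∈ W, N.presheaf.germ W ξ hx ((subAtι _).app W t') = 0 := fun hx => by
      rw [← stalkLin_germ]
      refine hf _ ?_
      rw [stalkLin_germ, stalkLin_germ]
      exact (congrArg (T.presheaf.germ W ξ hx) ((app_res (subAtι _ ≫ f) i₁.le t).trans hres)).trans (map_zero _)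
    refine eq_zero_of_forall_germ _ fun w hw => ?_
    set s := (subAtι (LinearMap.ker l)).app W t'
    have h1 : f1.app W s = 0 := hQtf W _ fun hx => by rw [← stalkLin_germ, hzero hx, map_zero]
    have h2 : f2.app W s = 0 := hGtf W _ fun hx => by rw [← stalkLin_germ, hzero hx, map_zero]
    have k1 : stalkLin f1 w (N.presheaf.germ W w hw s) = 0 := by rw [stalkLin_germ, h1, map_zero]
    have k2 : stalkLin f2 w (N.presheaf.germ W w hw s) = 0 := by rw [stalkLin_germ, h2, map_zero]
    rw [← hdec w (N.presheaf.germ W w hw s), k1, k2, map_zero, map_zero, add_zero]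
  refine ⟨subAt (LinearMap.ker l), subAtι _ ≫ f1, subAtι _ ≫ f2, isCoh_subAt hN hS,
    hmono Q f1 fun v hv => ?_, hmono G f2 fun v hv => ?_, fun a => ?_, fun b => ?_⟩
  · rw [← hdec ξ (stalkLin _ ξ v), ← hcomp, hv, map_zero, map_zero, map_zero, add_zero]
  · have h' : stalkLin f1 ξ (stalkLin (subAtι (LinearMap.ker l)) ξ v) = 0 :=
      θ.injective (((hcomp v).trans hv).trans (map_zero θ).symm)
    rw [← hdec ξ (stalkLin _ ξ v), h', hv, map_zero, map_zero, add_zero]
  · rw [stalkLin_comp]; exact surj a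
  · obtain ⟨v, hv⟩ := surj (θ.symm b)
    refine ⟨v, ?_⟩
    rw [stalkLin_comp, LinearMap.comp_apply, ← hcomp, hv, LinearEquiv.apply_symm_apply]

/-- Two pieces contain a common piece. -/
theorem exists_common [IsLocallyNoetherian X] {Q G : X.Modules} (hQ : IsPiece ξ Q) (hG : IsPiece ξ G) :
    ∃ (H : X.Modules) (p : H ⟶ Q) (q : H ⟶ G), Coh.IsCoh H ∧ Mono p ∧ Mono q ∧
      Function.Surjective (stalkLin p ξ) ∧ Function.Surjective (stalkLin q ξ) := by
  obtain ⟨m, hm, ⟨e⟩⟩ := isSimpleModule_iff_quot_maximal.1 hQ.simple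
  obtain ⟨m', hm', ⟨e'⟩⟩ := isSimpleModule_iff_quot_maximal.1 hG.simple
  obtain rfl := IsLocalRing.eq_maximalIdeal hm
  obtain rfl := IsLocalRing.eq_maximalIdeal hm'
  refine exists_common' hQ.coh hG.coh hQ.tf hG.tf (fun a ha z => e.injective ?_) (e.trans e'.symm)
  rw [map_smul, map_zero]
  obtain ⟨w, hw⟩ := Ideal.Quotient.mk_surjective (e z)
  rw [← hw, Algebra.smul_def, Ideal.Quotient.algebraMap_eq, ← map_mul]
  exact Ideal.Quotient.eq_zero_iff_mem.2 (Ideal.mul_mem_right w _ ha)

end Groth.Agent.DevLib
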