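import Groth.Agent.DevLib.Piece
import Groth.Agent.DCohLib.ClosedPush
import Groth.Agent.QCohLib.Push
import Groth.Agent.DVRCrit.Local

/-!
# Closed immersions and pieces
-/

set_option autoImplicit false

universe u

open CategoryTheory CategoryTheory.Limits AlgebraicGeometry TopologicalSpace Opposite
open Groth.Agent.PullbackMod Groth.Agent.CohBase Groth.Agent.QCohLib Groth.Agent.DCohLib

noncomputable section

namespace Groth.Agent.DevLib

variable {X : Scheme.{u}}

/-- The structure sheaf is coherent. -/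
theorem isCoh_structureModule (X : Scheme.{u}) : Coh.IsCoh (Coh.structureModule X) := by
  haveI : Coh.IsQCoh (Coh.structureModule X) := inferInstance
  exact isCoh_of_finite _ fun W _ => show Module.Finite Γ(X, W) Γ(X, W) from inferInstance

/-- Direct images along closed immersions of coherent modules are coherent. -/
theorem isCoh_pushforward_closed {Z : Scheme.{u}} (i : Z ⟶ X) [IsClosedImmersion i] {M : Z.Modules}
    (hM : Coh.IsCoh M) : Coh.IsCoh ((Scheme.Modules.pushforward i).obj M) := by
  haveI := hM.1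
  haveI : Coh.IsQCoh ((Scheme.Modules.pushforward i).obj M) := isQCoh_pushforward M i
  refine isCoh_of_finite _ fun W hW => ?_
  haveI := finite_sections_of_isCoh hM (hW.preimage i)
  letI : Algebra Γ(X, W) Γ(Z, i ⁻¹ᵁ W) := (i.app W).hom.toAlgebra
  letI : Module Γ(X, W) Γ(M, i ⁻¹ᵁ W) := Module.compHom _ (i.app W).hom
  haveI : IsScalarTower Γ(X, W) Γ(Z, i ⁻¹ᵁ W) Γ(M, i ⁻¹ᵁ W) := .of_algebraMap_smul fun _ _ => rfl
  haveI : Module.Finite Γ(X, W) Γ(Z, i ⁻¹ᵁ W) :=
    Module.Finite.of_surjective (Algebra.linearMap Γ(X, W) Γ(Z, i ⁻¹ᵁ W)) (i.app_surjective W hW)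
  exact (Module.Finite.trans Γ(Z, i ⁻¹ᵁ W) Γ(M, i ⁻¹ᵁ W) : Module.Finite Γ(X, W) Γ(M, i ⁻¹ᵁ W))

/-- Integral closed subschemes through a point. -/
theorem exists_integral_closed (ξ : X) : ∃ (Z : Scheme.{u}) (i : Z ⟶ X) (_ : IsClosedImmersion i)
    (_ : IsIntegral Z), Set.range i = closure {ξ} ∧ i (genericPoint Z) = ξ := by
  let I := Scheme.IdealSheafData.vanishingIdeal (⟨closure {ξ}, isClosed_closure⟩ : Closeds X)
  haveI := DVRCrit.isReduced_vanishingIdeal (⟨closure {ξ}, isClosed_closure⟩ : Closeds X)
  have hr : Set.range I.subschemeι = closure {ξ} := by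
    rw [Scheme.IdealSheafData.range_subschemeι, Scheme.IdealSheafData.coe_support_vanishingIdeal]
    rfl
  obtain ⟨z, hz⟩ : ξ ∈ Set.range I.subschemeι := hr ▸ subset_closure rfl
  have hgen : ∀ w : I.subscheme, z ⤳ w := fun w => by
    rw [← I.subschemeι.isClosedEmbedding.isEmbedding.isInducing.specializes_iff, hz,
      specializes_iff_mem_closure]
    exact hr ▸ ⟨w, rfl⟩
  have hz' : IsGenericPoint z (Set.univ : Set I.subscheme) :=
    isGenericPoint_iff_specializes.2 fun w => ⟨fun _ => trivial, fun _ => hgen w⟩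
  haveI : IrreducibleSpace I.subscheme :=
    (irreducibleSpace_def _).2 hz'.isIrreducible
  haveI : IsIntegral I.subscheme := isIntegral_of_irreducibleSpace_of_isReduced _
  refine ⟨I.subscheme, I.subschemeι, inferInstance, inferInstance, hr, ?_⟩
  rw [← hz]
  exact congrArg _ ((genericPoint_spec _).eq hz')

lemma unit_germ_congr (Z : Scheme.{u}) {U V : Z.Opens} {z : Z} (hU : z ∈ U) (hV : z ∈ V)
    (a : Γ(Z, U)) (b : Γ(Z, V)) :
    (Coh.structureModule Z).presheaf.germ U z hU a = (Coh.structureModule Z).presheaf.germ V z hV b ↔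
      Z.presheaf.germ U z hU a = Z.presheaf.germ V z hV b := by
  constructor
  · intro h
    obtain ⟨W, hW, i₁, i₂, e⟩ := TopCat.Presheaf.germ_eq (Coh.structureModule Z).presheaf z hU hV a b h
    rw [← Z.presheaf.germ_res_apply i₁ z hW, ← Z.presheaf.germ_res_apply i₂ z hW]
    exact congrArg (Z.presheaf.germ W z hW) e
  · intro h
    obtain ⟨W, hW, i₁, i₂, e⟩ := TopCat.Presheaf.germ_eq Z.presheaf z hU hV a b h
    rw [← (Coh.structureModule Z).presheaf.germ_res_apply i₁ z hW,
      ← (Coh.structureModule Z).presheaf.germ_res_apply i₂ z hW]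
    exact congrArg ((Coh.structureModule Z).presheaf.germ W z hW) e

variable {Z : Scheme.{u}} (i : Z ⟶ X) [IsClosedImmersion i] [IsIntegral Z]

lemma specializes_of_mem_range {y : X} (hy : y ∈ Set.range i) : i (genericPoint Z) ⤳ y := by
  obtain ⟨z, rfl⟩ := hy
  exact ((genericPoint_spec Z).specializes trivial).map i.continuous

/-- The structure sheaf of an integral closed subscheme is a piece. -/
theorem isPiece_pushUnit : IsPiece (i (genericPoint Z))
    ((Scheme.Modules.pushforward i).obj (Coh.structureModule Z)) where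
  coh := isCoh_pushforward_closed i (isCoh_structureModule Z)
  supp y hy := specializes_of_mem_range i
    (by_contra fun h => hy (subsingleton_stalk_pushforward i _ y h))
  simple := by
    let ξ := i (genericPoint Z)
    let N := (Scheme.Modules.pushforward i).obj (Coh.structureModule Z)
    let e := pushStalk i (Coh.structureModule Z) (genericPoint Z)
    have he := bijective_pushStalk i (Coh.structureModule Z) (genericPoint Z)
    haveI : Nontrivial (N.presheaf.stalk ξ) := by
      obtain ⟨n, hn⟩ := he.2 ((Coh.structureModule Z).presheaf.germ ⊤ (genericPoint Z) trivial (1 : Γ(Z, ⊤)))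
      refine ⟨n, 0, fun h => one_ne_zero (α := Z.presheaf.stalk (genericPoint Z)) ?_⟩
      rw [← map_one (Z.presheaf.germ ⊤ (genericPoint Z) trivial).hom,
        ← map_zero (Z.presheaf.germ ⊤ (genericPoint Z) trivial).hom]
      refine (unit_germ_congr Z _ _ _ _).1 (hn.symm.trans ?_)
      rw [h]
      exact (map_zero e).trans (map_zero _).symm
    refine isSimpleModule_iff_toSpanSingleton_surjective.2 ⟨inferInstance, fun m hm y => ?_⟩
    obtain ⟨U, hU, a, ha⟩ := TopCat.Presheaf.exists_germ_eq (Coh.structureModule Z).presheaf (e m)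
    obtain ⟨V, hV, b, hb⟩ := TopCat.Presheaf.exists_germ_eq (Coh.structureModule Z).presheaf (e y)
    have hau : Z.presheaf.germ U (genericPoint Z) hU a ≠ 0 := fun h => hm (he.1 (by
      refine (ha.symm.trans ?_).trans (map_zero e).symm
      exact ((unit_germ_congr Z hU hU a 0).2 (h.trans (map_zero _).symm)).trans (map_zero _)))
    obtain ⟨c, hc⟩ := i.stalkMap_surjective (genericPoint Z)
      ((show Z.functionField from Z.presheaf.germ V (genericPoint Z) hV b) *
        (show Z.functionField from Z.presheaf.germ U (genericPoint Z) hU a)⁻¹)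
    refine ⟨c, he.1 ((pushStalk_smul i _ _ c m).trans ?_)⟩
    obtain ⟨W, hW, g, hg⟩ := TopCat.Presheaf.exists_germ_eq Z.presheaf (i.stalkMap (genericPoint Z) c)
    show i.stalkMap (genericPoint Z) c • e m = e y
    rw [← hg, ← ha, ← hb]
    have hx : genericPoint Z ∈ W ⊓ U := ⟨hW, hU⟩
    rw [← Z.presheaf.germ_res_apply (homOfLE (inf_le_left : W ⊓ U ≤ W)) (genericPoint Z) hx g,
      ← (Coh.structureModule Z).presheaf.germ_res_apply (homOfLE (inf_le_right : W ⊓ U ≤ U)) (genericPoint Z) hx a]
    refine (PresheafOfModules.germ_smul (R := Z.presheaf) (Coh.structureModule Z).val (genericPoint Z)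
      (W ⊓ U) hx _ _).symm.trans ?_
    refine (unit_germ_congr Z hx hV _ b).2 ?_
    show Z.presheaf.germ (W ⊓ U) (genericPoint Z) hx
      (Z.presheaf.map (homOfLE (inf_le_left : W ⊓ U ≤ W)).op g *
        Z.presheaf.map (homOfLE (inf_le_right : W ⊓ U ≤ U)).op a) = _
    rw [map_mul, Z.presheaf.germ_res_apply, Z.presheaf.germ_res_apply, hg, hc]
    exact inv_mul_cancel_right₀ (b := (show Z.functionField from Z.presheaf.germ U (genericPoint Z) hU a)) hau _
  tf V s hs := by
    by_cases hV : Nonempty (i ⁻¹ᵁ V : Z.Opens)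
    · have hgV : genericPoint Z ∈ i ⁻¹ᵁ V :=
        ((genericPoint_spec Z).mem_open_set_iff (i ⁻¹ᵁ V).isOpen).2
          (by rw [Set.univ_inter]; exact ⟨_, hV.some.2⟩)
      have h := (pushStalk_germ i (Coh.structureModule Z) (genericPoint Z) (W := V) hgV s).symm.trans
        ((congrArg _ (hs hgV)).trans (map_zero _))
      exact (germ_injective_of_isIntegral Z (genericPoint Z) hgV)
        ((unit_germ_congr Z hgV hgV s 0).1 (h.trans (map_zero _).symm))
    · refine TopCat.Sheaf.eq_of_locally_eq' ⟨(Coh.structureModule Z).presheaf, (Coh.structureModule Z).isSheaf⟩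
        (fun e : Empty => e.elim) (i ⁻¹ᵁ V) (fun e => e.elim) (fun z hz => absurd ⟨⟨z, hz⟩⟩ hV) _ _ fun e => e.elim

/-- Quasi-coherent submodules of `i_* O_Z` are direct images of ideals. -/
theorem exists_ideal_of_mono {H : X.Modules} (q : H ⟶ (Scheme.Modules.pushforward i).obj (Coh.structureModule Z))
    [Mono q] (hH : Coh.IsQCoh H) :
    ∃ (I : Z.Modules) (ι : I ⟶ Coh.structureModule Z), Mono ι ∧ Coh.IsQCoh I ∧
      Nonempty ((Coh.push i).obj I ≅ H) := by
  have hs : SuppOn i H := by
    have hN := suppOn_pushforward i (Coh.structureModule Z)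
    have hinj := (mono_iff_stalk q).1 inferInstance
    exact ⟨fun y hy => haveI := hN.subsingleton y hy; (hinj y).subsingleton,
      fun x a ha z => hinj _ (by rw [map_smul, hN.smul_eq_zero x a ha, map_zero])⟩
  haveI := isIso_unit_of_suppOn i hs
  let adj := Scheme.Modules.pullbackPushforwardAdjunction i
  let ψ : (Scheme.Modules.pullback i).obj H ⟶ Coh.structureModule Z :=
    (adj.homEquiv H (Coh.structureModule Z)).symm q
  have hq : adj.unit.app H ≫ (Scheme.Modules.pushforward i).map ψ = q :=
    (adj.homEquiv_unit H (Coh.structureModule Z) ψ).symm.trans (Equiv.apply_symm_apply _ q)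
  haveI : Mono ((Scheme.Modules.pushforward i).map ψ) := by
    rw [show (Scheme.Modules.pushforward i).map ψ = inv (adj.unit.app H) ≫ q by
      rw [← hq, IsIso.inv_hom_id_assoc]]
    infer_instance
  refine ⟨_, ψ, ⟨fun {W} a b h => ?_⟩, isQCoh_pullback i H, ⟨(asIso (adj.unit.app H)).symm⟩⟩
  have h' : (Scheme.Modules.pushforward i).map a = (Scheme.Modules.pushforward i).map b :=
    (cancel_mono ((Scheme.Modules.pushforward i).map ψ)).1 (by rw [← Functor.map_comp, h, Functor.map_comp])
  haveI := isIso_counit_closedImmersion i W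
  refine (cancel_epi (adj.counit.app W)).1 ?_
  exact (adj.counit.naturality a).symm.trans
    ((congrArg (fun k => (Scheme.Modules.pullback i).map k ≫ adj.counit.app _) h').trans
      (adj.counit.naturality b))

end Groth.Agent.DevLib
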