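import Groth.Agent.DevLib.Engine
import Groth.Agent.DevLib.Closed

/-!
# Forms of dévissage
-/

set_option autoImplicit false

universe u

open CategoryTheory CategoryTheory.Limits AlgebraicGeometry TopologicalSpace Opposite
open Groth.Agent.PullbackMod Groth.Agent.QCohLib

noncomputable section

namespace Groth.Agent.DevLib

variable {X : Scheme.{u}}

lemma isIso_subAtι_top {M : X.Modules} (ξ : X) :
    IsIso (subAtι (⊤ : Submodule (X.presheaf.stalk ξ) (M.presheaf.stalk ξ))) := by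
  refine (isIso_iff_stalk _).2 fun y => ⟨injective_stalk_subAtι _ y, fun z => ?_⟩
  obtain ⟨U, hy, s, rfl⟩ := TopCat.Presheaf.exists_germ_eq M.presheaf z
  obtain ⟨t, rfl⟩ := (exists_app_subAtι (⊤ : Submodule (X.presheaf.stalk ξ) (M.presheaf.stalk ξ)) U s).2
    fun _ => trivial
  exact ⟨(subAt _).presheaf.germ U y hy t, stalkLin_germ _ _ _ _⟩

lemma notMem_support_coker {M N : X.Modules} (f : M ⟶ N) [Mono f] {ξ : X}
    (h : Function.Surjective (stalkLin f ξ)) : ξ ∉ CohB1.support (cokernel f) :=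
  fun h' => h' (subsingleton_coker f h)

variable [IsLocallyNoetherian X] {ξ : X}

/-- A coherent module with simple generic stalk maps onto a piece. -/
theorem exists_piece {G : X.Modules} (hG : Coh.IsCoh G) (hsupp : ∀ y ∈ CohB1.support G, ξ ⤳ y)
    (hsimple : IsSimpleModule (X.presheaf.stalk ξ) (G.presheaf.stalk ξ)) :
    ∃ (S : ShortComplex X.Modules), S.ShortExact ∧ Coh.IsCoh S.X₁ ∧ Coh.IsCoh S.X₂ ∧ IsPiece ξ S.X₃ ∧
      (∀ y ∈ CohB1.support S.X₁, ξ ⤳ y) ∧ ξ ∉ CohB1.support S.X₁ ∧ Nonempty (S.X₂ ≅ G) := by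
  haveI := hG.1
  have hB : Absorbs (⊥ : Submodule (X.presheaf.stalk ξ) (G.presheaf.stalk ξ)) :=
    absorbs_bot (W₀ := ⊤) trivial fun y _ hy => hsupp y hy
  let j := subAtMap (bot_le : (⊥ : Submodule (X.presheaf.stalk ξ) (G.presheaf.stalk ξ)) ≤ ⊤)
  have hs : IsSimpleModule (X.presheaf.stalk ξ)
      (↥(⊤ : Submodule (X.presheaf.stalk ξ) (G.presheaf.stalk ξ)) ⧸
        (⊥ : Submodule (X.presheaf.stalk ξ) (G.presheaf.stalk ξ)).comap (Submodule.subtype _)) :=
    IsSimpleModule.congr ((Submodule.quotEquivOfEqBot _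
      (by rw [Submodule.comap_bot, Submodule.ker_subtype])).trans Submodule.topEquiv)
  have hp := isPiece_coker hG hB bot_le hsupp hs j (subAtMap_ι _)
  have hi := isIso_subAtι_top (M := G) ξ
  exact ⟨cokerSeq j, cokerSeq_shortExact j, isCoh_subAt hG hB, isCoh_subAt hG (hB.mono bot_le), hp,
    fun y hy => hsupp y (support_subset_of_mono (subAtι _) hy), subsingleton_subAt_bot,
    ⟨@asIso _ _ _ _ _ hi⟩⟩

lemma subset_of_specializes {T : Set X} (hT : closure {ξ} ⊆ T) {M : X.Modules}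
    (h : ∀ y ∈ CohB1.support M, ξ ⤳ y) : CohB1.support M ⊆ T :=
  fun y hy => hT (specializes_iff_mem_closure.1 (h y hy))

lemma supp_coker {M N : X.Modules} (f : M ⟶ N) [Mono f] (h : ∀ y ∈ CohB1.support N, ξ ⤳ y) :
    ∀ y ∈ CohB1.support (cokernel f), ξ ⤳ y := fun y hy => h y (support_coker_subset f hy)

/-- Closure under extensions suffices when the pieces inject into a module whose submodules are good. -/
theorem piece_of_ext (T : Set X) (hξ : closure {ξ} ⊆ T) (P : X.Modules → Prop)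
    (hext : ∀ S : ShortComplex X.Modules, S.ShortExact → Coh.IsCoh S.X₁ → Coh.IsCoh S.X₂ →
      Coh.IsCoh S.X₃ → CohB1.support S.X₂ ⊆ T → P S.X₁ → P S.X₃ → P S.X₂)
    {G : X.Modules} (hG : IsPiece ξ G)
    (hsub : ∀ (H : X.Modules) (q : H ⟶ G), Mono q → Coh.IsCoh H → P H)
    {Q : X.Modules} (hQ : IsPiece ξ Q) (hsm : SmallerOK P ξ) : P Q := by
  obtain ⟨H, p, q, hH, hp, hq, hps, -⟩ := exists_common hQ hG
  have hc := (isCoh_kernel_cokernel p hH hQ.coh).2
  exact hext (cokerSeq p) (cokerSeq_shortExact p) hH hQ.coh hc (subset_of_specializes hξ hQ.supp)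
    (hsub H q hq hH) (hsm _ hc (supp_coker p hQ.supp) (notMem_support_coker p hps))

/-- Closure under two out of three suffices when some module with simple generic stalk is good. -/
theorem piece_of_two_three (T : Set X) (hξ : closure {ξ} ⊆ T) (P : X.Modules → Prop)
    (hiso : ∀ M N : X.Modules, Nonempty (M ≅ N) → P M → P N)
    (h : ∀ S : ShortComplex X.Modules, S.ShortExact → Coh.IsCoh S.X₁ → Coh.IsCoh S.X₂ → Coh.IsCoh S.X₃ →
      CohB1.support S.X₂ ⊆ T →
      (P S.X₁ → P S.X₂ → P S.X₃) ∧ (P S.X₁ → P S.X₃ → P S.X₂) ∧ (P S.X₂ → P S.X₃ → P S.X₁))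
    {G : X.Modules} (hG : Coh.IsCoh G) (hsupp : ∀ y ∈ CohB1.support G, ξ ⤳ y)
    (hsimple : IsSimpleModule (X.presheaf.stalk ξ) (G.presheaf.stalk ξ)) (hPG : P G)
    {Q : X.Modules} (hQ : IsPiece ξ Q) (hsm : SmallerOK P ξ) : P Q := by
  obtain ⟨S, hS, h1, h2, h3, hs1, hn1, ⟨e⟩⟩ := exists_piece hG hsupp hsimple
  have hS3 : P S.X₃ := (h S hS h1 h2 h3.coh ((support_X₂ hS).subset.trans
    (Set.union_subset (subset_of_specializes hξ hs1) (subset_of_specializes hξ h3.supp)))).1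
    (hsm _ h1 hs1 hn1) (hiso _ _ ⟨e.symm⟩ hPG)
  obtain ⟨H, p, q, hH, hp, hq, hps, hqs⟩ := exists_common hQ h3
  have hcp := (isCoh_kernel_cokernel p hH hQ.coh).2
  have hcq := (isCoh_kernel_cokernel q hH h3.coh).2
  have hPH : P H := (h (cokerSeq q) (cokerSeq_shortExact q) hH h3.coh hcq
    (subset_of_specializes hξ h3.supp)).2.2 hS3 (hsm _ hcq (supp_coker q h3.supp) (notMem_support_coker q hqs))
  exact (h (cokerSeq p) (cokerSeq_shortExact p) hH hQ.coh hcp (subset_of_specializes hξ hQ.supp)).2.1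
    hPH (hsm _ hcp (supp_coker p hQ.supp) (notMem_support_coker p hps))

omit [IsLocallyNoetherian X] in
/-- From two out of three, zero modules are good as soon as some coherent module is. -/
theorem zero_of_two_three (T : Set X) (P : X.Modules → Prop)
    (hiso : ∀ M N : X.Modules, Nonempty (M ≅ N) → P M → P N)
    (h : ∀ S : ShortComplex X.Modules, S.ShortExact → Coh.IsCoh S.X₁ → Coh.IsCoh S.X₂ → Coh.IsCoh S.X₃ →
      CohB1.support S.X₂ ⊆ T →
      (P S.X₁ → P S.X₂ → P S.X₃) ∧ (P S.X₁ → P S.X₃ → P S.X₂) ∧ (P S.X₂ → P S.X₃ → P S.X₁))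
    {G : X.Modules} (hG : Coh.IsCoh G) (hT : CohB1.support G ⊆ T) (hPG : P G)
    (M : X.Modules) (hM : IsZero M) : P M := by
  let C := cokernel (𝟙 G)
  have hC : IsZero C := isZero_cokernel_of_epi _
  have hcoh : Coh.IsCoh C := by
    haveI : Coh.IsQCoh C := (isQCoh_image (𝟙 G) hG.1 hG.1).2
    refine isCoh_of_finite C fun W _ => ?_
    haveI : Subsingleton Γ(C, W) := subsingleton_of_forall_eq 0 fun t =>
      congrArg (fun g => g.app W t) (hC.eq_of_src (𝟙 C) 0)
    infer_instance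
  exact hiso C M ⟨hC.iso hM⟩
    ((h (cokerSeq (𝟙 G)) (cokerSeq_shortExact _) hG hG hcoh hT).1 hPG hPG)

end Groth.Agent.DevLib
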