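import Groth.Agent.PullbackMod.SuppClosed
import Groth.Agent.PullbackMod.OpenLocus
import Groth.Agent.QCohLib.Coherent
import Groth.Agent.GenFree.Open
import Groth.Prelude.Def_CohB1

/-!
# Submodules cut out by a condition on one stalk
-/

set_option autoImplicit false

universe u

open CategoryTheory CategoryTheory.Limits AlgebraicGeometry TopologicalSpace Opposite
open Groth.Agent.PullbackMod Groth.Agent.CohBase Groth.Agent.QCohLib

noncomputable section

namespace Groth.Agent.DevLib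

variable {X : Scheme.{u}}

lemma stalkLin_add {M N : X.Modules} (φ ψ : M ⟶ N) (x : X) :
    stalkLin (φ + ψ) x = stalkLin φ x + stalkLin ψ x := by
  refine LinearMap.ext fun z => ?_
  obtain ⟨U, hx, m, rfl⟩ := TopCat.Presheaf.exists_germ_eq M.presheaf z
  rw [LinearMap.add_apply, stalkLin_germ, stalkLin_germ, stalkLin_germ, ← map_add]
  rfl

lemma stalkLin_zero {M N : X.Modules} (x : X) : stalkLin (0 : M ⟶ N) x = 0 :=
  (eq_zero_iff_stalk 0).1 rfl x

lemma mem_support_iff {M : X.Modules} {x : X} :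
    x ∈ CohB1.support M ↔ ¬ Subsingleton (M.presheaf.stalk x) := Iff.rfl

lemma subsingleton_of_notMem {M : X.Modules} {x : X} (h : x ∉ CohB1.support M) :
    Subsingleton (M.presheaf.stalk x) := not_not.1 h

lemma germ_eq_zero_of_notMem {M : X.Modules} {x : X} (h : x ∉ CohB1.support M) {V : X.Opens}
    (hx : x ∈ V) (s : Γ(M, V)) : M.presheaf.germ V x hx s = 0 :=
  (subsingleton_of_notMem h).elim _ _

lemma isClosed_support {M : X.Modules} (h : Coh.IsCoh M) : IsClosed (CohB1.support M) :=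
  isClosed_support_of_isFT h.2

lemma isZero_of_support_empty {M : X.Modules} (h : CohB1.support M = ∅) : IsZero M :=
  (IsZero.iff_id_eq_zero M).2 (hom_ext_stalk fun x => LinearMap.ext fun z =>
    (subsingleton_of_notMem (show x ∉ CohB1.support M by simp [h])).elim _ _)

section SES

variable {S : ShortComplex X.Modules} (hS : S.ShortExact)

include hS

lemma stalk_injective (x : X) : Function.Injective (stalkLin S.f x) :=
  haveI := hS.mono_f
  (mono_iff_stalk S.f).1 inferInstance x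

lemma stalk_surjective (x : X) : Function.Surjective (stalkLin S.g x) :=
  haveI := hS.epi_g
  (epi_iff_stalk S.g).1 inferInstance x

lemma stalk_exact (x : X) : Function.Exact (stalkLin S.f x) (stalkLin S.g x) := by
  intro z
  constructor
  · intro hz
    obtain ⟨U, hx, s, rfl⟩ := TopCat.Presheaf.exists_germ_eq S.X₂.presheaf z
    rw [stalkLin_germ] at hz
    obtain ⟨W, hW, i, i', hres⟩ := TopCat.Presheaf.germ_eq S.X₃.presheaf x hx hx (S.g.app U s) 0
      (hz.trans (map_zero _).symm)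
    obtain ⟨t, ht⟩ := app_exact hS W (S.X₂.presheaf.map (homOfLE i.le).op s)
      ((app_res S.g i.le s).trans (hres.trans (map_zero _)))
    refine ⟨S.X₁.presheaf.germ W x hW t, ?_⟩
    rw [stalkLin_germ, ht]
    exact S.X₂.presheaf.germ_res_apply _ x hW s
  · rintro ⟨w, rfl⟩
    rw [← LinearMap.comp_apply, ← stalkLin_comp, S.zero, stalkLin_zero]
    rfl

lemma support_X₂ : CohB1.support S.X₂ = CohB1.support S.X₁ ∪ CohB1.support S.X₃ := by
  ext x
  simp only [Set.mem_union, mem_support_iff]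
  constructor
  · intro h
    by_contra hc
    rw [not_or, not_not, not_not] at hc
    obtain ⟨h1, h3⟩ := hc
    refine h (subsingleton_of_forall_eq 0 fun z => ?_)
    obtain ⟨w, rfl⟩ := (stalk_exact hS x z).1 (Subsingleton.elim _ _)
    rw [Subsingleton.elim w 0, map_zero]
  · rintro (h | h) hc
    · exact h ((stalk_injective hS x).subsingleton)
    · exact h (stalk_surjective hS x).subsingleton

end SES

lemma not_specializes_iff {ξ y : X} : ¬ ξ ⤳ y ↔ ∃ W : X.Opens, y ∈ W ∧ ξ ∉ W := by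
  rw [specializes_iff_forall_open]
  push Not
  exact ⟨fun ⟨s, hs, h1, h2⟩ => ⟨⟨s, hs⟩, h1, h2⟩, fun ⟨W, h1, h2⟩ => ⟨W, W.2, h1, h2⟩⟩

variable {M : X.Modules} {ξ : X} (S : Submodule (X.presheaf.stalk ξ) (M.presheaf.stalk ξ))

/-- Sections whose germ at `ξ` lies in `S`. -/
def subAt : X.Modules := kernel (toSky S.mkQ)

/-- The inclusion. -/
def subAtι : subAt S ⟶ M := kernel.ι _

instance mono_subAtι : Mono (subAtι S) := inferInstanceAs (Mono (kernel.ι _))

lemma exists_app_subAtι (V : X.Opens) (s : Γ(M, V)) :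
    (∃ t, (subAtι S).app V t = s) ↔ ∀ hx : ξ ∈ V, M.presheaf.germ V ξ hx s ∈ S := by
  constructor
  · rintro ⟨t, rfl⟩ hx
    rw [← Submodule.Quotient.mk_eq_zero S]
    have h := congr($(kernel.condition (toSky S.mkQ)).app V t)
    exact congrFun h ⟨hx⟩
  · intro h
    refine kernel_app_exact (toSky S.mkQ) V s (funext fun hx => ?_)
    exact (Submodule.Quotient.mk_eq_zero S).2 (h hx.down)

lemma subAtι_app_injective (V : X.Opens) : Function.Injective ((subAtι S).app V) := by
  haveI := (toAbF X).map_mono (subAtι S)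
  exact sections_injective ((toAbF X).map (subAtι S)) V

lemma range_stalk_subAtι : LinearMap.range (stalkLin (subAtι S) ξ) = S := by
  refine le_antisymm ?_ fun z hz => ?_
  · rintro _ ⟨w, rfl⟩
    obtain ⟨U, hx, t, rfl⟩ := TopCat.Presheaf.exists_germ_eq (subAt S).presheaf w
    rw [stalkLin_germ]
    exact (exists_app_subAtι S U _).1 ⟨t, rfl⟩ hx
  · obtain ⟨U, hx, s, rfl⟩ := TopCat.Presheaf.exists_germ_eq M.presheaf z
    obtain ⟨t, rfl⟩ := (exists_app_subAtι S U s).2 fun _ => hz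
    exact ⟨(subAt S).presheaf.germ U ξ hx t, stalkLin_germ _ _ _ _⟩

lemma surjective_stalk_subAtι {y : X} (hy : ¬ ξ ⤳ y) :
    Function.Surjective (stalkLin (subAtι S) y) := by
  intro z
  obtain ⟨U, hyU, s, rfl⟩ := TopCat.Presheaf.exists_germ_eq M.presheaf z
  obtain ⟨W, hyW, hξW⟩ := not_specializes_iff.1 hy
  obtain ⟨t, ht⟩ := (exists_app_subAtι S (U ⊓ W) (M.presheaf.map (homOfLE inf_le_left).op s)).2
    fun hx => absurd hx.2 hξW
  refine ⟨(subAt S).presheaf.germ (U ⊓ W) y (show y ∈ U ⊓ W from ⟨hyU, hyW⟩) t, ?_⟩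
  rw [stalkLin_germ, ht]
  exact M.presheaf.germ_res_apply _ y _ s

lemma injective_stalk_subAtι (y : X) : Function.Injective (stalkLin (subAtι S) y) :=
  (mono_iff_stalk _).1 inferInstance y

/-- The stalk condition for quasi-coherence of `subAt`. -/
def Absorbs : Prop :=
  ∀ a ∈ IsLocalRing.maximalIdeal (X.presheaf.stalk ξ), ∀ z : M.presheaf.stalk ξ, ∃ k : ℕ, a ^ k • z ∈ S

variable {S}

theorem Absorbs.mono {S' : Submodule (X.presheaf.stalk ξ) (M.presheaf.stalk ξ)} (h : Absorbs S)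
    (hle : S ≤ S') : Absorbs S' := fun a ha z =>
  let ⟨k, hk⟩ := h a ha z
  ⟨k, hle hk⟩

theorem isQCoh_subAt [Coh.IsQCoh M] (hS : Absorbs S) : Coh.IsQCoh (subAt S) := by
  rw [isQCoh_iff]
  intro W hW
  have l := locAt M hW
  constructor
  · intro f t
    obtain ⟨n, s, hs⟩ := l.extend f ((subAtι S).app _ t)
    by_cases hξW : ξ ∈ W
    · by_cases hξf : ξ ∈ X.basicOpen f
      · obtain ⟨s', rfl⟩ := (exists_app_subAtι S W s).2 fun _ => by
          have e := congrArg (M.presheaf.germ (X.basicOpen f) ξ hξf) hs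
          rw [← app_sc, M.presheaf.germ_res_apply] at e
          rw [e]
          exact (exists_app_subAtι S _ _).1 ⟨_, rfl⟩ hξf
        exact ⟨n, s', subAtι_app_injective S _ ((app_res _ _ _).trans (hs.trans (app_sc _ _ _ _).symm))⟩
      · have ha : X.presheaf.germ W ξ hξW f ∈ IsLocalRing.maximalIdeal (X.presheaf.stalk ξ) := by
          rw [IsLocalRing.mem_maximalIdeal, mem_nonunits_iff]
          exact fun hu => hξf ((X.mem_basicOpen f ξ hξW).2 hu)
        obtain ⟨k, hk⟩ := hS _ ha (M.presheaf.germ W ξ hξW s)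
        obtain ⟨s', hs'⟩ := (exists_app_subAtι S W (sc (f ^ k) le_rfl s)).2 fun _ => by
          rw [sc_le_rfl]
          refine (congrArg (· ∈ S) ?_).mpr hk
          rw [← map_pow]
          exact PresheafOfModules.germ_smul (R := X.presheaf) M.val ξ W hξW (f ^ k) s
        refine ⟨k + n, s', subAtι_app_injective S _ ?_⟩
        rw [app_res, hs', map_sc, hs, app_sc, pow_add, sc_mul]
    · obtain ⟨s', rfl⟩ := (exists_app_subAtι S W s).2 fun hx => absurd hx hξW
      exact ⟨n, s', subAtι_app_injective S _ ((app_res _ _ _).trans (hs.trans (app_sc _ _ _ _).symm))⟩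
  · intro f s hs
    obtain ⟨n, hn⟩ := l.kill f ((subAtι S).app W s) (by rw [← app_res, hs, map_zero])
    exact ⟨n, subAtι_app_injective S _ (by rw [app_sc, hn, map_zero])⟩

theorem isCoh_subAt [IsLocallyNoetherian X] (hM : Coh.IsCoh M) (hS : Absorbs S) :
    Coh.IsCoh (subAt S) :=
  haveI := hM.1
  isCoh_of_mono (subAtι S) hM (isQCoh_subAt hS)

/-- At a maximal point of the support, the zero submodule absorbs. -/
theorem absorbs_bot [Coh.IsQCoh M] {W₀ : X.Opens} (hξ : ξ ∈ W₀)
    (h : ∀ y ∈ W₀, y ∈ CohB1.support M → ξ ⤳ y) :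
    Absorbs (⊥ : Submodule (X.presheaf.stalk ξ) (M.presheaf.stalk ξ)) := by
  intro a ha z
  obtain ⟨V, hV, a, rfl⟩ := TopCat.Presheaf.exists_germ_eq X.presheaf a
  obtain ⟨U, hU, s, rfl⟩ := TopCat.Presheaf.exists_germ_eq M.presheaf z
  obtain ⟨_, ⟨W : X.Opens, (hW : IsAffineOpen W), rfl⟩, hξW, hWle⟩ :=
    X.isBasis_affineOpens.exists_subset_of_mem_open (a := ξ) (show ξ ∈ V ⊓ U ⊓ W₀ from ⟨⟨hV, hU⟩, hξ⟩)
      (V ⊓ U ⊓ W₀).2
  have hWV : W ≤ V := fun y hy => (hWle hy).1.1
  have hWU : W ≤ U := fun y hy => (hWle hy).1.2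
  obtain ⟨f, hf⟩ : ∃ f, X.presheaf.map (homOfLE hWV).op a = f := ⟨_, rfl⟩
  obtain ⟨m, hm⟩ : ∃ m, M.presheaf.map (homOfLE hWU).op s = m := ⟨_, rfl⟩
  rw [← X.presheaf.germ_res_apply (homOfLE hWV) ξ hξW a, hf] at ha ⊢
  rw [← M.presheaf.germ_res_apply (homOfLE hWU) ξ hξW s, hm]
  obtain ⟨n, hn⟩ := (locAt M hW).kill f m (by
    refine TopCat.Presheaf.section_ext (⟨M.presheaf, M.isSheaf⟩ : TopCat.Sheaf Ab X) _ _ _ fun y hy => ?_
    refine (germ_eq_zero_of_notMem (fun hys => ?_) hy _).trans (map_zero _).symm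
    have hξf : ξ ∈ X.basicOpen f :=
      (h y (hWle (X.basicOpen_le f hy)).2 hys).mem_open (X.basicOpen f).2 hy
    exact (IsLocalRing.mem_maximalIdeal _).1 ha ((X.mem_basicOpen f ξ hξW).1 hξf))
  refine ⟨n, (Submodule.mem_bot _).2 ?_⟩
  rw [sc_le_rfl] at hn
  rw [← map_pow]
  refine (PresheafOfModules.germ_smul (R := X.presheaf) M.val ξ W hξW (f ^ n) m).symm.trans ?_
  exact (congrArg (M.presheaf.germ W ξ hξW) hn).trans (map_zero _)

end Groth.Agent.DevLib
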