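import Groth.Agent.DevLib.Power

/-!
# Torsion-free submodules
-/

set_option autoImplicit false

universe u

open CategoryTheory CategoryTheory.Limits AlgebraicGeometry TopologicalSpace Opposite
open Groth.Agent.PullbackMod Groth.Agent.QCohLib

noncomputable section

namespace Groth.Agent.DevLib

variable {X : Scheme.{u}} {ξ : X}

/-- Avoiding the finite length part at a point: a local Artin–Rees. -/
theorem exists_avoid {R : Type u} [CommRing R] [IsNoetherianRing R] (m : Ideal R) {M : Type u}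
    [AddCommGroup M] [Module R M] [Module.Finite R M] (N : Submodule R M)
    (hN : ∀ a ∈ m, ∀ z : N, ∃ k : ℕ, a ^ k • z = 0) :
    ∃ c : ℕ, m ^ c • (⊤ : Submodule R M) ⊓ N = ⊥ := by
  haveI : Module.Finite R N := inferInstance
  have hrad : m ≤ (Module.annihilator R N).radical := fun a ha => by
    obtain ⟨s, hs⟩ := (Module.Finite.fg_top : (⊤ : Submodule R N).FG)
    choose k hk using fun z => hN a ha z
    refine ⟨s.sup k, Module.mem_annihilator.2 fun z => ?_⟩
    have hz : z ∈ Submodule.span R (s : Set N) := hs ▸ Submodule.mem_top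
    induction hz using Submodule.span_induction with
    | mem z hz =>
      obtain ⟨l, hl⟩ := Nat.exists_eq_add_of_le (Finset.le_sup (f := k) hz)
      rw [hl, pow_add, mul_comm, mul_smul, hk, smul_zero]
    | zero => exact smul_zero _
    | add p q _ _ hp hq => rw [smul_add, hp, hq, add_zero]
    | smul b p _ hp => rw [smul_comm, hp, smul_zero]
  obtain ⟨l, hl⟩ := Ideal.exists_pow_le_of_le_radical_of_fg hrad (IsNoetherian.noetherian m)
  obtain ⟨c₀, hc⟩ := Ideal.exists_pow_inf_eq_pow_smul m N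
  refine ⟨c₀ + l, eq_bot_iff.2 ?_⟩
  rw [hc _ (Nat.le_add_right _ _), Nat.add_sub_cancel_left]
  refine (Submodule.smul_mono le_rfl inf_le_right).trans ?_
  rw [Submodule.smul_le]
  intro a ha z hz
  rw [Submodule.mem_bot]
  exact congrArg Subtype.val (Module.mem_annihilator.1 (hl ha) ⟨z, hz⟩)

/-- A coherent module contains a torsion-free submodule with the same generic stalk. -/
theorem exists_tfSub [AlgebraicGeometry.IsNoetherian X] {G : X.Modules} (hG : Coh.IsCoh G)
    (hsupp : ∀ y ∈ CohB1.support G, ξ ⤳ y) :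
    ∃ (L : X.Modules) (i : L ⟶ G), Coh.IsCoh L ∧ Mono i ∧ IsTF ξ L ∧ Function.Surjective (stalkLin i ξ) := by
  haveI := hG.1
  have hB : Absorbs (⊥ : Submodule (X.presheaf.stalk ξ) (G.presheaf.stalk ξ)) :=
    absorbs_bot (W₀ := ⊤) trivial fun y _ hy => hsupp y hy
  suffices H : ∀ C : Closeds X, ∀ (G : X.Modules), Coh.IsCoh G → (∀ y ∈ CohB1.support G, ξ ⤳ y) →
      CohB1.support (subAt (⊥ : Submodule (X.presheaf.stalk ξ) (G.presheaf.stalk ξ))) ⊆ (C : Set X) →
      ∃ (L : X.Modules) (i : L ⟶ G), Coh.IsCoh L ∧ Mono i ∧ IsTF ξ L ∧ Function.Surjective (stalkLin i ξ) from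
    H ⟨_, isClosed_support (isCoh_subAt hG hB)⟩ G hG hsupp subset_rfl
  clear! G
  intro C
  induction C using WellFoundedLT.induction with
  | _ C IH =>
    intro G hG hsupp hC
    haveI := hG.1
    let B : Submodule (X.presheaf.stalk ξ) (G.presheaf.stalk ξ) := ⊥
    have hB : Absorbs B := absorbs_bot (W₀ := ⊤) trivial fun y _ hy => hsupp y hy
    have hNcoh := isCoh_subAt hG hB
    by_cases hne : (CohB1.support (subAt B)).Nonempty
    swap
    · refine ⟨G, 𝟙 G, hG, inferInstance, fun V s hs => ?_, fun z => ⟨z, by rw [stalkLin_id]; rfl⟩⟩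
      obtain ⟨t, rfl⟩ := (exists_app_subAtι B V s).2 fun hx => (Submodule.mem_bot _).2 (hs hx)
      rw [(isZero_of_support_empty (Set.not_nonempty_iff_eq_empty.1 hne)).eq_of_src (subAtι B) 0]
      rfl
    obtain ⟨η, hη, W₀, hηW, hW₀⟩ := exists_top_point (isClosed_support hNcoh) hne
    haveI := hNcoh.1
    haveI := finite_stalk_of_isFT hG.2 η
    obtain ⟨c, hc⟩ := exists_avoid (IsLocalRing.maximalIdeal (X.presheaf.stalk η))
      (LinearMap.range (stalkLin (subAtι B) η)) fun a ha z => by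
        obtain ⟨w, hw⟩ := z.2
        obtain ⟨k, hk⟩ := absorbs_bot hηW hW₀ a ha w
        refine ⟨k, Subtype.ext ?_⟩
        rw [Submodule.coe_smul, ← hw, ← map_smul, (Submodule.mem_bot _).1 hk, map_zero]
        rfl
    let S : Submodule (X.presheaf.stalk η) (G.presheaf.stalk η) :=
      IsLocalRing.maximalIdeal (X.presheaf.stalk η) ^ c • ⊤
    have hS : Absorbs S := fun a ha z =>
      ⟨c, Submodule.smul_mem_smul (Ideal.pow_mem_pow ha c) Submodule.mem_top⟩
    have hG' := isCoh_subAt hG hS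
    have hsupp' : ∀ y ∈ CohB1.support (subAt S), ξ ⤳ y :=
      fun y hy => hsupp y (support_subset_of_mono (subAtι S) hy)
    have hηξ : ¬ η ⤳ ξ := fun h => subsingleton_subAt_bot (h.mem_closed (isClosed_support hNcoh) hη)
    have hsurj : Function.Surjective (stalkLin (subAtι S) ξ) := surjective_stalk_subAtι S hηξ
    haveI := hG'.1
    let B' : Submodule (X.presheaf.stalk ξ) ((subAt S).presheaf.stalk ξ) := ⊥
    have hB' : Absorbs B' := absorbs_bot (W₀ := ⊤) trivial fun y _ hy => hsupp' y hy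
    -- the torsion of `subAt S` sits in the torsion of `G`, away from `η`
    let k : subAt B' ⟶ subAt B := kernel.lift _ (subAtι B' ≫ subAtι S) (Scheme.Modules.hom_ext _ _ fun V =>
      AddCommGrpCat.hom_ext (AddMonoidHom.ext fun t => funext fun hx => by
        refine (Submodule.Quotient.mk_eq_zero B).2 ((Submodule.mem_bot _).2 ?_)
        show G.presheaf.germ V ξ hx.down ((subAtι S).app V ((subAtι B').app V t)) = 0
        rw [← stalkLin_germ, (Submodule.mem_bot _).1 ((exists_app_subAtι B' V _).1 ⟨t, rfl⟩ hx.down), map_zero]))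
    have hk : k ≫ subAtι B = subAtι B' ≫ subAtι S := kernel.lift_ι _ _ _
    haveI : Mono k := by
      haveI : Mono (k ≫ subAtι B) := by rw [hk]; infer_instance
      exact mono_of_mono k (subAtι B)
    have hsub : CohB1.support (subAt B') ⊆ CohB1.support (subAt B) := support_subset_of_mono k
    have hnot : η ∉ CohB1.support (subAt B') := fun h => h ⟨fun a b => by
      suffices h0 : ∀ v, v = (0 : (subAt B').presheaf.stalk η) by rw [h0 a, h0 b]
      intro v
      refine injective_stalk_subAtι B' η (injective_stalk_subAtι S η ?_)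
      rw [map_zero, map_zero, ← LinearMap.comp_apply, ← stalkLin_comp]
      have h1 : stalkLin (subAtι B' ≫ subAtι S) η v ∈
          (IsLocalRing.maximalIdeal (X.presheaf.stalk η) ^ c • (⊤ : Submodule _ (G.presheaf.stalk η))) ⊓
            LinearMap.range (stalkLin (subAtι B) η) :=
        ⟨(range_stalk_subAtι S).le ⟨_, by rw [stalkLin_comp]; rfl⟩, stalkLin k η v, by
          rw [← hk, stalkLin_comp]; rfl⟩
      rw [hc] at h1
      exact (Submodule.mem_bot _).1 h1⟩
    obtain ⟨L, i, hL, hi, htf, hLs⟩ := IH ⟨_, isClosed_support (isCoh_subAt hG' hB')⟩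
      (lt_of_le_of_ne (show CohB1.support (subAt B') ⊆ (C : Set X) from hsub.trans hC) fun he =>
        hnot (SetLike.ext_iff.1 he η |>.2 (hC hη))) (subAt S) hG' hsupp' subset_rfl
    refine ⟨L, i ≫ subAtι S, hL, inferInstance, htf, fun z => ?_⟩
    obtain ⟨w, rfl⟩ := hsurj z
    obtain ⟨v, rfl⟩ := hLs w
    exact ⟨v, by rw [stalkLin_comp]; rfl⟩

end Groth.Agent.DevLib

namespace Groth.Agent.DevLib

variable {X : Scheme.{u}}

/-- Powers as coproducts. -/
def powSigmaIso (Q : X.Modules) : ∀ k, powMod Q k ≅ (∐ fun _ : Fin (k + 1) => Q)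
  | 0 => {
      hom := Sigma.ι (fun _ : Fin 1 => Q) 0
      inv := Sigma.desc fun _ => 𝟙 Q
      hom_inv_id := Sigma.ι_desc _ _
      inv_hom_id := Sigma.hom_ext _ _ fun i => by
        rw [show i = (0 : Fin 1) from @Subsingleton.elim (Fin 1) _ i 0, Sigma.ι_desc_assoc]
        exact (Category.id_comp (Sigma.ι (fun _ : Fin 1 => Q) 0)).trans (Category.comp_id _).symm }
  | k + 1 => biprod.mapIso (Iso.refl Q) (powSigmaIso Q k) ≪≫
    { hom := biprod.desc (Sigma.ι (fun _ : Fin (k + 2) => Q) 0)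
        (Sigma.desc fun i => Sigma.ι (fun _ : Fin (k + 2) => Q) i.succ)
      inv := Sigma.desc (Fin.cases (motive := fun _ => Q ⟶ Q ⊞ ∐ fun _ : Fin (k + 1) => Q)
        biprod.inl fun i => Sigma.ι (fun _ : Fin (k + 1) => Q) i ≫ biprod.inr)
      hom_inv_id := biprod.hom_ext' _ _ (by simp) (Sigma.hom_ext _ _ fun i => by simp)
      inv_hom_id := Sigma.hom_ext _ _ fun i => by induction i using Fin.cases <;> simp }

/-- Kernels in extensions, roots of sums, and one semisimple-stalk module give pieces. -/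
theorem piece_of_root [IsNoetherian X] {ξ : X} (P : X.Modules → Prop)
    (hiso : ∀ M N : X.Modules, Nonempty (M ≅ N) → P M → P N)
    (ha : ∀ S : ShortComplex X.Modules, S.ShortExact → Coh.IsCoh S.X₁ → Coh.IsCoh S.X₂ → Coh.IsCoh S.X₃ →
      (P S.X₂ → P S.X₃ → P S.X₁) ∧ (P S.X₁ → P S.X₃ → P S.X₂))
    (hb : ∀ (F : X.Modules) (d : ℕ), 1 ≤ d → Coh.IsCoh F → P (∐ fun _ : Fin d => F) → P F)
    {G : X.Modules} (hG : Coh.IsCoh G) (hsupp : ∀ y ∈ CohB1.support G, ξ ⤳ y)
    (hne : ξ ∈ CohB1.support G)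
    (hkill : ∀ a ∈ IsLocalRing.maximalIdeal (X.presheaf.stalk ξ), ∀ z : G.presheaf.stalk ξ, a • z = 0)
    (hPG : P G) {Q : X.Modules} (hQ : IsPiece ξ Q) (hsm : SmallerOK P ξ) : P Q := by
  obtain ⟨L, i, hL, hi, htf, his⟩ := exists_tfSub hG hsupp
  have hci := (isCoh_kernel_cokernel i hL hG).2
  have hPL : P L := (ha (cokerSeq i) (cokerSeq_shortExact i) hL hG hci).1 hPG
    (hsm _ hci (supp_coker i hsupp) (notMem_support_coker i his))
  let θ : L.presheaf.stalk ξ ≃ₗ[X.presheaf.stalk ξ] G.presheaf.stalk ξ :=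
    LinearEquiv.ofBijective (stalkLin i ξ) ⟨(mono_iff_stalk i).1 hi ξ, his⟩
  haveI := hQ.simple
  haveI := hG.1
  haveI := finite_stalk_of_isFT hG.2 ξ
  haveI : Nontrivial (G.presheaf.stalk ξ) := not_subsingleton_iff_nontrivial.1 hne
  obtain ⟨k, ⟨e'⟩⟩ := exists_equiv_pi_simple (S := Q.presheaf.stalk ξ) hkill
  obtain ⟨hc, htp, hsp, ⟨ep⟩, -⟩ := powMod_spec hQ k
  have hsL : ∀ y ∈ CohB1.support L, ξ ⤳ y := fun y hy => hsupp y (support_subset_of_mono i hy)
  obtain ⟨H, p, q, hH, hp, hq, hps, hqs⟩ := exists_common' hL hc htf htp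
    (fun a ha z => θ.injective (by rw [map_smul, map_zero]; exact hkill a ha _)) (θ.trans (e'.trans ep.symm))
  have hcp := (isCoh_kernel_cokernel p hH hL).2
  have hcq := (isCoh_kernel_cokernel q hH hc).2
  have hPH : P H := (ha (cokerSeq p) (cokerSeq_shortExact p) hH hL hcp).1 hPL
    (hsm _ hcp (supp_coker p hsL) (notMem_support_coker p hps))
  exact hb Q (k + 1) (Nat.le_add_left 1 k) hQ.coh (hiso _ _ ⟨powSigmaIso Q k⟩
    ((ha (cokerSeq q) (cokerSeq_shortExact q) hH hc hcq).2 hPH
      (hsm _ hcq (supp_coker q hsp) (notMem_support_coker q hqs))))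

/-- Zero modules are coherent. -/
theorem isCoh_of_isZero {N : X.Modules} (hN : IsZero N) : Coh.IsCoh N := by
  haveI := (isQCoh_image (𝟙 (Coh.structureModule X)) (isCoh_structureModule X).1 (isCoh_structureModule X).1).2
  haveI : Coh.IsQCoh N := (SheafOfModules.isQuasicoherent X.ringCatSheaf).prop_of_iso
    ((isZero_cokernel_of_epi (𝟙 (Coh.structureModule X))).iso hN) this
  refine isCoh_of_finite N fun W _ => ?_
  haveI : Subsingleton Γ(N, W) := subsingleton_of_forall_eq 0 fun t =>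
    congrArg (fun g => g.app W t) (hN.eq_of_src (𝟙 N) 0)
  infer_instance

end Groth.Agent.DevLib
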