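import Groth.Prelude.Def_FlatCA
import Groth.Agent.GeomIrred.Ring
import Mathlib

/-!
# Algebras with preirreducible geometric fibres
-/

set_option autoImplicit false
set_option linter.style.haveILetI false
set_option backward.isDefEq.respectTransparency false
set_option backward.isDefEq.respectTransparency.types false
set_option maxHeartbeats 1000000

universe u

open AlgebraicGeometry CategoryTheory CategoryTheory.Limits TensorProduct

noncomputable section

namespace Groth.Agent.DevLib

attribute [local instance] Algebra.TensorProduct.rightAlgebra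

/-- All geometric fibres are irreducible or empty. -/
def PreIrred (R B : Type u) [CommRing R] [CommRing B] [Algebra R B] : Prop :=
  ∀ (K : Type u) [Field K] [Algebra R K], PreirreducibleSpace (PrimeSpectrum (K ⊗[R] B))

theorem geomIrredFibres_iff_tensor {R B : Type u} [CommRing R] [CommRing B] [Algebra R B] :
    FlatCA.GeomIrredFibres R B ↔ ∀ (K : Type u) [Field K] [Algebra R K], IrreducibleSpace (PrimeSpectrum (K ⊗[R] B)) := by
  let e : ∀ (K : Type u) [Field K] [Algebra R K],
      ↥(pullback (Spec.map (CommRingCat.ofHom (algebraMap R B))) (Spec.map (CommRingCat.ofHom (algebraMap R K)))) ≃ₜ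
        PrimeSpectrum (K ⊗[R] B) := fun K _ _ =>
    (pullbackSpecIso R B K).hom.homeomorph.trans
      (PrimeSpectrum.homeomorphOfRingEquiv (Algebra.TensorProduct.comm R B K).toRingEquiv)
  refine ⟨fun h K _ _ => (e K).irreducibleSpace_iff.mp
    (pullback_of_geometrically h.geometrically_irreducibleSpace _ _), fun h => ⟨?_⟩⟩
  exact (geometrically_iff_of_commRing_of_isClosedUnderIsomorphisms (P := (IrreducibleSpace ·))).mpr
    fun K _ _ => (e K).irreducibleSpace_iff.mpr (h K)

theorem preIrred_of_geomIrred {R B : Type u} [CommRing R] [CommRing B] [Algebra R B]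
    (h : FlatCA.GeomIrredFibres R B) : PreIrred R B := fun K _ _ =>
  (geomIrredFibres_iff_tensor.1 h K).toPreirreducibleSpace

theorem geomIrred_of_preIrred {R B : Type u} [CommRing R] [CommRing B] [Algebra R B] (h : PreIrred R B)
    (hs : Function.Surjective (PrimeSpectrum.comap (algebraMap R B))) : FlatCA.GeomIrredFibres R B := by
  refine geomIrredFibres_iff_tensor.2 fun K _ _ => ?_
  haveI := h K
  obtain ⟨Q, hQ⟩ := hs ⟨RingHom.ker (algebraMap R K), RingHom.ker_isPrime _⟩
  haveI hlies : Q.asIdeal.LiesOver (RingHom.ker (algebraMap R K)) := ⟨(congrArg PrimeSpectrum.asIdeal hQ).symm⟩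
  haveI : Nontrivial (K ⊗[R] B) := by
    let p := RingHom.ker (algebraMap R K)
    haveI : p.IsPrime := RingHom.ker_isPrime _
    haveI : Nontrivial (p.Fiber B) := by
      obtain ⟨x, -⟩ : ∃ x : PrimeSpectrum (p.Fiber B), True :=
        ⟨PrimeSpectrum.preimageEquivFiber R B ⟨p, inferInstance⟩ ⟨Q, hQ⟩, trivial⟩
      exact x.nontrivial
    letI : Algebra p.ResidueField K := (Ideal.ResidueField.lift p (algebraMap R K) le_rfl
      (fun x hx => by
        rw [Submonoid.mem_comap, IsUnit.mem_submonoid_iff]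
        exact isUnit_iff_ne_zero.2 fun h0 => hx (show x ∈ p from h0))).toAlgebra
    haveI : IsScalarTower R p.ResidueField K :=
      .of_algebraMap_eq fun x => (Ideal.ResidueField.lift_algebraMap p (algebraMap R K) _ _ x).symm
    haveI : Nontrivial (K ⊗[p.ResidueField] (p.Fiber B)) := Module.FaithfullyFlat.lTensor_nontrivial _ K (p.Fiber B)
    exact (Algebra.TensorProduct.cancelBaseChange R p.ResidueField K K B).toEquiv.symm.nontrivial
  exact ⟨inferInstance⟩

theorem PreIrred.baseChange {R B : Type u} [CommRing R] [CommRing B] [Algebra R B] (h : PreIrred R B)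
    (R' : Type u) [CommRing R'] [Algebra R R'] (B' : Type u) [CommRing B'] [Algebra R' B'] [Algebra B B']
    [Algebra R B'] [IsScalarTower R R' B'] [IsScalarTower R B B'] [Algebra.IsPushout R R' B B'] : PreIrred R' B' := by
  intro K _ _
  letI : Algebra R K := ((algebraMap R' K).comp (algebraMap R R')).toAlgebra
  haveI : IsScalarTower R R' K := .of_algebraMap_eq fun _ => rfl
  haveI := h K
  let e : K ⊗[R'] B' ≃ₐ[K] K ⊗[R] B :=
    (Algebra.TensorProduct.congr (AlgEquiv.refl (R := K) (A₁ := K)) (Algebra.IsPushout.equiv R R' B B').symm).trans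
      (Algebra.TensorProduct.cancelBaseChange R R' K K B)
  exact (PrimeSpectrum.homeomorphOfRingEquiv e.toRingEquiv).isOpenEmbedding.preirreducibleSpace

theorem isLocalization_tensor {R B : Type u} [CommRing R] [CommRing B] [Algebra R B] (g : B) (C : Type u) [CommRing C]
    [Algebra R C] [Algebra B C] [IsScalarTower R B C] [IsLocalization.Away g C] (K : Type u) [CommRing K] [Algebra R K] :
    letI := (Algebra.TensorProduct.map (AlgHom.id R K) (IsScalarTower.toAlgHom R B C)).toRingHom.toAlgebra
    IsLocalization.Away ((1 : K) ⊗ₜ[R] g) (K ⊗[R] C) := by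
  letI := (Algebra.TensorProduct.map (AlgHom.id R K) (IsScalarTower.toAlgHom R B C)).toRingHom.toAlgebra
  letI : Algebra B (K ⊗[R] C) := ((algebraMap C (K ⊗[R] C)).comp (algebraMap B C)).toAlgebra
  haveI : IsScalarTower B (K ⊗[R] B) (K ⊗[R] C) := .of_algebraMap_eq fun b => by
    show ((1 : K) ⊗ₜ[R] algebraMap B C b : K ⊗[R] C) = _
    simp [RingHom.algebraMap_toAlgebra]
  haveI : IsScalarTower B C (K ⊗[R] C) := .of_algebraMap_eq fun b => rfl
  haveI : IsScalarTower K (K ⊗[R] B) (K ⊗[R] C) := .of_algebraMap_eq fun k => by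
    simp [RingHom.algebraMap_toAlgebra]
  haveI : IsScalarTower R (K ⊗[R] B) (K ⊗[R] C) := IsScalarTower.of_algebraMap_eq fun r => by
    rw [IsScalarTower.algebraMap_apply R K (K ⊗[R] B), ← IsScalarTower.algebraMap_apply K (K ⊗[R] B) (K ⊗[R] C),
      ← IsScalarTower.algebraMap_apply R K (K ⊗[R] C)]
  haveI : Algebra.IsPushout R C K (K ⊗[R] C) := Algebra.IsPushout.symm inferInstance
  haveI : Algebra.IsPushout R B K (K ⊗[R] B) := Algebra.IsPushout.symm inferInstance
  haveI : Algebra.IsPushout B C (K ⊗[R] B) (K ⊗[R] C) :=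
    (Algebra.IsPushout.comp_iff (R := R) (S := B) (R' := K) (S' := K ⊗[R] B) (T := C) (T' := K ⊗[R] C)).1 inferInstance
  have h := (Algebra.isLocalization_iff_isPushout (R := B) (T := K ⊗[R] B) (B := K ⊗[R] C) (Submonoid.powers g) C).2
    (Algebra.IsPushout.symm inferInstance)
  rw [Algebra.algebraMapSubmonoid_powers] at h
  exact h

theorem PreIrred.localization {R B : Type u} [CommRing R] [CommRing B] [Algebra R B] (h : PreIrred R B) (g : B)
    (C : Type u) [CommRing C] [Algebra R C] [Algebra B C] [IsScalarTower R B C] [IsLocalization.Away g C] :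
    PreIrred R C := by
  intro K _ _
  haveI := h K
  letI := (Algebra.TensorProduct.map (AlgHom.id R K) (IsScalarTower.toAlgHom R B C)).toRingHom.toAlgebra
  haveI := isLocalization_tensor (R := R) g C K
  exact (PrimeSpectrum.localization_away_isOpenEmbedding (K ⊗[R] C) ((1 : K) ⊗ₜ[R] g)).preirreducibleSpace

/-- Basic opens of smooth algebras have open image. -/
theorem exists_basicOpen_subset_image {R B : Type u} [CommRing R] [CommRing B] [Algebra R B] [Algebra.Smooth R B]
    (d : B) (p : Ideal R) [p.IsPrime] (y : Ideal B) [y.IsPrime] [y.LiesOver p] (hd : d ∉ y) :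
    ∃ f : R, f ∉ p ∧ ∀ Q : PrimeSpectrum R, f ∉ Q.asIdeal →
      ∃ Q' : PrimeSpectrum B, d ∉ Q'.asIdeal ∧ PrimeSpectrum.comap (algebraMap R B) Q' = Q := by
  obtain ⟨_, ⟨f, rfl⟩, hf, hsub⟩ := PrimeSpectrum.isTopologicalBasis_basic_opens.exists_subset_of_mem_open
    (a := (⟨p, inferInstance⟩ : PrimeSpectrum R))
    (show (⟨p, inferInstance⟩ : PrimeSpectrum R) ∈ PrimeSpectrum.comap (algebraMap R B) ''
      (PrimeSpectrum.basicOpen d : Set (PrimeSpectrum B)) from
      ⟨⟨y, inferInstance⟩, hd, PrimeSpectrum.ext (y.over_def p).symm⟩)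
    ((PrimeSpectrum.isOpenMap_comap_of_hasGoingDown_of_finitePresentation (R := R) (S := B)) _
      (PrimeSpectrum.basicOpen d).2)
  exact ⟨f, hf, fun Q hQ => hsub hQ⟩

/-- A basic open over a small enough basic open of the base has surjective structure map. -/
theorem surjective_comap_away {R B : Type u} [CommRing R] [CommRing B] [Algebra R B] {d : B} {f f₀ : R}
    (h : ∀ Q : PrimeSpectrum R, f₀ ∉ Q.asIdeal →
      ∃ Q' : PrimeSpectrum B, d ∉ Q'.asIdeal ∧ PrimeSpectrum.comap (algebraMap R B) Q' = Q)
    (hf : f₀ ∣ f) (R' B' : Type u) [CommRing R'] [CommRing B'] [Algebra R R'] [Algebra B B'] [Algebra R' B']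
    [Algebra R B'] [IsScalarTower R R' B'] [IsScalarTower R B B'] [IsLocalization.Away f R']
    [IsLocalization.Away (d * algebraMap R B f) B'] : Function.Surjective (PrimeSpectrum.comap (algebraMap R' B')) := by
  intro Q
  have hfQ : f ∉ (PrimeSpectrum.comap (algebraMap R R') Q).asIdeal :=
    (PrimeSpectrum.localization_away_comap_range R' f).le ⟨Q, rfl⟩
  obtain ⟨Q₁, hd, hQ₁⟩ := h _ fun hm => hfQ (Ideal.mem_of_dvd _ hf hm)
  obtain ⟨Q', hQ'⟩ := (PrimeSpectrum.localization_away_comap_range B' (d * algebraMap R B f)).ge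
    (show Q₁ ∈ PrimeSpectrum.basicOpen (d * algebraMap R B f) from fun hm => (Q₁.isPrime.mem_or_mem hm).elim hd
      fun hm' => hfQ ((congrArg PrimeSpectrum.asIdeal hQ₁).le hm'))
  refine ⟨Q', PrimeSpectrum.localization_comap_injective R' (Submonoid.powers f) ?_⟩
  rw [← hQ₁, ← hQ', ← PrimeSpectrum.comap_comp_apply, ← PrimeSpectrum.comap_comp_apply,
    ← IsScalarTower.algebraMap_eq, ← IsScalarTower.algebraMap_eq]

end Groth.Agent.DevLib
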