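import Groth.Agent.DevLib.Basic
import Groth.Agent.DevLib.Irred
import Groth.Agent.DevissLib.Spread
import Groth.Agent.DevissLib.Fibre

/-!
# Base change and shrinking of dévissages
-/

set_option autoImplicit false
set_option linter.style.haveILetI false
set_option backward.isDefEq.respectTransparency false
set_option backward.isDefEq.respectTransparency.types false
set_option maxHeartbeats 2000000

universe u

open TensorProduct

noncomputable section

namespace Groth.Agent.DevLib

attribute [local instance] Algebra.TensorProduct.rightAlgebra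

/-- Extensions of primes to smooth algebras with irreducible fibres are prime. -/
theorem isPrime_map {R B : Type u} [CommRing R] [CommRing B] [Algebra R B] [Algebra.Smooth R B]
    (h : FlatCA.GeomIrredFibres R B) (p : Ideal R) [p.IsPrime] : (p.map (algebraMap R B)).IsPrime := by
  haveI := DevissLib.fibre_ne_bot h p
  haveI := DevissLib.liesOver_map h p
  have hker : ∀ c : B, CAlgFib.ι (S := B) p c = 0 → c ∈ p.map (algebraMap R B) := by
    intro c hc
    let j : (R ⧸ p) →ₗ[R] p.ResidueField := (IsScalarTower.toAlgHom R (R ⧸ p) p.ResidueField).toLinearMap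
    have hj : Function.Injective (j.rTensor B) :=
      Module.Flat.rTensor_preserves_injective_linearMap j (Ideal.injective_algebraMap_quotient_residueField p)
    have h0 : ((1 : R ⧸ p) ⊗ₜ[R] c : (R ⧸ p) ⊗[R] B) = 0 := by
      apply hj
      rw [map_zero, LinearMap.rTensor_tmul]
      show (algebraMap (R ⧸ p) p.ResidueField 1) ⊗ₜ[R] c = 0
      rw [map_one]
      exact hc
    have h1 := congrArg (TensorProduct.quotTensorEquivQuotSMul B p) h0
    rw [map_zero, show (1 : R ⧸ p) = Ideal.Quotient.mk p 1 from rfl, TensorProduct.quotTensorEquivQuotSMul_mk_tmul,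
      one_smul, Submodule.Quotient.mk_eq_zero] at h1
    have h2 : c ∈ (p.map (algebraMap R B)).restrictScalars R := by
      rw [← Ideal.smul_top_eq_map]
      exact h1
    exact h2
  refine ⟨fun htop => ?_, fun {a b} hab => ?_⟩
  · have := (Ideal.LiesOver.over (P := p.map (algebraMap R B)) (p := p))
    rw [Ideal.under_def, htop, Ideal.comap_top] at this
    exact (inferInstance : p.IsPrime).ne_top this
  · have h1 : CAlgFib.ι (S := B) p a * CAlgFib.ι (S := B) p b = 0 := by
      rw [← map_mul]
      exact (show p.map (algebraMap R B) ≤ RingHom.ker (CAlgFib.ι (S := B) p) from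
        Ideal.map_le_iff_le_comap.2 fun r hr => CAlgFib.ι_eq_zero p hr) hab
    exact (mul_eq_zero.1 h1).imp (hker a) (hker b)

/-- Base change of a dévissage along a flat neighbourhood of the base, quasi-finite at the point. -/
theorem Dev.baseChange {R : Type u} [CommRing R] {p : Ideal R} [p.IsPrime]
    {R' : Type u} [CommRing R'] [Algebra R R'] [Module.Flat R R'] {p' : Ideal R'} [p'.IsPrime] [p'.LiesOver p]
    [Algebra.QuasiFiniteAt R p']
    (hres : Function.Bijective (Ideal.ResidueField.mapₐ p p' (Algebra.ofId R R') (p'.over_def p)))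
    {S : Type u} [CommRing S] [Algebra R S] {N : Type u} [AddCommGroup N] [Module S N] {q : Ideal S}
    (h : Dev R p S N q) :
    ∀ (S' : Type u) [CommRing S'] [Algebra R' S'] [Algebra S S'] [Algebra R S'] [IsScalarTower R R' S'] [IsScalarTower R S S']
      [Algebra.IsPushout R R' S S'] (N' : Type u) [AddCommGroup N'] [Module S' N'] [Module S N'] [IsScalarTower S S' N']
      (f : N →ₗ[S] N'), IsBaseChange S' f → ∀ (q' : Ideal S') [q'.IsPrime] [q'.LiesOver q] [q'.LiesOver p'] [q.IsPrime]
      [q.LiesOver p], Dev R' p' S' N' q' := by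
  have step : ∀ {S : Type u} [CommRing S] [Algebra R S] {N : Type u} [AddCommGroup N] [Module S N] {q : Ideal S}
      (E : DevStep R p S N q) (S' : Type u) [CommRing S'] [Algebra R' S'] [Algebra S S'] [Algebra R S']
      [IsScalarTower R R' S'] [IsScalarTower R S S'] [Algebra.IsPushout R R' S S'] (N' : Type u) [AddCommGroup N']
      [Module S' N'] [Module S N'] [IsScalarTower S S' N'] (f : N →ₗ[S] N') (_ : IsBaseChange S' f)
      (q' : Ideal S') [q'.IsPrime] [q'.LiesOver q] [q'.LiesOver p'] [q.IsPrime] [q.LiesOver p],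
      (Function.Surjective E.α ∨ ∀ (y : Ideal (R' ⊗[R] E.B)) [y.IsPrime] [y.LiesOver E.qB] [y.LiesOver p'] (Q : Type u)
        [AddCommGroup Q] [Module (R' ⊗[R] E.B) Q] [Module E.B Q] [IsScalarTower E.B (R' ⊗[R] E.B) Q]
        (g : (E.M ⧸ LinearMap.range E.α) →ₗ[E.B] Q), IsBaseChange (R' ⊗[R] E.B) g → Dev R' p' (R' ⊗[R] E.B) Q y) →
      Dev R' p' S' N' q' := by
    intro S _ _ N _ _ q E S' _ _ _ _ _ _ _ N' _ _ _ _ f hf q' _ _ _ _ _ hnext
    haveI : Algebra.Smooth R E.B := DevissLib.smooth_of_smoothRelDim E.relDim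
    haveI : Module.Flat E.B (R' ⊗[R] E.B) :=
      Module.Flat.of_linearEquiv (Algebra.TensorProduct.commRight R E.B R').toLinearEquiv.symm
    let Yy := (Ideal.fiberIsoOfBijectiveResidueField (S := E.B) hres).symm ⟨E.qB, inferInstance, inferInstance⟩
    let y : Ideal (R' ⊗[R] E.B) := Yy.1
    haveI : y.IsPrime := Yy.2.1
    haveI : y.LiesOver p' := Yy.2.2
    haveI : y.LiesOver E.qB := ⟨(Ideal.comap_fiberIsoOfBijectiveResidueField_symm hres (⟨E.qB, inferInstance, inferInstance⟩ : p.primesOver E.B)).symm⟩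
    letI : Algebra (R' ⊗[R] E.B) (R' ⊗[R] E.A) :=
      (Algebra.TensorProduct.map (AlgHom.id R' R') (IsScalarTower.toAlgHom R E.B E.A)).toRingHom.toAlgebra
    haveI : IsScalarTower R' (R' ⊗[R] E.B) (R' ⊗[R] E.A) := .of_algebraMap_eq fun a => by
      simp [RingHom.algebraMap_toAlgebra]
    letI : Algebra E.B (R' ⊗[R] E.A) := ((algebraMap E.A (R' ⊗[R] E.A)).comp (algebraMap E.B E.A)).toAlgebra
    haveI : IsScalarTower E.B E.A (R' ⊗[R] E.A) := .of_algebraMap_eq fun _ => rfl
    haveI : IsScalarTower E.B (R' ⊗[R] E.B) (R' ⊗[R] E.A) := .of_algebraMap_eq fun b => by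
      show ((1 : R') ⊗ₜ[R] algebraMap E.B E.A b : R' ⊗[R] E.A) = _
      simp [RingHom.algebraMap_toAlgebra]
    haveI : IsScalarTower R (R' ⊗[R] E.B) (R' ⊗[R] E.A) := .of_algebraMap_eq fun r => by
      rw [IsScalarTower.algebraMap_apply R R' (R' ⊗[R] E.B), ← IsScalarTower.algebraMap_apply R' (R' ⊗[R] E.B),
        ← IsScalarTower.algebraMap_apply R R']
    haveI : Algebra.IsPushout R E.A R' (R' ⊗[R] E.A) := Algebra.IsPushout.symm inferInstance
    haveI : Algebra.IsPushout R E.B R' (R' ⊗[R] E.B) := Algebra.IsPushout.symm inferInstance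
    haveI : Algebra.IsPushout E.B E.A (R' ⊗[R] E.B) (R' ⊗[R] E.A) :=
      (Algebra.IsPushout.comp_iff (R := R) (S := E.B) (R' := R') (S' := R' ⊗[R] E.B) (T := E.A) (T' := R' ⊗[R] E.A)).1
        inferInstance
    haveI : Algebra.IsPushout E.B (R' ⊗[R] E.B) E.A (R' ⊗[R] E.A) := Algebra.IsPushout.symm inferInstance
    -- the map from `S'`
    let τ : S' →ₐ[R] R' ⊗[R] E.A := Algebra.pushoutDesc S' (IsScalarTower.toAlgHom R R' (R' ⊗[R] E.A))
      ((IsScalarTower.toAlgHom R E.A (R' ⊗[R] E.A)).comp (IsScalarTower.toAlgHom R S E.A)) fun _ _ => Commute.all _ _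
    letI : Algebra S' (R' ⊗[R] E.A) := τ.toRingHom.toAlgebra
    letI : Algebra S (R' ⊗[R] E.A) := ((algebraMap E.A (R' ⊗[R] E.A)).comp (algebraMap S E.A)).toAlgebra
    haveI : IsScalarTower S E.A (R' ⊗[R] E.A) := .of_algebraMap_eq fun _ => rfl
    haveI : IsScalarTower S S' (R' ⊗[R] E.A) := .of_algebraMap_eq fun s => by
      show _ = τ (algebraMap S S' s)
      rw [Algebra.pushoutDesc_right]
      rfl
    haveI : IsScalarTower R' S' (R' ⊗[R] E.A) := .of_algebraMap_eq fun s => by
      show _ = τ (algebraMap R' S' s)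
      rw [Algebra.pushoutDesc_left]
      rfl
    haveI : Algebra.IsPushout R S R' S' := Algebra.IsPushout.symm inferInstance
    haveI : IsScalarTower R S' (R' ⊗[R] E.A) := .of_algebraMap_eq fun r => (τ.commutes r).symm
    haveI : Algebra.IsPushout S E.A S' (R' ⊗[R] E.A) :=
      (Algebra.IsPushout.comp_iff (R := R) (S := S) (R' := R') (S' := S') (T := E.A) (T' := R' ⊗[R] E.A)).1
        inferInstance
    haveI : Algebra.IsPushout S S' E.A (R' ⊗[R] E.A) := Algebra.IsPushout.symm inferInstance
    have hirr : FlatCA.GeomIrredFibres R' (R' ⊗[R] E.B) := by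
      refine geomIrredFibres_iff_tensor.2 fun K _ _ => ?_
      letI : Algebra R K := ((algebraMap R' K).comp (algebraMap R R')).toAlgebra
      haveI : IsScalarTower R R' K := .of_algebraMap_eq fun _ => rfl
      exact (PrimeSpectrum.homeomorphOfRingEquiv
        (Algebra.TensorProduct.cancelBaseChange R R' K K E.B).toRingEquiv).irreducibleSpace_iff.2
        (geomIrredFibres_iff_tensor.1 E.geomIrred K)
    have hrel : FlatCA.SmoothRelDim E.d R' (R' ⊗[R] E.B) := by
      haveI := AlgebraicGeometry.smoothOfRelativeDimension_isStableUnderBaseChange (n := E.d)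
      exact CategoryTheory.MorphismProperty.of_isPullback
        (AlgebraicGeometry.isPullback_SpecMap_of_isPushout _ _ _ _ (CommRingCat.isPushout_tensorProduct R R' E.B)).flip E.relDim
    haveI : Algebra.Smooth R' (R' ⊗[R] E.B) := inferInstance
    haveI : (p'.map (algebraMap R' (R' ⊗[R] E.B))).IsPrime := isPrime_map hirr p'
    refine E.transport (A' := R' ⊗[R] E.A) y hres hirr hrel
      ((DevissLib.fracMod_of_bijective p p' hres).tensor y E.qB)
      (fun Q₀ _ _ hQ₀ => comap_eq_of_unique (p' := p') E.q0 y (fun Q _ hQq hQp => ?_) Q₀ hQ₀) hf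
      (hnext.imp (fun hs => LinearMap.lTensor_surjective _ hs) fun h Q _ _ _ _ g hg => h y Q g hg)
    -- uniqueness over `(q, p')`
    let eS : R' ⊗[R] S ≃ₐ[R'] S' := Algebra.IsPushout.equiv R R' S S'
    have key : ∀ (Q₁ : Ideal S') [Q₁.IsPrime], Q₁.LiesOver q → Q₁.LiesOver p' →
        (Q₁.comap eS.toRingEquiv.toRingHom).comap (Algebra.TensorProduct.includeRight (R := R) (A := R') (B := S)).toRingHom = q ∧
          (Q₁.comap eS.toRingEquiv.toRingHom).LiesOver p' := by
      intro Q₁ _ h1 h2
      refine ⟨?_, ⟨?_⟩⟩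
      · rw [Ideal.comap_comap, show eS.toRingEquiv.toRingHom.comp
          (Algebra.TensorProduct.includeRight (R := R) (A := R') (B := S)).toRingHom = algebraMap S S' from
            RingHom.ext fun a => by simp [eS, Algebra.IsPushout.equiv_tmul]]
        exact h1.over.symm
      · refine h2.over.trans ?_
        show Q₁.comap (algebraMap R' S') = (Q₁.comap eS.toRingEquiv.toRingHom).comap (algebraMap R' _)
        rw [Ideal.comap_comap]
        congr 1
        exact RingHom.ext fun b => (eS.commutes b).symm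
    obtain ⟨a1, a2⟩ := key Q hQq hQp
    obtain ⟨b1, b2⟩ := key q' inferInstance inferInstance
    have := Ideal.eq_of_comap_eq_comap_of_bijective_residueFieldMap hres (Q.comap eS.toRingEquiv.toRingHom)
      (q'.comap eS.toRingEquiv.toRingHom) (a1.trans b1.symm)
    exact Ideal.comap_injective_of_surjective eS.toRingEquiv.toRingHom eS.surjective this
  induction h with
  | last E hE =>
    intro S' _ _ _ _ _ _ _ N' _ _ _ _ f hf q' _ _ _ _ _
    exact step E S' N' f hf q' (Or.inl hE)
  | cons E _ ih =>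
    intro S' _ _ _ _ _ _ _ N' _ _ _ _ f hf q' _ _ _ _ _
    exact step E S' N' f hf q' (Or.inr fun y _ _ _ Q _ _ _ _ g hg => ih _ Q g hg y)

end Groth.Agent.DevLib
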