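import Groth.Agent.DevLib.Irred
import Groth.Agent.DevissLib.Fibre
import Groth.Agent.DevissLib.ExistAux
import Groth.Agent.DevissLib.RelAlgClosed
import Mathlib

/-!
# Auxiliary lemmas for the existence of complete dévissages
-/

set_option autoImplicit false
set_option linter.style.haveILetI false
set_option backward.isDefEq.respectTransparency false
set_option backward.isDefEq.respectTransparency.types false
set_option maxHeartbeats 1000000

universe u

open TensorProduct AlgebraicGeometry CategoryTheory

noncomputable section

namespace Groth.Agent.DevLib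

/-- Being a localisation away from an element only depends on what it divides up to powers. -/
theorem away_of_dvd' {A : Type u} [CommRing A] {A' : Type u} [CommRing A'] [Algebra A A'] {a b : A}
    [IsLocalization.Away a A'] (hba : b ∣ a) {m : ℕ} (hab : a ∣ b ^ m) : IsLocalization.Away b A' := by
  obtain ⟨e, he⟩ := hab
  refine IsLocalization.Away.mk (r := b) ?_ (fun z => ?_) (fun x y hxy => ?_)
  · exact isUnit_of_dvd_unit (map_dvd (algebraMap A A') hba) (IsLocalization.Away.algebraMap_isUnit a)
  · obtain ⟨n, s, hs⟩ := IsLocalization.Away.surj a z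
    refine ⟨m * n, s * e ^ n, ?_⟩
    rw [← map_pow, pow_mul, he, mul_pow, map_mul, ← mul_assoc, map_pow, hs, map_mul]
  · obtain ⟨n, hn⟩ := IsLocalization.Away.exists_of_eq a hxy
    refine ⟨m * n, ?_⟩
    rw [pow_mul, he, mul_pow, mul_right_comm _ _ x, mul_right_comm _ _ y, hn]

/-- Relative dimension is stable under etale localisation of source and base. -/
theorem smoothRelDim_etale_over {R R' D D' : Type u} [CommRing R] [CommRing R'] [CommRing D] [CommRing D'] [Algebra R R']
    [Algebra R D] [Algebra R' D'] [Algebra D D'] [Algebra R D'] [IsScalarTower R R' D'] [IsScalarTower R D D']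
    [Algebra.Etale R R'] [Algebra.Etale D D'] {n : ℕ} (h : FlatCA.SmoothRelDim n R D) :
    FlatCA.SmoothRelDim n R' D' := by
  letI : Algebra D (R' ⊗[R] D) := Algebra.TensorProduct.rightAlgebra
  let l : R' ⊗[R] D →ₐ[R'] D' := Algebra.TensorProduct.lift (Algebra.ofId R' D') (IsScalarTower.toAlgHom R D D')
    fun _ _ => Commute.all _ _
  letI : Algebra (R' ⊗[R] D) D' := l.toRingHom.toAlgebra
  haveI : IsScalarTower D (R' ⊗[R] D) D' := .of_algebraMap_eq fun d => by
    show _ = l ((1 : R') ⊗ₜ[R] d)
    simp [l]
  haveI : Algebra.Etale D (R' ⊗[R] D) := Algebra.Etale.of_equiv (Algebra.TensorProduct.commRight R D R')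
  haveI : Algebra.Etale (R' ⊗[R] D) D' := Algebra.Etale.of_restrictScalars D (R' ⊗[R] D) D'
  have hb : SmoothOfRelativeDimension n (Spec.map (CommRingCat.ofHom (algebraMap R' (R' ⊗[R] D)))) := by
    haveI := smoothOfRelativeDimension_isStableUnderBaseChange (n := n)
    exact MorphismProperty.of_isPullback
      (isPullback_SpecMap_of_isPushout _ _ _ _ (CommRingCat.isPushout_tensorProduct R R' D)).flip h
  let a := Spec.map (CommRingCat.ofHom (algebraMap (R' ⊗[R] D) D'))
  let b := Spec.map (CommRingCat.ofHom (algebraMap R' (R' ⊗[R] D)))
  haveI : Etale a := (HasRingHomProperty.Spec_iff (P := @Etale)).2 (RingHom.etale_algebraMap.2 inferInstance)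
  haveI : SmoothOfRelativeDimension 0 a := (Etale.iff_smoothOfRelativeDimension_zero a).1 inferInstance
  haveI : SmoothOfRelativeDimension n b := hb
  show SmoothOfRelativeDimension n (Spec.map (CommRingCat.ofHom (algebraMap R' D')))
  rw [show Spec.map (CommRingCat.ofHom (algebraMap R' D')) = a ≫ b by
    simp only [a, b, ← Spec.map_comp, ← CommRingCat.ofHom_comp]
    congr 2
    exact RingHom.ext fun z => (l.commutes z).symm]
  simpa using (inferInstance : SmoothOfRelativeDimension (0 + n) (a ≫ b))

/-- A space of dimension less than `n` has local dimensions less than `n`. -/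
theorem exists_nat_localDim_lt {X : Type u} [TopologicalSpace X] (x : X) {n : ℕ}
    (h : topologicalKrullDim X < (n : WithBot ℕ∞)) : ∃ m < n, FlatMor.localDim X x = (m : WithBot ℕ∞) := by
  have h1 : FlatMor.localDim X x ≤ topologicalKrullDim X :=
    iInf_le_of_le ⟨⊤, trivial⟩ (topologicalKrullDim_subspace_le X _)
  have h2 : (0 : WithBot ℕ∞) ≤ FlatMor.localDim X x := le_iInf fun U => by
    haveI : Nonempty (TopologicalSpace.IrreducibleCloseds (U.1 : Set X)) :=
      ⟨⟨closure {⟨x, U.2⟩}, isIrreducible_singleton.closure, isClosed_closure⟩⟩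
    exact Order.krullDim_nonneg
  have h3 := h1.trans_lt h
  revert h2 h3
  generalize FlatMor.localDim X x = d
  intro h2 h3
  induction d using WithBot.recBotCoe with
  | bot => exact absurd h2 (by simp)
  | coe a =>
    induction a using ENat.recTopCoe with
    | top => exact absurd h3 (by simp)
    | coe b => exact ⟨b, by exact_mod_cast h3, rfl⟩

/-- The dimension of the support of a finite module. -/
theorem topologicalKrullDim_support {A : Type u} [CommRing A] (M : Type u) [AddCommGroup M] [Module A M]
    [Module.Finite A M] : topologicalKrullDim (Module.support A M) = Module.supportDim A M := by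
  rw [Module.supportDim_eq_ringKrullDim_quotient_annihilator, ← PrimeSpectrum.topologicalKrullDim_eq_ringKrullDim]
  have hemb := PrimeSpectrum.isClosedEmbedding_comap_of_surjective _ (Ideal.Quotient.mk (Module.annihilator A M))
    Ideal.Quotient.mk_surjective
  have hr : Set.range (PrimeSpectrum.comap (Ideal.Quotient.mk (Module.annihilator A M))) = Module.support A M := by
    rw [range_comap_of_surjective _ _ Ideal.Quotient.mk_surjective, Ideal.mk_ker, Module.support_eq_zeroLocus]
  let e := hemb.isEmbedding.toHomeomorph.trans (Homeomorph.setCongr hr)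
  exact (IsHomeomorph.topologicalKrullDim_eq e e.isHomeomorph).symm

/-- The cokernel of a map surjective after base change dies. -/
theorem subsingleton_coker_baseChange {B K F M : Type u} [CommRing B] [CommRing K] [Algebra B K] [AddCommGroup F] [Module B F]
    [AddCommGroup M] [Module B M] (α : F →ₗ[B] M) (h : Function.Surjective (α.baseChange K)) :
    Subsingleton (K ⊗[B] (M ⧸ LinearMap.range α)) := by
  refine subsingleton_of_forall_eq 0 fun z => ?_
  obtain ⟨w, rfl⟩ := LinearMap.lTensor_surjective K (Submodule.mkQ_surjective (LinearMap.range α)) z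
  obtain ⟨v, rfl⟩ := h w
  have : ∀ u, (LinearMap.range α).mkQ.lTensor K (α.baseChange K u) = 0 := fun u => by
    induction u using TensorProduct.induction_on with
    | zero => simp
    | add u v hu hv => simp only [map_add, hu, hv, add_zero]
    | tmul a m =>
      rw [LinearMap.baseChange_tmul, LinearMap.lTensor_tmul, Submodule.mkQ_apply,
        (Submodule.Quotient.mk_eq_zero _).2 (LinearMap.mem_range_self α m), TensorProduct.tmul_zero]
  exact this v

/-- Purely transcendental points have no separable algebraic residue extensions. -/
theorem separableClosure_eq_bot {A B : Type u} [CommRing A] [CommRing B] [Algebra A B] {p : Ideal A} [p.IsPrime]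
    {P : Ideal B} [P.IsPrime] [P.LiesOver p] (h : FlatCA.PurelyTranscendental p P) :
    letI := (Ideal.ResidueField.mapₐ p P (Algebra.ofId A B) (P.over_def p)).toRingHom.toAlgebra
    separableClosure p.ResidueField P.ResidueField = ⊥ := by
  obtain ⟨ι, v, hv, htop⟩ := h
  letI := (Ideal.ResidueField.mapₐ p P (Algebra.ofId A B) (P.over_def p)).toRingHom.toAlgebra
  exact DevissLib.separableClosure_eq_bot_of_adjoin v hv.1 htop

/-- The extension of a prime lies below every prime over it. -/
theorem map_le_of_liesOver {A B : Type u} [CommRing A] [CommRing B] [Algebra A B] (p : Ideal A) (P : Ideal B) [P.LiesOver p] :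
    p.map (algebraMap A B) ≤ P := Ideal.map_le_iff_le_comap.2 (P.over_def p).le

end Groth.Agent.DevLib
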