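import Groth.Agent.DevLib.Ops
import Groth.Agent.DevissLib.Transfer

/-!
# Shrinking dévissages to basic opens
-/

set_option autoImplicit false
set_option linter.style.haveILetI false
set_option backward.isDefEq.respectTransparency false
set_option backward.isDefEq.respectTransparency.types false
set_option maxHeartbeats 2000000

universe u

open TensorProduct AlgebraicGeometry CategoryTheory

noncomputable section

namespace Groth.Agent.DevLib

/-- A localisation away from an element is one away from any element with the same divisors up to powers. -/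
theorem away_of_dvd {A : Type u} [CommRing A] {A' : Type u} [CommRing A'] [Algebra A A'] {a b : A}
    [IsLocalization.Away a A'] (hab : a ∣ b) {m : ℕ} (hba : b ∣ a ^ m) : IsLocalization.Away b A' := by
  refine IsLocalization.Away.mk (r := b) ?_ (fun z => ?_) (fun x y hxy => ?_)
  · exact isUnit_of_dvd_unit (map_dvd (algebraMap A A') hba)
      (by rw [map_pow]; exact (IsLocalization.Away.algebraMap_isUnit a).pow m)
  · obtain ⟨n, s, hs⟩ := IsLocalization.Away.surj a z
    obtain ⟨c, hc⟩ := hab
    refine ⟨n, s * c ^ n, ?_⟩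
    rw [hc, map_mul, map_mul, map_pow, mul_pow, ← mul_assoc, hs]
  · obtain ⟨n, hn⟩ := IsLocalization.Away.exists_of_eq a hxy
    obtain ⟨c, hc⟩ := hab
    refine ⟨n, ?_⟩
    rw [hc, mul_pow, mul_right_comm _ _ x, mul_right_comm _ _ y, hn]

/-- Relative dimension of a basic open over a basic open of the base. -/
theorem smoothRelDim_away {R B : Type u} [CommRing R] [CommRing B] [Algebra R B] {n : ℕ}
    (h : FlatCA.SmoothRelDim n R B) (f : R) (b : B) (R' B' : Type u) [CommRing R'] [CommRing B'] [Algebra R R']
    [Algebra B B'] [Algebra R' B'] [Algebra R B'] [IsScalarTower R R' B'] [IsScalarTower R B B']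
    [IsLocalization.Away f R'] [IsLocalization.Away b B'] : FlatCA.SmoothRelDim n R' B' := by
  let j := Spec.map (CommRingCat.ofHom (algebraMap B B'))
  let s := Spec.map (CommRingCat.ofHom (algebraMap R B))
  haveI : IsOpenImmersion j := IsOpenImmersion.of_isLocalization b
  haveI : SmoothOfRelativeDimension n s := h
  have h1 : SmoothOfRelativeDimension (0 + n) (j ≫ s) := inferInstance
  rw [Nat.zero_add, show j ≫ s = Spec.map (CommRingCat.ofHom (algebraMap R B')) by
    simp only [j, s, ← Spec.map_comp, ← CommRingCat.ofHom_comp, ← IsScalarTower.algebraMap_eq]] at h1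
  have hu : IsUnit (algebraMap R B' f) := by
    rw [IsScalarTower.algebraMap_apply R R' B']
    exact (IsLocalization.Away.algebraMap_isUnit f).map _
  haveI : IsLocalization (Algebra.algebraMapSubmonoid B' (Submonoid.powers f)) B' :=
    IsLocalization.self (by
      rintro _ ⟨_, ⟨k, rfl⟩, rfl⟩
      rw [map_pow]
      exact hu.pow k)
  haveI : Algebra.IsPushout R B' R' B' := Algebra.isPushout_of_isLocalization (Submonoid.powers f) R' B' B'
  haveI := smoothOfRelativeDimension_isStableUnderBaseChange (n := n)
  exact MorphismProperty.of_isPullback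
    (isPullback_SpecMap_of_isPushout _ _ _ _ (CommRingCat.isPushout_of_isPushout R B' R' B')) h1

theorem fracMod_refl {A : Type u} [CommRing A] (P : Ideal A) [P.IsPrime] : DevissLib.FracMod P P :=
  fun b => ⟨1, b, P.one_notMem, by simp⟩

theorem surjective_baseChange_of_smul_mem {B B' F M : Type u} [CommRing B] [CommRing B'] [Algebra B B'] [AddCommGroup F]
    [Module B F] [AddCommGroup M] [Module B M] {α : F →ₗ[B] M} {d : B} (hd : IsUnit (algebraMap B B' d))
    (h : ∀ m, d • m ∈ LinearMap.range α) : Function.Surjective (α.baseChange B') := by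
  intro z
  induction z using TensorProduct.induction_on with
  | zero => exact ⟨0, map_zero _⟩
  | add u v hu hv =>
    obtain ⟨u, rfl⟩ := hu
    obtain ⟨v, rfl⟩ := hv
    exact ⟨u + v, map_add _ _ _⟩
  | tmul b m =>
    obtain ⟨w, hw⟩ := h m
    obtain ⟨v, hv⟩ := hd
    refine ⟨(b * (v⁻¹ : B'ˣ)) ⊗ₜ[B] w, ?_⟩
    rw [LinearMap.baseChange_tmul, hw, TensorProduct.tmul_smul, TensorProduct.smul_tmul', Algebra.smul_def, ← hv,
      mul_left_comm, Units.mul_inv, mul_one]

/-- A step on a basic open. -/
theorem DevStep.shrink {R : Type u} [CommRing R] {p : Ideal R} [p.IsPrime] {S : Type u} [CommRing S] [Algebra R S]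
    {N : Type u} [AddCommGroup N] [Module S N] {q : Ideal S} (E : DevStep R p S N q) {g h : S} {t : E.A} {d' : E.B}
    {f f₀ : R} (ht : t * algebraMap S E.A g = algebraMap E.B E.A d') (hh : algebraMap S E.A h = algebraMap E.B E.A d')
    (hd' : d' ∉ E.qB)
    (himg : ∀ Q : PrimeSpectrum R, f₀ ∉ Q.asIdeal →
      ∃ Q' : PrimeSpectrum E.B, d' ∉ Q'.asIdeal ∧ PrimeSpectrum.comap (algebraMap R E.B) Q' = Q)
    (hf₀ : f₀ ∣ f) (hf : f ∉ p)
    (R' : Type u) [CommRing R'] [Algebra R R'] [IsLocalization.Away f R'] (p' : Ideal R') [p'.IsPrime] [p'.LiesOver p]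
    (S' : Type u) [CommRing S'] [Algebra R' S'] [Algebra S S'] [Algebra R S'] [IsScalarTower R R' S'] [IsScalarTower R S S']
    [IsLocalization.Away (g * h * algebraMap R S f) S']
    (N' : Type u) [AddCommGroup N'] [Module S' N'] [Module S N'] [IsScalarTower S S' N'] (φ : N →ₗ[S] N')
    (hφ : IsBaseChange S' φ) (q' : Ideal S') [q'.IsPrime] [q'.LiesOver q]
    (hnext : (∀ m : E.M, d' • m ∈ LinearMap.range E.α) ∨ ∀ (B' : Type u) [CommRing B'] [Algebra R' B'] [Algebra E.B B'] [Algebra R B']
      [IsScalarTower R R' B'] [IsScalarTower R E.B B'] [IsLocalization.Away (d' * algebraMap R E.B f) B']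
      (y : Ideal B') [y.IsPrime] [y.LiesOver E.qB] [y.LiesOver p'] (Q : Type u)
      [AddCommGroup Q] [Module B' Q] [Module E.B Q] [IsScalarTower E.B B' Q]
      (g : (E.M ⧸ LinearMap.range E.α) →ₗ[E.B] Q), IsBaseChange B' g → Dev R' p' B' Q y) :
    Dev R' p' S' N' q' := by
  classical
  haveI : Algebra.Smooth R E.B := DevissLib.smooth_of_smoothRelDim E.relDim
  let b : E.B := d' * algebraMap R E.B f
  let a : E.A := algebraMap E.B E.A b
  let B' := Localization.Away b
  let A' := Localization.Away a
  have hbf : IsUnit (algebraMap R B' f) := by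
    rw [IsScalarTower.algebraMap_apply R E.B B']
    exact isUnit_of_dvd_unit (map_dvd _ (dvd_mul_left _ d')) (IsLocalization.Away.algebraMap_isUnit b)
  letI : Algebra R' B' := (IsLocalization.Away.lift (S := R') f (g := algebraMap R B') hbf).toAlgebra
  haveI : IsScalarTower R R' B' := .of_algebraMap_eq fun z => (IsLocalization.Away.lift_eq f hbf z).symm
  letI : Algebra B' A' := (IsLocalization.Away.lift (S := B') b (g := algebraMap E.B A') (by
    rw [IsScalarTower.algebraMap_apply E.B E.A A']
    exact IsLocalization.Away.algebraMap_isUnit a)).toAlgebra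
  haveI : IsScalarTower E.B B' A' := .of_algebraMap_eq fun z => (IsLocalization.Away.lift_eq b _ z).symm
  letI : Algebra R' A' := ((algebraMap B' A').comp (algebraMap R' B')).toAlgebra
  haveI : IsScalarTower R' B' A' := .of_algebraMap_eq fun _ => rfl
  haveI : IsScalarTower R R' A' := .of_algebraMap_eq fun z => by
    rw [IsScalarTower.algebraMap_apply R' B' A', ← IsScalarTower.algebraMap_apply R R' B',
      IsScalarTower.algebraMap_apply R E.B B', ← IsScalarTower.algebraMap_apply E.B B' A',
      ← IsScalarTower.algebraMap_apply R E.B A']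
  haveI : IsLocalization (Algebra.algebraMapSubmonoid E.A (Submonoid.powers b)) A' := by
    rw [Algebra.algebraMapSubmonoid_powers]
    exact (inferInstance : IsLocalization.Away a A')
  haveI : Algebra.IsPushout E.B E.A B' A' := Algebra.isPushout_of_isLocalization (Submonoid.powers b) B' E.A A'
  haveI : Algebra.IsPushout E.B B' E.A A' := Algebra.IsPushout.symm inferInstance
  -- the ring carrying the module
  let s : S := g * h * algebraMap R S f
  have hs : algebraMap S E.A s = algebraMap S E.A g * a := by
    simp only [s, a, b, map_mul, hh, ← IsScalarTower.algebraMap_apply R S E.A, ← IsScalarTower.algebraMap_apply R E.B E.A]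
    ring
  haveI : IsLocalization.Away (algebraMap S E.A s) A' := by
    refine away_of_dvd (a := a) (Dvd.intro_left _ hs.symm) (m := 2) ?_
    rw [hs, pow_two]
    refine mul_dvd_mul_right ?_ a
    rw [show a = algebraMap E.B E.A d' * algebraMap E.B E.A (algebraMap R E.B f) from map_mul _ _ _, ← ht]
    exact Dvd.dvd.mul_right (dvd_mul_left _ t) _
  letI : Algebra S' A' := (IsLocalization.Away.lift (S := S') s (g := algebraMap S A') (by
    rw [IsScalarTower.algebraMap_apply S E.A A']
    exact IsLocalization.Away.algebraMap_isUnit (algebraMap S E.A s))).toAlgebra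
  haveI : IsScalarTower S S' A' := .of_algebraMap_eq fun z => (IsLocalization.Away.lift_eq s _ z).symm
  haveI : IsScalarTower R' S' A' := IsScalarTower.of_algebraMap_eq' (IsLocalization.ringHom_ext (Submonoid.powers f)
    (RingHom.ext fun z => by
      show algebraMap R' A' (algebraMap R R' z) = algebraMap S' A' (algebraMap R' S' (algebraMap R R' z))
      rw [← IsScalarTower.algebraMap_apply R R' A', ← IsScalarTower.algebraMap_apply R R' S',
        IsScalarTower.algebraMap_apply R S S', ← IsScalarTower.algebraMap_apply S S' A',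
        IsScalarTower.algebraMap_apply S E.A A', ← IsScalarTower.algebraMap_apply R S E.A,
        ← IsScalarTower.algebraMap_apply R E.A A']))
  haveI : IsLocalization (Algebra.algebraMapSubmonoid E.A (Submonoid.powers s)) A' := by
    rw [Algebra.algebraMapSubmonoid_powers]
    exact (inferInstance : IsLocalization.Away (algebraMap S E.A s) A')
  haveI : Algebra.IsPushout S E.A S' A' := Algebra.isPushout_of_isLocalization (Submonoid.powers s) S' E.A A'
  haveI : Algebra.IsPushout S S' E.A A' := Algebra.IsPushout.symm inferInstance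
  -- the point
  have hbq : b ∉ E.qB := fun hm => ((inferInstance : E.qB.IsPrime).mem_or_mem hm).elim hd'
    fun hm' => hf ((Ideal.mem_of_liesOver E.qB p f).2 hm')
  have hdis : Disjoint (Submonoid.powers b : Set E.B) E.qB :=
    (Ideal.disjoint_powers_iff_notMem b (inferInstance : E.qB.IsPrime).isRadical).2 hbq
  let y : Ideal B' := E.qB.map (algebraMap E.B B')
  haveI : y.IsPrime := IsLocalization.isPrime_of_isPrime_disjoint (Submonoid.powers b) _ E.qB inferInstance hdis
  haveI : y.LiesOver E.qB := IsLocalization.liesOver_map_of_isPrime_disjoint (Submonoid.powers b) _ hdis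
  haveI : y.LiesOver p' := ⟨by
    have h1 : (y.comap (algebraMap R' B')).comap (algebraMap R R') = p'.comap (algebraMap R R') := by
      rw [Ideal.comap_comap, ← IsScalarTower.algebraMap_eq, IsScalarTower.algebraMap_eq R E.B B', ← Ideal.comap_comap]
      exact ((E.qB.over_def p).trans (congrArg (Ideal.comap (algebraMap R E.B)) (y.over_def E.qB))).symm.trans (p'.over_def p)
    have h2 := congrArg (Ideal.map (algebraMap R R')) h1
    rw [IsLocalization.map_under (Submonoid.powers f) R', IsLocalization.map_under (Submonoid.powers f) R'] at h2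
    exact h2.symm⟩
  have hirr : FlatCA.GeomIrredFibres R' B' := by
    refine geomIrred_of_preIrred ?_ (surjective_comap_away himg hf₀ R' B')
    intro K _ _
    letI : Algebra R K := ((algebraMap R' K).comp (algebraMap R R')).toAlgebra
    haveI : IsScalarTower R R' K := .of_algebraMap_eq fun _ => rfl
    haveI := PreIrred.localization (preIrred_of_geomIrred E.geomIrred) b B' K
    haveI : IsLocalization (Algebra.algebraMapSubmonoid B' (Submonoid.powers f)) B' :=
      IsLocalization.self (by
        rintro _ ⟨_, ⟨k, rfl⟩, rfl⟩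
        rw [map_pow]
        exact hbf.pow k)
    haveI : Algebra.IsPushout R B' R' B' := Algebra.isPushout_of_isLocalization (Submonoid.powers f) R' B' B'
    haveI : Algebra.IsPushout R R' B' B' := Algebra.IsPushout.symm inferInstance
    exact PreIrred.baseChange (PreIrred.localization (preIrred_of_geomIrred E.geomIrred) b B') R' B' K
  have hrel := smoothRelDim_away E.relDim f b R' B'
  haveI : Algebra.Smooth R' B' := DevissLib.smooth_of_smoothRelDim hrel
  haveI : (p'.map (algebraMap R' B')).IsPrime := isPrime_map hirr p'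
  haveI : Algebra.Etale R R' := Algebra.Etale.of_isLocalizationAway f
  haveI : Module.Flat E.B B' := IsLocalization.flat B' (Submonoid.powers b)
  haveI : p.LiesOver p := ⟨(Ideal.comap_id _).symm⟩
  haveI : E.qB.LiesOver E.qB := ⟨(Ideal.comap_id _).symm⟩
  refine E.transport (A' := A') y (DevissLib.residue_bijective_of_frac p p' ((fracMod_refl p).away f hf))
    hirr hrel ((fracMod_refl E.qB).away b hbq)
    (fun Q₀ _ _ hQ₀ => comap_eq_of_unique (p' := p') E.q0 y (fun Q _ hQq _ => ?_) Q₀ hQ₀) hφ
    (hnext.imp (surjective_baseChange_of_smul_mem (isUnit_of_dvd_unit (map_dvd (algebraMap E.B B') (dvd_mul_right d' _))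
      (IsLocalization.Away.algebraMap_isUnit b))) fun hn Q _ _ _ _ k hk => hn B' y Q k hk)
  have h1 := congrArg (Ideal.map (algebraMap S S')) (hQq.over.symm.trans (q'.over_def q))
  rwa [Ideal.under_def, IsLocalization.map_under (Submonoid.powers s) S', Ideal.under_def,
    IsLocalization.map_under (Submonoid.powers s) S'] at h1

/-- Shrinking a dévissage to a neighbourhood inside a basic open. -/
theorem Dev.shrink {R : Type u} [CommRing R] {p : Ideal R} [p.IsPrime] {S : Type u} [CommRing S] [Algebra R S]
    {N : Type u} [AddCommGroup N] [Module S N] {q : Ideal S} (h : Dev R p S N q) :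
    ∀ [q.IsPrime] (g : S), g ∉ q → ∃ (f₀ : R) (g' : S), f₀ ∉ p ∧ g' ∉ q ∧ g ∣ g' ∧
      ∀ (f : R), f₀ ∣ f → f ∉ p → ∀ (R' : Type u) [CommRing R'] [Algebra R R'] [IsLocalization.Away f R']
        (p' : Ideal R') [p'.IsPrime] [p'.LiesOver p]
        (S' : Type u) [CommRing S'] [Algebra R' S'] [Algebra S S'] [Algebra R S'] [IsScalarTower R R' S'] [IsScalarTower R S S']
        [IsLocalization.Away (g' * algebraMap R S f) S'] (N' : Type u) [AddCommGroup N'] [Module S' N'] [Module S N']
        [IsScalarTower S S' N'] (φ : N →ₗ[S] N'), IsBaseChange S' φ →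
        ∀ (q' : Ideal S') [q'.IsPrime] [q'.LiesOver q] [q'.LiesOver p'], Dev R' p' S' N' q' := by
  induction h with
  | @last S _ _ N _ _ q E hE =>
    intro _ g hg
    haveI := E.finiteBA
    haveI : Algebra.Smooth R E.B := DevissLib.smooth_of_smoothRelDim E.relDim
    obtain ⟨t, d, hd, htd⟩ := DevissLib.exists_mul_eq_of_notMem E.qB E.qA E.uniq (a := algebraMap S E.A g)
      fun hm => hg (E.q0.le hm)
    obtain ⟨h', hh'⟩ := E.surjSA (algebraMap E.B E.A d)
    obtain ⟨f₀, hf₀, himg⟩ := exists_basicOpen_subset_image d p E.qB hd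
    refine ⟨f₀, g * h', hf₀, fun hm => ?_, dvd_mul_right g h', ?_⟩
    · rcases (inferInstance : q.IsPrime).mem_or_mem hm with hm' | hm'
      · exact hg hm'
      · have := E.q0.ge hm'
        rw [Ideal.mem_comap, hh'] at this
        exact hd ((Ideal.mem_of_liesOver E.qA E.qB d).2 this)
    intro f hff hfp R' _ _ _ p' _ _ S' _ _ _ _ _ _ _ N' _ _ _ _ φ hφ q' _ _ _
    exact E.shrink (g := g) (h := h') htd hh' hd himg hff hfp R' p' S' N' φ hφ q' (Or.inl fun _ => hE _)
  | @cons S _ _ N _ _ q E _ ih =>
    intro _ g hg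
    haveI := E.finiteBA
    haveI : Algebra.Smooth R E.B := DevissLib.smooth_of_smoothRelDim E.relDim
    obtain ⟨t, d, hd, htd⟩ := DevissLib.exists_mul_eq_of_notMem E.qB E.qA E.uniq (a := algebraMap S E.A g)
      fun hm => hg (E.q0.le hm)
    obtain ⟨f₁, d', hf₁, hd', ⟨c, hc⟩, hnext⟩ := ih d hd
    obtain ⟨h', hh'⟩ := E.surjSA (algebraMap E.B E.A d')
    obtain ⟨f₂, hf₂, himg⟩ := exists_basicOpen_subset_image d' p E.qB hd'
    refine ⟨f₁ * f₂, g * h', p.primeCompl.mul_mem hf₁ hf₂, fun hm => ?_, dvd_mul_right g h', ?_⟩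
    · rcases (inferInstance : q.IsPrime).mem_or_mem hm with hm' | hm'
      · exact hg hm'
      · have := E.q0.ge hm'
        rw [Ideal.mem_comap, hh'] at this
        exact hd' ((Ideal.mem_of_liesOver E.qA E.qB d').2 this)
    intro f hff hfp R' _ _ _ p' _ _ S' _ _ _ _ _ _ _ N' _ _ _ _ φ hφ q' _ _ _
    refine E.shrink (g := g) (h := h') (t := algebraMap E.B E.A c * t) ?_ hh' hd' himg ((dvd_mul_left f₂ f₁).trans hff) hfp R' p' S' N' φ hφ q'
      (Or.inr ?_)
    · rw [mul_assoc, htd, ← map_mul, mul_comm, ← hc]
    · intro B' _ _ _ _ _ _ _ y _ _ _ Q _ _ _ _ k hk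
      exact hnext f ((dvd_mul_right f₁ f₂).trans hff) hfp R' p' B' Q k hk y

end Groth.Agent.DevLib
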