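import Groth.Prelude.Def_FlatCA
import Groth.Agent.DevissLib.ExistAux
import Groth.Agent.DevissLib.FP
import Mathlib

/-!
# Dévissages as an inductive predicate
-/

set_option autoImplicit false
set_option linter.style.haveILetI false
set_option backward.isDefEq.respectTransparency false
set_option backward.isDefEq.respectTransparency.types false
set_option maxHeartbeats 1000000

universe u

open TensorProduct

noncomputable section

namespace Groth.Agent.DevLib

/-- One step of a dévissage of `N/S/R` at `q` over `p`. -/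
structure DevStep (R : Type u) [CommRing R] (p : Ideal R) [p.IsPrime] (S : Type u) [CommRing S] [Algebra R S]
    (N : Type u) [AddCommGroup N] [Module S N] (q : Ideal S) : Type (u + 1) where
  A : Type u
  B : Type u
  M : Type u
  [cA : CommRing A] [cB : CommRing B] [aRA : Algebra R A] [aRB : Algebra R B] [aBA : Algebra B A]
  [tRBA : IsScalarTower R B A] [aSA : Algebra S A] [tRSA : IsScalarTower R S A]
  [gM : AddCommGroup M] [mAM : Module A M] [mBM : Module B M] [tBAM : IsScalarTower B A M]
  [mSM : Module S M] [tSAM : IsScalarTower S A M]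
  surjSA : Function.Surjective (algebraMap S A)
  fpSA : Algebra.FinitePresentation S A
  finiteBA : Module.Finite B A
  finiteM : Module.Finite A M
  d : ℕ
  relDim : FlatCA.SmoothRelDim d R B
  geomIrred : FlatCA.GeomIrredFibres R B
  [hP : (p.map (algebraMap R B)).IsPrime]
  r : ℕ
  rpos : 0 < r
  α : (Fin r → B) →ₗ[B] M
  fibreIso : Function.Bijective (α.baseChange (p.map (algebraMap R B)).ResidueField)
  isoN : N ≃ₗ[S] M
  qB : Ideal B
  qA : Ideal A
  [hqB : qB.IsPrime] [hqA : qA.IsPrime] [overB : qB.LiesOver p] [overA : qA.LiesOver qB]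
  pureTrans : FlatCA.PurelyTranscendental p qB
  uniq : ∀ (Q : Ideal A) [Q.IsPrime], Q.LiesOver qB → Q = qA
  q0 : qA.comap (algebraMap S A) = q

attribute [instance] DevStep.cA DevStep.cB DevStep.aRA DevStep.aRB DevStep.aBA DevStep.tRBA DevStep.aSA DevStep.tRSA
  DevStep.gM DevStep.mAM DevStep.mBM DevStep.tBAM DevStep.mSM DevStep.tSAM DevStep.hP DevStep.hqB DevStep.hqA
  DevStep.overB DevStep.overA

/-- A complete dévissage at a point, as successive steps. -/
inductive Dev (R : Type u) [CommRing R] (p : Ideal R) [p.IsPrime] :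
    ∀ (S : Type u) [CommRing S] [Algebra R S] (N : Type u) [AddCommGroup N] [Module S N], Ideal S → Prop
  | last {S : Type u} [CommRing S] [Algebra R S] {N : Type u} [AddCommGroup N] [Module S N] {q : Ideal S}
      (E : DevStep R p S N q) (h : Function.Surjective E.α) : Dev R p S N q
  | cons {S : Type u} [CommRing S] [Algebra R S] {N : Type u} [AddCommGroup N] [Module S N] {q : Ideal S}
      (E : DevStep R p S N q) (h : Dev R p E.B (E.M ⧸ LinearMap.range E.α) E.qB) : Dev R p S N q

/-- Bijectivity passes up a field extension. -/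
theorem bijective_baseChange_field {B K K' F M : Type u} [CommRing B] [CommRing K] [CommRing K'] [Algebra B K]
    [Algebra B K'] [Algebra K K'] [IsScalarTower B K K'] [AddCommGroup F] [Module B F] [AddCommGroup M] [Module B M]
    {α : F →ₗ[B] M} (h : Function.Bijective (α.baseChange K)) : Function.Bijective (α.baseChange K') := by
  let eF := AlgebraTensorModule.cancelBaseChange B K K' K' F
  let eM := AlgebraTensorModule.cancelBaseChange B K K' K' M
  have key : ∀ w, eM ((α.baseChange K).lTensor K' w) = α.baseChange K' (eF w) := by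
    intro w
    induction w using TensorProduct.induction_on with
    | zero => simp
    | add u v hu hv => simp only [map_add, hu, hv]
    | tmul a z =>
      induction z using TensorProduct.induction_on with
      | zero => simp
      | add u v hu hv => simp only [TensorProduct.tmul_add, map_add, hu, hv]
      | tmul b m => simp [eF, eM]
  have hl : Function.Bijective ((α.baseChange K).lTensor K') :=
    (LinearEquiv.lTensor K' (LinearEquiv.ofBijective _ h)).bijective
  have : ⇑(α.baseChange K') = eM ∘ (α.baseChange K).lTensor K' ∘ eF.symm := funext fun w => by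
    simp only [Function.comp_apply, key, LinearEquiv.apply_symm_apply]
  rw [this]
  exact eM.bijective.comp (hl.comp eF.symm.bijective)

/-- Bijectivity after base change, computed in two steps. -/
theorem bijective_baseChange_comp {B B' K' F M : Type u} [CommRing B] [CommRing B'] [CommRing K'] [Algebra B B']
    [Algebra B K'] [Algebra B' K'] [IsScalarTower B B' K'] [AddCommGroup F] [Module B F] [AddCommGroup M] [Module B M]
    {α : F →ₗ[B] M} (h : Function.Bijective (α.baseChange K')) :
    Function.Bijective ((α.baseChange B').baseChange K') := by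
  let eF := AlgebraTensorModule.cancelBaseChange B B' K' K' F
  let eM := AlgebraTensorModule.cancelBaseChange B B' K' K' M
  have key : ∀ w, eM ((α.baseChange B').baseChange K' w) = α.baseChange K' (eF w) := by
    intro w
    induction w using TensorProduct.induction_on with
    | zero => simp
    | add u v hu hv => simp only [map_add, hu, hv]
    | tmul a z =>
      induction z using TensorProduct.induction_on with
      | zero => simp
      | add u v hu hv => simp only [TensorProduct.tmul_add, map_add, hu, hv]
      | tmul b m => simp [eF, eM]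
  have : ⇑((α.baseChange B').baseChange K') = eM.symm ∘ α.baseChange K' ∘ eF := funext fun w => by
    simp only [Function.comp_apply, ← key, LinearEquiv.symm_apply_apply]
  rw [this]
  exact eM.symm.bijective.comp (h.comp eF.bijective)

/-- Composing a map with isomorphisms keeps bijectivity after base change. -/
theorem bijective_baseChange_equiv {B K F F' M M' : Type u} [CommRing B] [CommRing K] [Algebra B K]
    [AddCommGroup F] [Module B F] [AddCommGroup F'] [Module B F'] [AddCommGroup M] [Module B M] [AddCommGroup M'] [Module B M']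
    {α : F →ₗ[B] M} (h : Function.Bijective (α.baseChange K)) (eF : F' ≃ₗ[B] F) (eM : M ≃ₗ[B] M') :
    Function.Bijective ((eM.toLinearMap ∘ₗ α ∘ₗ eF.toLinearMap).baseChange K) := by
  rw [LinearMap.baseChange_comp, LinearMap.baseChange_comp, LinearMap.coe_comp, LinearMap.coe_comp]
  exact (LinearEquiv.baseChange B K _ _ eM).bijective.comp (h.comp (LinearEquiv.baseChange B K _ _ eF).bijective)

/-- Cokernels commute with base change. -/
theorem exists_baseChange_coker {B B' F M F' M' : Type u} [CommRing B] [CommRing B'] [Algebra B B']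
    [AddCommGroup F] [Module B F] [AddCommGroup M] [Module B M] [AddCommGroup F'] [Module B' F'] [AddCommGroup M'] [Module B' M']
    [Module B M'] [IsScalarTower B B' M'] (α : F →ₗ[B] M) (α' : F' →ₗ[B'] M') (g : M →ₗ[B] M') (hg : IsBaseChange B' g)
    (hr : LinearMap.range α' = Submodule.span B' (g '' (LinearMap.range α : Set M))) :
    ∃ g' : M ⧸ LinearMap.range α →ₗ[B] M' ⧸ LinearMap.range α', IsBaseChange B' g' := by
  have hle : LinearMap.range α ≤ (((LinearMap.range α').mkQ.restrictScalars B) ∘ₗ g).ker := fun m hm => by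
    rw [LinearMap.mem_ker]
    exact (Submodule.Quotient.mk_eq_zero _).2 (hr ▸ Submodule.subset_span ⟨m, hm, rfl⟩)
  refine ⟨(LinearMap.range α).liftQ _ hle, IsBaseChange.of_lift_unique _ fun Q _ _ _ _ φ => ?_⟩
  letI : AddCommGroup Q := Module.addCommMonoidToAddCommGroup B'
  let ψ := hg.lift (φ ∘ₗ (LinearMap.range α).mkQ)
  have hψ : LinearMap.range α' ≤ ψ.ker := by
    rw [hr, Submodule.span_le]
    rintro _ ⟨m, hm, rfl⟩
    show ψ (g m) = 0
    rw [hg.lift_eq, LinearMap.comp_apply, Submodule.mkQ_apply, (Submodule.Quotient.mk_eq_zero _).2 hm, map_zero]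
  refine ⟨(LinearMap.range α').liftQ ψ hψ, LinearMap.ext fun x => ?_, fun φ' hφ' => ?_⟩
  · obtain ⟨m, rfl⟩ := Submodule.mkQ_surjective _ x
    exact hg.lift_eq _ m
  · refine LinearMap.ext fun x => ?_
    obtain ⟨m, rfl⟩ := Submodule.mkQ_surjective _ x
    show (φ' ∘ₗ (LinearMap.range α').mkQ) m = ψ m
    refine LinearMap.congr_fun (hg.algHom_ext _ _ fun m => ?_) m
    exact (LinearMap.congr_fun hφ' (Submodule.Quotient.mk m)).trans (hg.lift_eq (φ ∘ₗ (LinearMap.range α).mkQ) m).symm

section Transport

variable {R : Type u} [CommRing R] {p : Ideal R} [p.IsPrime] {S : Type u} [CommRing S] [Algebra R S]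
  {N : Type u} [AddCommGroup N] [Module S N] {q : Ideal S} (E : DevStep R p S N q)
  {R' : Type u} [CommRing R'] [Algebra R R'] {p' : Ideal R'} [p'.IsPrime] [p'.LiesOver p] [Algebra.QuasiFiniteAt R p']
  {B' : Type u} [CommRing B'] [Algebra R' B'] [Algebra E.B B'] [Algebra R B'] [IsScalarTower R R' B']
  [IsScalarTower R E.B B'] [Module.Flat E.B B'] (y : Ideal B') [y.IsPrime] [y.LiesOver E.qB] [y.LiesOver p']
  {A' : Type u} [CommRing A'] [Algebra B' A'] [Algebra E.A A'] [Algebra E.B A'] [IsScalarTower E.B B' A']
  [IsScalarTower E.B E.A A'] [Algebra R' A'] [IsScalarTower R' B' A'] [Algebra.IsPushout E.B B' E.A A']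
  {S' : Type u} [CommRing S'] [Algebra R' S'] [Algebra S S'] [Algebra S' A'] [Algebra S A'] [IsScalarTower S S' A']
  [IsScalarTower S E.A A'] [IsScalarTower R' S' A'] [Algebra.IsPushout S S' E.A A']
  {q' : Ideal S'} [q'.IsPrime] [q'.LiesOver q]
  {N' : Type u} [AddCommGroup N'] [Module S' N'] [Module S N'] [IsScalarTower S S' N'] {f : N →ₗ[S] N'}

include E y A' in
/-- Transport of a step along a change of the smooth algebra. -/
theorem DevStep.transport (hres : Function.Bijective (Ideal.ResidueField.mapₐ p p' (Algebra.ofId R R') (p'.over_def p)))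
    (hirr : FlatCA.GeomIrredFibres R' B') (hrel : FlatCA.SmoothRelDim E.d R' B')
    [hP' : (p'.map (algebraMap R' B')).IsPrime] (hy : DevissLib.FracMod E.qB y)
    (hq' : ∀ (Q : Ideal A') [Q.IsPrime], Q.LiesOver y → Q.comap (algebraMap E.A A') = E.qA →
      Q.comap (algebraMap S' A') = q')
    (hf : IsBaseChange S' f)
    (hnext : Function.Surjective (E.α.baseChange B') ∨ ∀ (Q : Type u) [AddCommGroup Q] [Module B' Q] [Module E.B Q]
      [IsScalarTower E.B B' Q] (g : (E.M ⧸ LinearMap.range E.α) →ₗ[E.B] Q), IsBaseChange B' g → Dev R' p' B' Q y) :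
    Dev R' p' S' N' q' := by
  classical
  have hyres := DevissLib.residue_bijective_of_frac E.qB y hy
  -- the generic point of the fibre
  let P := p.map (algebraMap R E.B)
  let P' := p'.map (algebraMap R' B')
  have hPP : P'.comap (algebraMap E.B B') = P := by
    have hPle : P ≤ E.qB := Ideal.map_le_iff_le_comap.2 (E.qB.over_def p).le
    obtain ⟨Q, hQy, hQ, hQP⟩ := Ideal.exists_ideal_le_liesOver_of_le (p := P) (q := E.qB) y hPle
    haveI := hQ
    haveI := hQP
    refine le_antisymm ((Ideal.comap_mono (show P' ≤ Q from ?_)).trans (Q.over_def P).ge) ?_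
    · have h1 : Q.comap (algebraMap R' B') ≤ p' := (Ideal.comap_mono hQy).trans (y.over_def p').ge
      have h2 : (Q.comap (algebraMap R' B')).under R = p'.under R := by
        refine le_antisymm (Ideal.comap_mono h1) ?_
        rw [← p'.over_def p]
        intro a ha
        show algebraMap R' B' (algebraMap R R' a) ∈ Q
        rw [← IsScalarTower.algebraMap_apply R R' B', IsScalarTower.algebraMap_apply R E.B B']
        exact (Q.over_def P).le (Ideal.mem_map_of_mem _ ha)
      exact Ideal.map_le_iff_le_comap.2 (Algebra.QuasiFiniteAt.eq_of_le_of_under_eq (R := R) h1 h2).ge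
    · refine Ideal.map_le_iff_le_comap.2 fun a ha => ?_
      show algebraMap E.B B' (algebraMap R E.B a) ∈ P'
      rw [← IsScalarTower.algebraMap_apply R E.B B', IsScalarTower.algebraMap_apply R R' B']
      exact Ideal.mem_map_of_mem _ ((p'.over_def p).le ha)
  letI : Algebra P.ResidueField P'.ResidueField :=
    (Ideal.ResidueField.mapₐ P P' (Algebra.ofId E.B B') hPP.symm).toRingHom.toAlgebra
  haveI : IsScalarTower E.B P.ResidueField P'.ResidueField :=
    .of_algebraMap_eq fun b => ((Ideal.ResidueField.mapₐ P P' (Algebra.ofId E.B B') hPP.symm).commutes b).symm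
  -- the module and the map
  haveI := E.finiteBA
  haveI := E.finiteM
  haveI := E.fpSA
  let eM : A' ⊗[E.A] E.M ≃ₗ[B'] B' ⊗[E.B] E.M := Algebra.IsPushout.cancelBaseChange E.B B' E.A A' E.M
  let eF : (Fin E.r → B') ≃ₗ[B'] B' ⊗[E.B] (Fin E.r → E.B) :=
    (TensorProduct.piScalarRight E.B B' B' (Fin E.r)).symm
  let α' : (Fin E.r → B') →ₗ[B'] A' ⊗[E.A] E.M := eM.symm.toLinearMap ∘ₗ E.α.baseChange B' ∘ₗ eF.toLinearMap
  have hα' : Function.Bijective (α'.baseChange P'.ResidueField) :=
    bijective_baseChange_equiv (bijective_baseChange_comp (bijective_baseChange_field E.fibreIso)) eF eM.symm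
  -- the prime
  haveI : Algebra.IsPushout E.B B' E.A A' := inferInstance
  let eA : B' ⊗[E.B] E.A ≃ₐ[B'] A' := Algebra.IsPushout.equiv E.B B' E.A A'
  obtain ⟨⟨Q₀, hQ₀p, hQ₀y⟩, hQ₀A⟩ : ∃ Q₀ : y.primesOver (B' ⊗[E.B] E.A),
      Q₀.1.comap (RingHomClass.toRingHom Algebra.TensorProduct.includeRight) = E.qA :=
    ⟨(Ideal.fiberIsoOfBijectiveResidueField hyres).symm ⟨E.qA, inferInstance, inferInstance⟩,
      Ideal.comap_fiberIsoOfBijectiveResidueField_symm hyres _⟩
  haveI := hQ₀p
  haveI := hQ₀y
  let qA' : Ideal A' := Q₀.comap eA.symm.toRingEquiv.toRingHom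
  haveI : qA'.IsPrime := inferInstance
  haveI : qA'.LiesOver y := ⟨by
    refine (Q₀.over_def y).trans ?_
    show Q₀.comap (algebraMap B' _) = (Q₀.comap eA.symm.toRingEquiv.toRingHom).comap (algebraMap B' A')
    rw [Ideal.comap_comap]
    congr 1
    exact RingHom.ext fun b => (eA.symm.commutes b).symm⟩
  have hqA'A : qA'.comap (algebraMap E.A A') = E.qA := by
    rw [← hQ₀A, Ideal.comap_comap]
    congr 1
    refine RingHom.ext fun a => ?_
    show eA.symm (algebraMap E.A A' a) = (1 : B') ⊗ₜ[E.B] a
    rw [AlgEquiv.symm_apply_eq]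
    simp [eA, Algebra.IsPushout.equiv_tmul]
  have huniq : ∀ (Q : Ideal A') [Q.IsPrime], Q.LiesOver y → Q = qA' := by
    intro Q _ hQ
    have h0 : Q.comap eA.toRingEquiv.toRingHom = Q₀ := by
      haveI : (Q.comap eA.toRingEquiv.toRingHom).LiesOver y := ⟨by
        refine (Q.over_def y).trans ?_
        show Q.comap (algebraMap B' A') = (Q.comap eA.toRingEquiv.toRingHom).comap (algebraMap B' _)
        rw [Ideal.comap_comap]
        congr 1
        exact RingHom.ext fun b => (eA.commutes b).symm⟩
      refine Ideal.eq_of_comap_eq_comap_of_bijective_residueFieldMap hyres _ _ ?_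
      refine Eq.trans ?_ hQ₀A.symm
      rw [Ideal.comap_comap, show eA.toRingEquiv.toRingHom.comp
        (Algebra.TensorProduct.includeRight (R := E.B) (A := B') (B := E.A)).toRingHom =
          algebraMap E.A A' from RingHom.ext fun a => by simp [eA, Algebra.IsPushout.equiv_tmul]]
      refine E.uniq _ ⟨?_⟩
      show E.qB = (Q.comap (algebraMap E.A A')).comap (algebraMap E.B E.A)
      rw [Ideal.comap_comap, ← IsScalarTower.algebraMap_eq, IsScalarTower.algebraMap_eq E.B B' A', ← Ideal.comap_comap]
      exact (y.over_def E.qB).trans (congrArg (Ideal.comap (algebraMap E.B B')) (Q.over_def y))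
    show Q = Q₀.comap eA.symm.toRingEquiv.toRingHom
    rw [← h0, Ideal.comap_comap]
    ext a
    simp
  -- the structure on `S'`
  have hsurj : Function.Surjective (algebraMap S' A') := by
    intro a
    obtain ⟨z, rfl⟩ := (Algebra.IsPushout.equiv S S' E.A A').surjective a
    induction z using TensorProduct.induction_on with
    | zero => exact ⟨0, by simp⟩
    | add u v hu hv =>
      obtain ⟨s, hs⟩ := hu
      obtain ⟨t, ht⟩ := hv
      exact ⟨s + t, by rw [map_add, hs, ht, map_add]⟩
    | tmul s a =>
      obtain ⟨a, rfl⟩ := E.surjSA a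
      refine ⟨s * algebraMap S S' a, ?_⟩
      rw [map_mul, Algebra.IsPushout.equiv_tmul, ← IsScalarTower.algebraMap_apply S S' A',
        ← IsScalarTower.algebraMap_apply S E.A A']
  have hfp : Algebra.FinitePresentation S' A' :=
    Algebra.FinitePresentation.equiv (Algebra.IsPushout.equiv S S' E.A A')
  have hfinBA : Module.Finite B' A' := Module.Finite.equiv eA.toLinearEquiv
  haveI : IsScalarTower S' A' (A' ⊗[E.A] E.M) := inferInstance
  haveI : IsScalarTower S S' (A' ⊗[E.A] E.M) := .of_algebraMap_smul fun s (m : A' ⊗[E.A] E.M) => by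
    rw [← algebraMap_smul A' (algebraMap S S' s) m, ← IsScalarTower.algebraMap_apply S S' A', algebraMap_smul]
  let gN : N →ₗ[S] A' ⊗[E.A] E.M :=
    ((TensorProduct.mk E.A A' E.M 1).restrictScalars S) ∘ₗ E.isoN.toLinearMap
  have hgN : IsBaseChange S' gN := by
    refine IsBaseChange.of_lift_unique _ fun Q _ _ _ _ φ => ?_
    let e₁ : A' ⊗[E.A] E.M ≃ₗ[S'] S' ⊗[S] E.M := Algebra.IsPushout.cancelBaseChange S S' E.A A' E.M
    have he₁ : ∀ m, e₁ (gN m) = (1 : S') ⊗ₜ[S] E.isoN m := fun m => by
      apply e₁.symm.injective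
      rw [LinearEquiv.symm_apply_apply]
      refine Eq.symm ((Algebra.IsPushout.cancelBaseChangeAux_symm_tmul S S' E.A A' E.M 1 (E.isoN m)).trans ?_)
      rw [map_one]
      rfl
    let L := (TensorProduct.isBaseChange S E.M S').lift (φ ∘ₗ E.isoN.symm.toLinearMap)
    refine ⟨L ∘ₗ e₁.toLinearMap, LinearMap.ext fun m => ?_, fun φ' hφ' => ?_⟩
    · show L (e₁ (gN m)) = φ m
      rw [he₁]
      exact ((TensorProduct.isBaseChange S E.M S').lift_eq _ (E.isoN m)).trans (by simp)
    · have h2 : φ' ∘ₗ e₁.symm.toLinearMap = L := (TensorProduct.isBaseChange S E.M S').algHom_ext _ _ fun m => by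
        refine Eq.trans ?_ ((TensorProduct.isBaseChange S E.M S').lift_eq _ m).symm
        show φ' (e₁.symm ((1 : S') ⊗ₜ[S] m)) = φ (E.isoN.symm m)
        rw [show ((1 : S') ⊗ₜ[S] m : S' ⊗[S] E.M) = e₁ (gN (E.isoN.symm m)) by rw [he₁, LinearEquiv.apply_symm_apply],
          LinearEquiv.symm_apply_apply]
        exact LinearMap.congr_fun hφ' _
      rw [← h2, LinearMap.comp_assoc, LinearEquiv.symm_comp, LinearMap.comp_id]
  haveI : qA'.LiesOver p' := Ideal.LiesOver.trans qA' y p'
  have hq0 : qA'.comap (algebraMap S' A') = q' := hq' _ inferInstance hqA'A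
  let E' : DevStep R' p' S' N' q' :=
    { A := A'
      B := B'
      M := A' ⊗[E.A] E.M
      surjSA := hsurj
      fpSA := hfp
      finiteBA := hfinBA
      finiteM := inferInstance
      d := E.d
      relDim := hrel
      geomIrred := hirr
      r := E.r
      rpos := E.rpos
      α := α'
      fibreIso := hα'
      isoN := hf.equiv.symm.trans hgN.equiv
      qB := y
      qA := qA'
      pureTrans := DevissLib.purelyTranscendental_of_bijective hres hyres E.pureTrans
      uniq := huniq
      q0 := hq0 }
  rcases hnext with hsur | hnext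
  · refine Dev.last E' ?_
    exact eM.symm.surjective.comp (hsur.comp eF.surjective)
  · refine Dev.cons E' ?_
    let gM : E.M →ₗ[E.B] A' ⊗[E.A] E.M := (eM.symm.toLinearMap.restrictScalars E.B) ∘ₗ TensorProduct.mk E.B B' E.M 1
    have hgM : IsBaseChange B' gM := IsBaseChange.comp (TensorProduct.isBaseChange E.B E.M B') (IsBaseChange.ofEquiv eM.symm)
    obtain ⟨g', hg'⟩ := exists_baseChange_coker E.α α' gM hgM (by
      refine le_antisymm ?_ (Submodule.span_le.2 ?_)
      · rintro _ ⟨v, rfl⟩
        show eM.symm (E.α.baseChange B' (eF v)) ∈ _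
        induction eF v using TensorProduct.induction_on with
        | zero => simp
        | add u w hu hw => simp only [map_add]; exact add_mem hu hw
        | tmul b w =>
          rw [LinearMap.baseChange_tmul, show (b ⊗ₜ[E.B] E.α w : B' ⊗[E.B] E.M) = b • ((1 : B') ⊗ₜ[E.B] E.α w) by
            rw [TensorProduct.smul_tmul', smul_eq_mul, mul_one], map_smul]
          exact Submodule.smul_mem _ _ (Submodule.subset_span ⟨E.α w, LinearMap.mem_range_self _ _, rfl⟩)
      · rintro _ ⟨_, ⟨w, rfl⟩, rfl⟩
        refine ⟨eF.symm ((1 : B') ⊗ₜ[E.B] w), ?_⟩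
        show eM.symm (E.α.baseChange B' (eF (eF.symm _))) = gM (E.α w)
        rw [LinearEquiv.apply_symm_apply, LinearMap.baseChange_tmul]
        rfl)
    exact hnext _ g' hg'

end Transport

/-- Determining the point of the new ring from the old one and the base. -/
theorem comap_eq_of_unique {R' S S' A A' B' : Type u} [CommRing R'] [CommRing S] [CommRing S'] [CommRing A] [CommRing A']
    [CommRing B'] [Algebra R' B'] [Algebra B' A'] [Algebra R' A'] [IsScalarTower R' B' A'] [Algebra R' S'] [Algebra S' A']
    [IsScalarTower R' S' A'] [Algebra S S'] [Algebra S A] [Algebra S A'] [IsScalarTower S S' A'] [Algebra A A']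
    [IsScalarTower S A A'] {q : Ideal S} {q' : Ideal S'} {qA : Ideal A} (hqA : qA.comap (algebraMap S A) = q)
    {p' : Ideal R'} (y : Ideal B') [y.LiesOver p']
    (hq' : ∀ (Q : Ideal S') [Q.IsPrime], Q.LiesOver q → Q.LiesOver p' → Q = q')
    (Q : Ideal A') [Q.IsPrime] [Q.LiesOver y] (hQ : Q.comap (algebraMap A A') = qA) :
    Q.comap (algebraMap S' A') = q' := by
  haveI : Q.LiesOver p' := Ideal.LiesOver.trans Q y p'
  refine hq' _ ⟨?_⟩ ⟨?_⟩
  · show q = (Q.comap (algebraMap S' A')).comap (algebraMap S S')
    rw [Ideal.comap_comap, ← IsScalarTower.algebraMap_eq, IsScalarTower.algebraMap_eq S A A', ← Ideal.comap_comap, hQ]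
    exact hqA.symm
  · show p' = (Q.comap (algebraMap S' A')).comap (algebraMap R' S')
    rw [Ideal.comap_comap, ← IsScalarTower.algebraMap_eq]
    exact Q.over_def p'

end Groth.Agent.DevLib
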