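import Groth.Agent.DevLib.Basic
import Groth.Agent.DevissLib.Basis
import Groth.Agent.DevissLib.Transfer
import Groth.Agent.DevissLib.Step
import Groth.Agent.DevLib.Ops
import Groth.Agent.DevissLib.Fibre
import Groth.Agent.AssSupLib.Support
import Groth.Agent.FibAssLib.Fibre
import Groth.Agent.S2768

/-!
# Complete dévissages from inductive ones
-/

set_option autoImplicit false
set_option linter.style.haveILetI false
set_option backward.isDefEq.respectTransparency false
set_option backward.isDefEq.respectTransparency.types false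
set_option maxHeartbeats 2000000

universe u

open TensorProduct CategoryTheory AlgebraicGeometry

noncomputable section

namespace Groth.Agent.DevLib

variable {R : Type u} [CommRing R] {p : Ideal R} [p.IsPrime] {S : Type u} [CommRing S] [Algebra R S]
  {N : Type u} [AddCommGroup N] [Module S N] {q : Ideal S}

/-- The fibre module of a step is supported on the whole fibre, of dimension `d`. -/
theorem DevStep.exists_locDim (E : DevStep R p S N q) [Module R E.M] [IsScalarTower R E.B E.M] :
    ∃ (x : PrimeSpectrum (p.Fiber E.B)) (hx : x ∈ Module.support (p.Fiber E.B) (FlatCA.fiberMod p E.B E.M)),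
      x.asIdeal = FlatCA.fiberIdeal p E.qB ∧
      FlatMor.localDim (Module.support (p.Fiber E.B) (FlatCA.fiberMod p E.B E.M)) ⟨x, hx⟩ = E.d := by
  haveI := E.finiteBA
  haveI := E.finiteM
  haveI : Module.Finite E.B E.M := Module.Finite.trans E.A E.M
  haveI : Algebra.Smooth R E.B := DevissLib.smooth_of_smoothRelDim E.relDim
  obtain ⟨hpr, hcom⟩ := FibAssLib.fiberIdeal_spec p E.qB
  haveI : (p.map (algebraMap R E.B)).LiesOver p := DevissLib.liesOver_map E.geomIrred p
  obtain ⟨hdom, hker⟩ := DevissLib.fibre_domain p (D := E.B)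
  letI : Algebra E.B (p.Fiber E.B) :=
    (Algebra.TensorProduct.includeRight (R := R) (A := p.ResidueField) (B := E.B)).toRingHom.toAlgebra
  have hs : Module.support (p.Fiber E.B) (FlatCA.fiberMod p E.B E.M) = PrimeSpectrum.zeroLocus
      (((Module.annihilator E.B E.M).map (algebraMap E.B (p.Fiber E.B)) : Ideal (p.Fiber E.B)) : Set (p.Fiber E.B)) :=
    AssSupLib.support_baseChange
  have hP : Module.annihilator E.B E.M ≤ p.map (algebraMap R E.B) := by
    refine (Module.mem_support_iff_of_finite (p := (⟨_, E.hP⟩ : PrimeSpectrum E.B))).1 ?_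
    rw [Module.mem_support_iff_nontrivial_residueField_tensorProduct]
    haveI : Nonempty (Fin E.r) := ⟨⟨0, E.rpos⟩⟩
    haveI : Nontrivial ((p.map (algebraMap R E.B)).ResidueField ⊗[E.B] (Fin E.r → E.B)) :=
      (TensorProduct.piScalarRight E.B E.B (p.map (algebraMap R E.B)).ResidueField (Fin E.r)).toEquiv.nontrivial
    exact E.fibreIso.1.nontrivial
  have huniv : Module.support (p.Fiber E.B) (FlatCA.fiberMod p E.B E.M) = Set.univ := by
    refine Set.eq_univ_of_forall fun x => ?_
    rw [hs, PrimeSpectrum.mem_zeroLocus, SetLike.coe_subset_coe]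
    refine (Ideal.map_mono hP).trans ((le_of_eq ?_).trans bot_le)
    rw [Ideal.map_map, eq_bot_iff, Ideal.map_le_iff_le_comap]
    intro a ha
    show Algebra.TensorProduct.includeRight (algebraMap R E.B a) = (0 : p.Fiber E.B)
    exact CAlgFib.ι_eq_zero p ha
  let x : PrimeSpectrum (p.Fiber E.B) := ⟨_, hpr⟩
  refine ⟨x, huniv ▸ Set.mem_univ x, rfl, ?_⟩
  haveI := E.relDim
  haveI := smoothOfRelativeDimension_isStableUnderBaseChange (n := E.d)
  haveI : SmoothOfRelativeDimension E.d
      (Spec.map (CommRingCat.ofHom (Algebra.TensorProduct.includeLeftRingHom : p.ResidueField →+* p.Fiber E.B))) :=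
    MorphismProperty.of_isPullback (isPullback_SpecMap_of_isPushout _ _ _ _
      (CommRingCat.isPushout_tensorProduct R p.ResidueField E.B)).flip E.relDim
  have h1 := S2768.localDim_eq E.d
    (Spec.map (CommRingCat.ofHom (Algebra.TensorProduct.includeLeftRingHom : p.ResidueField →+* p.Fiber E.B))) x
  refine Eq.trans ?_ h1
  exact DevissLib.localDim_homeomorph ((Homeomorph.setCongr huniv).trans (Homeomorph.Set.univ _)) _

/-- Prepending to a sequence. -/
@[reducible] def scons {α : Sort*} (a : α) (f : ℕ → α) : ℕ → α
  | 0 => a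
  | i + 1 => f i

theorem Dev.hasComplete (h : Dev R p S N q) : ∀ [q.IsPrime], FlatCA.HasCompleteDevissageAt R S N p q := by
  induction h with
  | @last S _ _ N _ _ q E hE =>
    intro _
    haveI : Algebra.Smooth R E.B := DevissLib.smooth_of_smoothRelDim E.relDim
    letI : Module R E.M := Module.compHom _ (algebraMap R E.B)
    haveI : IsScalarTower R E.B E.M := .of_algebraMap_smul fun _ _ => rfl
    let D : FlatCA.CompleteDevissage R S N p :=
      { n := 1
        pos := Nat.one_pos
        A := fun _ => E.A
        B := fun _ => E.B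
        M := fun _ => E.M
        r := fun _ => E.r
        α := fun _ => E.α
        surjSA := E.surjSA
        fpSA := E.fpSA
        surjBA' := fun i hi => absurd hi (by omega)
        fpBA' := fun i hi => absurd hi (by omega)
        finiteBA := fun _ _ => E.finiteBA
        smooth := fun _ _ => inferInstance
        geomIrred := fun _ _ => E.geomIrred
        finiteM := fun _ _ => E.finiteM
        isoN := E.isoN
        isoCoker := fun i hi => absurd hi (by omega)
        fibreIso := fun _ _ => E.fibreIso
        cokerLast := hE }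
    exact ⟨D, ⟨{
      qB := fun _ => E.qB
      qA := fun _ => E.qA
      hqB := fun _ => E.hqB
      hqA := fun _ => E.hqA
      overB := fun _ => E.overB
      overA := fun _ => E.overA
      pureTrans := fun _ _ => E.pureTrans
      uniq := fun _ _ => E.uniq
      q0 := E.q0
      qStep := fun i hi => absurd hi (show ¬ i + 1 < 1 by omega)
      d := fun _ => E.d
      relDim := fun _ _ => E.relDim
      locDim := fun _ _ => E.exists_locDim }⟩⟩
  | @cons S _ _ N _ _ q E _ ih =>
    intro _
    obtain ⟨D, ⟨T⟩⟩ := ih
    haveI : Algebra.Smooth R E.B := DevissLib.smooth_of_smoothRelDim E.relDim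
    letI : Module R E.M := Module.compHom _ (algebraMap R E.B)
    haveI : IsScalarTower R E.B E.M := .of_algebraMap_smul fun _ _ => rfl
    let D' : FlatCA.CompleteDevissage R S N p :=
      { n := D.n + 1
        pos := Nat.succ_pos _
        A := scons E.A D.A
        B := scons E.B D.B
        M := scons E.M D.M
        r := scons E.r D.r
        cA := fun | 0 => E.cA | i + 1 => D.cA i
        cB := fun | 0 => E.cB | i + 1 => D.cB i
        aRA := fun | 0 => E.aRA | i + 1 => D.aRA i
        aRB := fun | 0 => E.aRB | i + 1 => D.aRB i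
        aBA := fun | 0 => E.aBA | i + 1 => D.aBA i
        tRBA := fun | 0 => E.tRBA | i + 1 => D.tRBA i
        aSA := E.aSA
        tRSA := E.tRSA
        aBA' := fun | 0 => D.aSA | i + 1 => D.aBA' i
        tRBA' := fun | 0 => D.tRSA | i + 1 => D.tRBA' i
        gM := fun | 0 => E.gM | i + 1 => D.gM i
        mAM := fun | 0 => E.mAM | i + 1 => D.mAM i
        mBM := fun | 0 => E.mBM | i + 1 => D.mBM i
        tBAM := fun | 0 => E.tBAM | i + 1 => D.tBAM i
        mRM := fun | 0 => ‹Module R E.M› | i + 1 => D.mRM i
        tRBM := fun | 0 => ‹IsScalarTower R E.B E.M› | i + 1 => D.tRBM i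
        mSM := E.mSM
        tSAM := E.tSAM
        mB'M := fun | 0 => D.mSM | i + 1 => D.mB'M i
        tB'AM := fun | 0 => D.tSAM | i + 1 => D.tB'AM i
        hp := fun | 0 => E.hP | i + 1 => D.hp i
        α := fun | 0 => E.α | i + 1 => D.α i
        surjSA := E.surjSA
        fpSA := E.fpSA
        surjBA' := fun | 0 => fun _ => D.surjSA | i + 1 => fun hi => D.surjBA' i (by omega)
        fpBA' := fun | 0 => fun _ => D.fpSA | i + 1 => fun hi => D.fpBA' i (by omega)
        finiteBA := fun | 0 => fun _ => E.finiteBA | i + 1 => fun hi => D.finiteBA i (by omega)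
        smooth := fun | 0 => fun _ => ‹Algebra.Smooth R E.B› | i + 1 => fun hi => D.smooth i (by omega)
        geomIrred := fun | 0 => fun _ => E.geomIrred | i + 1 => fun hi => D.geomIrred i (by omega)
        finiteM := fun | 0 => fun _ => E.finiteM | i + 1 => fun hi => D.finiteM i (by omega)
        isoN := E.isoN
        isoCoker := fun | 0 => fun _ => D.isoN | i + 1 => fun hi => D.isoCoker i (by omega)
        fibreIso := fun | 0 => fun _ => E.fibreIso | i + 1 => fun hi => D.fibreIso i (by omega)
        cokerLast := by
          obtain ⟨k, hk⟩ : ∃ k, D.n = k + 1 := ⟨D.n - 1, by have := D.pos; omega⟩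
          have h := D.cokerLast
          revert h
          rw [Nat.add_sub_cancel, hk, Nat.add_sub_cancel]
          exact id }
    exact ⟨D', ⟨{
      qB := fun | 0 => E.qB | i + 1 => T.qB i
      qA := fun | 0 => E.qA | i + 1 => T.qA i
      hqB := fun | 0 => E.hqB | i + 1 => T.hqB i
      hqA := fun | 0 => E.hqA | i + 1 => T.hqA i
      overB := fun | 0 => E.overB | i + 1 => T.overB i
      overA := fun | 0 => E.overA | i + 1 => T.overA i
      pureTrans := fun | 0 => fun _ => E.pureTrans | i + 1 => fun hi => T.pureTrans i (Nat.lt_of_succ_lt_succ hi)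
      uniq := fun | 0 => fun _ => E.uniq | i + 1 => fun hi => T.uniq i (Nat.lt_of_succ_lt_succ hi)
      q0 := E.q0
      qStep := fun | 0 => fun _ => T.q0 | i + 1 => fun hi => T.qStep i (Nat.lt_of_succ_lt_succ hi)
      d := scons E.d T.d
      relDim := fun | 0 => fun _ => E.relDim | i + 1 => fun hi => T.relDim i (Nat.lt_of_succ_lt_succ hi)
      locDim := fun | 0 => fun _ => E.exists_locDim | i + 1 => fun hi => T.locDim i (Nat.lt_of_succ_lt_succ hi) }⟩⟩

end Groth.Agent.DevLib
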