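import Groth.Agent.DevLib.Main
import Groth.Agent.DevLib.ToComplete
import Groth.Agent.DevissLib.Transfer

/-!
# Charts with complete dévissages around the fibre
-/

set_option autoImplicit false
set_option linter.style.haveILetI false
set_option backward.isDefEq.respectTransparency false
set_option backward.isDefEq.respectTransparency.types false
set_option maxHeartbeats 2000000

universe u

open TensorProduct

noncomputable section

namespace Groth.Agent.DevLib

attribute [local instance] Algebra.TensorProduct.rightAlgebra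

/-- An étale chart on which the module has a complete dévissage over every étale neighbourhood of the base. -/
def Chart (A B : Type u) [CommRing A] [CommRing B] [Algebra A B] (N : Type u) [AddCommGroup N] [Module B N]
    (p : Ideal A) [p.IsPrime] (q : Ideal B) [q.IsPrime] : Prop :=
  ∃ (R₁ S₁ : Type u) (_ : CommRing R₁) (_ : CommRing S₁) (_ : Algebra A R₁) (_ : Algebra B S₁) (_ : Algebra R₁ S₁)
    (_ : Algebra A S₁) (_ : IsScalarTower A R₁ S₁) (_ : IsScalarTower A B S₁)
    (p₁ : Ideal R₁) (w : Ideal S₁) (_ : p₁.IsPrime) (_ : w.IsPrime),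
    FlatCA.IsEtaleNhd A R₁ p p₁ ∧ FlatCA.IsEtaleNhd B S₁ q w ∧ w.LiesOver p₁ ∧
    ∀ (A' : Type u) [CommRing A'] [Algebra R₁ A'] [Algebra.Etale R₁ A'] (p' : Ideal A') [p'.IsPrime] [p'.LiesOver p₁]
      (_ : Function.Bijective (Ideal.ResidueField.mapₐ p₁ p' (Algebra.ofId R₁ A') (p'.over_def p₁)))
      (C : Type u) [CommRing C] [Algebra A' C] [Algebra S₁ C] [Algebra R₁ C] [IsScalarTower R₁ A' C]
      [IsScalarTower R₁ S₁ C] [Algebra.IsPushout R₁ A' S₁ C] [Algebra B C] [IsScalarTower B S₁ C]
      (N' : Type u) [AddCommGroup N'] [Module C N'] [Module B N'] [IsScalarTower B C N']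
      (f : N →ₗ[B] N'), IsBaseChange C f → Nonempty (FlatCA.CompleteDevissage A' C N' p')

/-- The dévissage of the zero module. -/
theorem nonempty_completeDevissage_of_subsingleton (A C : Type u) [CommRing A] [CommRing C] [Algebra A C]
    (N : Type u) [AddCommGroup N] [Module C N] [Subsingleton N] (p : Ideal A) [p.IsPrime] :
    Nonempty (FlatCA.CompleteDevissage A C N p) := by
  haveI : Subsingleton (C ⧸ (⊤ : Ideal C)) := Submodule.Quotient.subsingleton_iff.2 rfl
  letI : Algebra A (C ⧸ (⊤ : Ideal C)) := inferInstance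
  haveI hp : (p.map (algebraMap A A)).IsPrime := by
    rw [Algebra.algebraMap_self, Ideal.map_id]
    infer_instance
  have hirr : FlatCA.GeomIrredFibres A A := by
    refine geomIrredFibres_iff_tensor.2 fun K _ _ => ?_
    exact (PrimeSpectrum.homeomorphOfRingEquiv (Algebra.TensorProduct.rid A K K).toRingEquiv).irreducibleSpace_iff.2 inferInstance
  exact ⟨{
    n := 1
    pos := Nat.one_pos
    A := fun _ => C ⧸ (⊤ : Ideal C)
    B := fun _ => A
    M := fun _ => PUnit.{u + 1}
    r := fun _ => 0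
    α := fun _ => 0
    surjSA := Ideal.Quotient.mk_surjective
    fpSA := Algebra.FinitePresentation.quotient ⟨{1}, by simp⟩
    surjBA' := fun i hi => absurd hi (by omega)
    fpBA' := fun i hi => absurd hi (by omega)
    finiteBA := fun _ _ => inferInstance
    smooth := fun _ _ => inferInstance
    geomIrred := fun _ _ => hirr
    finiteM := fun _ _ => inferInstance
    isoN := LinearEquiv.ofSubsingleton N PUnit.{u + 1}
    isoCoker := fun i hi => absurd hi (by omega)
    fibreIso := fun _ _ => ⟨Function.injective_of_subsingleton _, fun z => ⟨0, Subsingleton.elim _ _⟩⟩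
    cokerLast := fun z => ⟨0, Subsingleton.elim _ _⟩ }⟩

/-- Charts exist at every point of the fibre. -/
theorem exists_chart {A B : Type u} [CommRing A] [CommRing B] [Algebra A B] [Algebra.FiniteType A B]
    (N : Type u) [AddCommGroup N] [Module B N] [Module.Finite B N] (p : Ideal A) [p.IsPrime]
    (q : Ideal B) [q.IsPrime] [q.LiesOver p] : Chart A B N p q := by
  classical
  letI : Module A N := Module.compHom N (algebraMap A B)
  haveI : IsScalarTower A B N := .of_algebraMap_smul fun _ _ => rfl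
  haveI : p.LiesOver p := ⟨(Ideal.comap_id p).symm⟩
  by_cases h : (⟨q, inferInstance⟩ : PrimeSpectrum B) ∈ Module.support B N
  · obtain ⟨hpr, hcom⟩ := FibAssLib.fiberIdeal_spec p q
    letI : Algebra B (p.Fiber B) :=
      (Algebra.TensorProduct.includeRight (R := A) (A := p.ResidueField) (B := B)).toRingHom.toAlgebra
    have hs : Module.support (p.Fiber B) (FlatCA.fiberMod p B N) = PrimeSpectrum.zeroLocus
        (((Module.annihilator B N).map (algebraMap B (p.Fiber B)) : Ideal (p.Fiber B)) : Set (p.Fiber B)) :=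
      AssSupLib.support_baseChange
    have hx : (⟨_, hpr⟩ : PrimeSpectrum (p.Fiber B)) ∈ Module.support (p.Fiber B) (FlatCA.fiberMod p B N) := by
      rw [hs, PrimeSpectrum.mem_zeroLocus, SetLike.coe_subset_coe]
      exact Ideal.map_mono (Module.mem_support_iff_of_finite.1 h)
    obtain ⟨J, -, -, hJsupp⟩ := S1276.result (A := A) (B := B) N p
    obtain ⟨q0, hq0, -, hq0p, Q0, -, hQ0c, hdim⟩ := DevissLib.exists_fibre_point p J _ hJsupp q ⟨_, hpr⟩ rfl hx
    haveI := hq0
    haveI := hq0p
    obtain ⟨r, hr⟩ := DimFormulaLib.exists_nat_trdeg_quotient p.ResidueField (p.Fiber (B ⧸ J)) Q0.asIdeal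
    obtain ⟨a, -, hd, -⟩ := DimFormulaLib.localDim_eq_height_add p.ResidueField (p.Fiber (B ⧸ J)) Q0 r hr
    obtain ⟨R₁, S₁, _, _, _, _, _, _, _, _, p₁, w, hp₁, hw, hR₁, hS₁, hwp, hDev⟩ :=
      existsDev (a + r) A p B N q ⟨_, hpr⟩ hx rfl (hdim.symm.trans hd)
    refine ⟨R₁, S₁, inferInstance, inferInstance, inferInstance, inferInstance, inferInstance, inferInstance, inferInstance,
      inferInstance, p₁, w, hp₁, hw, hR₁, hS₁, hwp, ?_⟩
    intro A' _ _ _ p' _ _ hres C _ _ _ _ _ _ _ _ _ N' _ _ _ _ f hf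
    haveI := hp₁
    haveI := hw
    haveI := hwp
    -- a point of `C`
    let Yf := (Ideal.fiberIsoOfBijectiveResidueField (S := S₁) hres).symm ⟨w, inferInstance, inferInstance⟩
    let eC : A' ⊗[R₁] S₁ ≃ₐ[A'] C := Algebra.IsPushout.equiv R₁ A' S₁ C
    let w' : Ideal C := Yf.1.comap eC.symm.toRingEquiv.toRingHom
    haveI : Yf.1.IsPrime := Yf.2.1
    haveI : Yf.1.LiesOver p' := Yf.2.2
    haveI : w'.IsPrime := inferInstance
    haveI : w'.LiesOver p' := ⟨by
      refine (Yf.1.over_def p').trans ?_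
      show Yf.1.comap (algebraMap A' _) = (Yf.1.comap eC.symm.toRingEquiv.toRingHom).comap (algebraMap A' C)
      rw [Ideal.comap_comap]
      congr 1
      exact RingHom.ext fun b => (eC.symm.commutes b).symm⟩
    haveI : w'.LiesOver w := ⟨by
      refine (Ideal.comap_fiberIsoOfBijectiveResidueField_symm hres
        (⟨w, inferInstance, inferInstance⟩ : p₁.primesOver S₁)).symm.trans ?_
      show Yf.1.comap _ = (Yf.1.comap eC.symm.toRingEquiv.toRingHom).comap (algebraMap S₁ C)
      rw [Ideal.comap_comap]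
      congr 1
      refine RingHom.ext fun s => ?_
      show (1 : A') ⊗ₜ[R₁] s = eC.symm (algebraMap S₁ C s)
      rw [eq_comm, AlgEquiv.symm_apply_eq]
      simp [eC, Algebra.IsPushout.equiv_tmul]⟩
    letI : Module S₁ N' := Module.compHom _ (algebraMap S₁ C)
    haveI : IsScalarTower S₁ C N' := .of_algebraMap_smul fun _ _ => rfl
    haveI : IsScalarTower B S₁ N' := .of_algebraMap_smul fun b (m : N') => by
      show algebraMap S₁ C (algebraMap B S₁ b) • m = b • m
      rw [← IsScalarTower.algebraMap_apply B S₁ C, algebraMap_smul]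
    let g := (TensorProduct.isBaseChange B N S₁).lift f
    have hg : IsBaseChange C g := IsBaseChange.of_comp (TensorProduct.isBaseChange B N S₁) (by
      rwa [show (g.restrictScalars B) ∘ₗ TensorProduct.mk B S₁ N 1 = f from
        LinearMap.ext fun m => (TensorProduct.isBaseChange B N S₁).lift_eq f m])
    have hDev' : Dev A' p' C N' w' :=
      Dev.baseChange hres (hDev (S₁ ⊗[B] N) _ (TensorProduct.isBaseChange B N S₁)) C N' g hg w'
    obtain ⟨D, -⟩ := hDev'.hasComplete
    exact ⟨D⟩
  · rw [Module.mem_support_iff_of_finite, SetLike.not_le_iff_exists] at h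
    obtain ⟨g, hg, hgq⟩ := h
    let S₁ := Localization.Away g
    have hd : Disjoint (Submonoid.powers g : Set B) q :=
      (Ideal.disjoint_powers_iff_notMem g (inferInstance : q.IsPrime).isRadical).2 hgq
    let w : Ideal S₁ := q.map (algebraMap B S₁)
    haveI : w.IsPrime := IsLocalization.isPrime_of_isPrime_disjoint (Submonoid.powers g) _ q inferInstance hd
    haveI : w.LiesOver q := IsLocalization.liesOver_map_of_isPrime_disjoint (Submonoid.powers g) _ hd
    haveI : w.LiesOver p := Ideal.LiesOver.trans w q p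
    refine ⟨A, S₁, inferInstance, inferInstance, inferInstance, inferInstance, inferInstance, inferInstance, inferInstance,
      inferInstance, p, w, inferInstance, inferInstance, ⟨inferInstance, inferInstance, ?_⟩,
      isEtaleNhd_away g q hgq w, inferInstance, ?_⟩
    · exact DevissLib.residue_bijective_of_frac p p (fun b => ⟨1, b, p.one_notMem, by simp⟩)
    intro A' _ _ _ p' _ _ _ C _ _ _ _ _ _ _ _ _ N' _ _ _ _ f hf
    haveI : Subsingleton N' := by
      refine subsingleton_of_forall_eq 0 fun m => ?_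
      induction m using hf.inductionOn with
      | zero => rfl
      | tmul m =>
        have hu : IsUnit (algebraMap B C g) := by
          rw [IsScalarTower.algebraMap_apply B S₁ C]
          exact (IsLocalization.Away.algebraMap_isUnit g).map _
        refine hu.smul_eq_zero.1 ?_
        rw [algebraMap_smul, ← map_smul, Module.mem_annihilator.1 hg m, map_zero]
      | smul s m hm => rw [hm, smul_zero]
      | add u v hu hv => rw [hu, hv, add_zero]
    exact nonempty_completeDevissage_of_subsingleton A' C N' p'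

/-- Finitely many étale neighbourhoods with trivial residue extension are dominated by one. -/
theorem exists_common_nhd {A : Type u} [CommRing A] (p : Ideal A) [p.IsPrime] :
    ∀ (k : ℕ) (R : Fin k → Type u) [∀ i, CommRing (R i)] [∀ i, Algebra A (R i)] (P : ∀ i, Ideal (R i))
      [∀ i, (P i).IsPrime], (∀ i, FlatCA.IsEtaleNhd A (R i) p (P i)) →
      ∃ (A' : Type u) (_ : CommRing A') (_ : Algebra A A') (p' : Ideal A') (_ : p'.IsPrime),
        FlatCA.IsEtaleNhd A A' p p' ∧ ∀ i, ∃ h : R i →ₐ[A] A', p'.comap h.toRingHom = P i := by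
  intro k
  induction k with
  | zero =>
    intro R _ _ P _ _
    haveI : p.LiesOver p := ⟨(Ideal.comap_id p).symm⟩
    exact ⟨A, inferInstance, inferInstance, p, inferInstance,
      ⟨inferInstance, inferInstance, DevissLib.residue_bijective_of_frac p p (fun b => ⟨1, b, p.one_notMem, by simp⟩)⟩,
      fun i => i.elim0⟩
  | succ k ih =>
    intro R _ _ P _ h
    obtain ⟨A₀, _, _, p₀, hp₀, ⟨hA₀, hp₀p, hres₀⟩, hh⟩ :=
      ih (fun i => R i.castSucc) (fun i => P i.castSucc) fun i => h i.castSucc
    haveI := hp₀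
    haveI := hA₀
    haveI := hp₀p
    obtain ⟨hRe, hPp, hresl⟩ := h (Fin.last k)
    haveI := hRe
    haveI := hPp
    let A' := A₀ ⊗[A] R (Fin.last k)
    let Yf := (Ideal.fiberIsoOfBijectiveResidueField (S := R (Fin.last k)) hres₀).symm
      ⟨P (Fin.last k), inferInstance, inferInstance⟩
    let p' : Ideal A' := Yf.1
    haveI : p'.IsPrime := Yf.2.1
    haveI : p'.LiesOver p₀ := Yf.2.2
    haveI : p'.LiesOver p := Ideal.LiesOver.trans p' p₀ p
    have hc : p'.comap (algebraMap (R (Fin.last k)) A') = P (Fin.last k) :=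
      Ideal.comap_fiberIsoOfBijectiveResidueField_symm hres₀ _
    haveI : p'.LiesOver (P (Fin.last k)) := ⟨hc.symm⟩
    haveI : Algebra.Etale A A' := Algebra.Etale.comp A A₀ A'
    refine ⟨A', inferInstance, inferInstance, p', inferInstance, ⟨inferInstance, inferInstance,
      DevissLib.residue_bijective_of_frac p p' ((DevissLib.fracMod_of_bijective p (P (Fin.last k)) hresl).trans
        ((DevissLib.fracMod_of_bijective p p₀ hres₀).tensor p' (P (Fin.last k))))⟩, fun i => ?_⟩
    induction i using Fin.lastCases with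
    | last => exact ⟨Algebra.TensorProduct.includeRight, hc⟩
    | cast i =>
      obtain ⟨g, hg⟩ := hh i
      refine ⟨(Algebra.TensorProduct.includeLeft : A₀ →ₐ[A] A').comp g, ?_⟩
      rw [← hg, show ((Algebra.TensorProduct.includeLeft : A₀ →ₐ[A] A').comp g).toRingHom =
        (algebraMap A₀ A').comp g.toRingHom from rfl, ← Ideal.comap_comap]
      exact congrArg (Ideal.comap g.toRingHom) (p'.over_def p₀).symm

/-- A chart catches an open piece of the fibre. -/
theorem exists_open_chart {A B : Type u} [CommRing A] [CommRing B] [Algebra A B]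
    {R₁ S₁ : Type u} [CommRing R₁] [CommRing S₁] [Algebra A R₁] [Algebra B S₁] [Algebra R₁ S₁] [Algebra A S₁]
    [IsScalarTower A R₁ S₁] [IsScalarTower A B S₁] [Algebra.Etale A R₁] [Algebra.Etale B S₁]
    (p : Ideal A) [p.IsPrime] (p₁ : Ideal R₁) [p₁.IsPrime] [p₁.LiesOver p] (w : Ideal S₁) [w.IsPrime] [w.LiesOver p₁] :
    ∃ U : Set (PrimeSpectrum B), IsOpen U ∧ PrimeSpectrum.comap (algebraMap B S₁) ⟨w, inferInstance⟩ ∈ U ∧
      ∀ Q ∈ U, Q.asIdeal.LiesOver p →
        ∃ w' : Ideal S₁, w'.IsPrime ∧ w'.comap (algebraMap B S₁) = Q.asIdeal ∧ w'.LiesOver p₁ := by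
  obtain ⟨a, ha, haP⟩ : ∃ a ∉ p₁, ∀ (P : Ideal R₁), P.IsPrime → p₁ ≠ P → P.LiesOver p → a ∈ P := by
    classical
    have hfin : (p.primesOver R₁).Finite := Algebra.QuasiFinite.finite_primesOver p
    have : ∀ P : Ideal R₁, ∃ g ∉ p₁, P ∈ p.primesOver R₁ → P ≠ p₁ → g ∈ P := fun P => by
      by_cases hP : P ∈ p.primesOver R₁ ∧ P ≠ p₁
      · haveI := hP.1.1
        haveI := hP.1.2
        obtain ⟨g, hg, hgp⟩ := SetLike.not_le_iff_exists.1 fun hle =>
          hP.2 (Algebra.QuasiFiniteAt.eq_of_le_of_under_eq (R := A) hle ((P.over_def p).symm.trans (p₁.over_def p)))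
        exact ⟨g, hgp, fun _ _ => hg⟩
      · exact ⟨1, Ideal.IsPrime.one_notMem inferInstance, fun h1 h2 => absurd ⟨h1, h2⟩ hP⟩
    choose g hg hg' using this
    refine ⟨∏ P ∈ hfin.toFinset, g P, fun h => ?_, fun P hP hne hPp => ?_⟩
    · obtain ⟨P, -, hP⟩ := (inferInstance : p₁.IsPrime).prod_mem_iff.1 h
      exact hg P hP
    · exact P.mem_of_dvd (Finset.dvd_prod_of_mem g (hfin.mem_toFinset.2 ⟨hP, hPp⟩)) (hg' P ⟨hP, hPp⟩ (Ne.symm hne))
  refine ⟨PrimeSpectrum.comap (algebraMap B S₁) '' (PrimeSpectrum.basicOpen (algebraMap R₁ S₁ a) : Set _),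
    (PrimeSpectrum.isOpenMap_comap_of_hasGoingDown_of_finitePresentation (R := B) (S := S₁)) _
      (PrimeSpectrum.basicOpen _).2, ⟨⟨w, inferInstance⟩, (fun hm => ha ((w.over_def p₁).ge hm) : algebraMap R₁ S₁ a ∉ w), rfl⟩, ?_⟩
  rintro Q ⟨W, hW, rfl⟩ hQ
  refine ⟨W.asIdeal, W.isPrime, rfl, ⟨?_⟩⟩
  by_contra hne
  refine hW (haP (W.asIdeal.comap (algebraMap R₁ S₁)) inferInstance hne ⟨?_⟩)
  show p = (W.asIdeal.comap (algebraMap R₁ S₁)).comap (algebraMap A R₁)
  rw [Ideal.comap_comap, ← IsScalarTower.algebraMap_eq, IsScalarTower.algebraMap_eq A B S₁, ← Ideal.comap_comap]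
  exact hQ.over

end Groth.Agent.DevLib
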