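import Groth.Agent.DevLib.FreeCover
import Groth.Agent.DevissLib.FP

/-!
# Descending flatness and finite presentation to basic opens
-/

set_option autoImplicit false
set_option linter.style.haveILetI false
set_option backward.isDefEq.respectTransparency false
set_option backward.isDefEq.respectTransparency.types false
set_option maxHeartbeats 2000000

universe u

open TensorProduct

noncomputable section

namespace Groth.Agent.DevLib

/-- Flatness over a lower ring descends along faithfully flat maps. -/
theorem flat_descend {A T U : Type u} [CommRing A] [CommRing T] [CommRing U] [Algebra A T] [Algebra T U] [Algebra A U]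
    [IsScalarTower A T U] [Module.FaithfullyFlat T U] (X : Type u) [AddCommGroup X] [Module T X] [Module A X]
    [IsScalarTower A T X] (h : Module.Flat A (U ⊗[T] X)) : Module.Flat A X := by
  haveI := h
  rw [Module.Flat.iff_lTensor_injective']
  intro I
  have h1 : Function.Injective (I.subtype.lTensor (U ⊗[T] X)) :=
    Module.Flat.lTensor_preserves_injective_linearMap _ I.subtype_injective
  let a₁ := AlgebraTensorModule.assoc A T U U X I
  let a₂ := AlgebraTensorModule.assoc A T U U X A
  have key : ∀ z, a₂ (I.subtype.lTensor (U ⊗[T] X) z) = (AlgebraTensorModule.lTensor T X I.subtype).lTensor U (a₁ z) := by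
    intro z
    induction z using TensorProduct.induction_on with
    | zero => simp
    | add u v hu hv => simp only [map_add, hu, hv]
    | tmul x i =>
      induction x using TensorProduct.induction_on with
      | zero => simp
      | add u v hu hv => simp only [TensorProduct.add_tmul, map_add, hu, hv]
      | tmul t m => simp [a₁, a₂]
  have h2 : Function.Injective ((AlgebraTensorModule.lTensor T X I.subtype).lTensor U) := fun z z' hz => by
    obtain ⟨y, rfl⟩ := a₁.surjective z
    obtain ⟨y', rfl⟩ := a₁.surjective z'
    rw [← key, ← key] at hz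
    rw [h1 (a₂.injective hz)]
  exact (Module.FaithfullyFlat.lTensor_injective_iff_injective T U _).1 h2

/-- A module flat and finitely presented after an étale extension is so on a basic open around every point of the image. -/
theorem exists_away_descend {A SA C : Type u} [CommRing A] [CommRing SA] [CommRing C] [Algebra A SA] [Algebra A C]
    [Algebra SA C] [IsScalarTower A SA C] [Algebra.Etale SA C] (NA : Type u) [AddCommGroup NA] [Module SA NA] [Module A NA]
    [IsScalarTower A SA NA] (hflat : Module.Flat A (C ⊗[SA] NA)) (Q : Ideal SA) [Q.IsPrime]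
    (hQ : ∃ x' : Ideal C, x'.IsPrime ∧ x'.comap (algebraMap SA C) = Q) :
    ∃ g : SA, g ∉ Q ∧ Module.Flat A (LocalizedModule (Submonoid.powers g) NA) ∧
      (Module.FinitePresentation C (C ⊗[SA] NA) →
        Module.FinitePresentation (Localization.Away g) (LocalizedModule (Submonoid.powers g) NA)) := by
  obtain ⟨x', hx', hxQ⟩ := hQ
  have hopen : IsOpenMap (PrimeSpectrum.comap (algebraMap SA C)) :=
    PrimeSpectrum.isOpenMap_comap_of_hasGoingDown_of_finitePresentation
  obtain ⟨_, ⟨g, rfl⟩, hg, hsub⟩ := PrimeSpectrum.isTopologicalBasis_basic_opens.exists_subset_of_mem_open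
    (show (⟨Q, inferInstance⟩ : PrimeSpectrum SA) ∈ Set.range (PrimeSpectrum.comap (algebraMap SA C)) from
      ⟨⟨x', hx'⟩, PrimeSpectrum.ext hxQ⟩) hopen.isOpen_range
  refine ⟨g, hg, ?_⟩
  let U := Localization (Submonoid.powers g)
  let V := Localization (Submonoid.powers (algebraMap SA C g))
  have hu : IsUnit (algebraMap SA V g) := by
    rw [IsScalarTower.algebraMap_apply SA C V]
    exact IsLocalization.Away.algebraMap_isUnit _
  letI : Algebra U V := (IsLocalization.Away.lift (S := U) g (g := algebraMap SA V) hu).toAlgebra
  haveI : IsScalarTower SA U V := .of_algebraMap_eq fun z => (IsLocalization.Away.lift_eq g hu z).symm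
  haveI : IsScalarTower A U V := IsScalarTower.of_algebraMap_eq (R := A) (S := U) (A := V) fun r => by
    rw [IsScalarTower.algebraMap_apply A SA U, ← IsScalarTower.algebraMap_apply SA U V,
      IsScalarTower.algebraMap_apply A C V, IsScalarTower.algebraMap_apply A SA C, ← IsScalarTower.algebraMap_apply SA C V]
  haveI : Module.Flat C V := IsLocalization.flat _ (Submonoid.powers (algebraMap SA C g))
  haveI : Module.Flat SA V := Module.Flat.trans SA C V
  haveI : Module.Flat U V := (Module.flat_iff_of_isLocalization U (Submonoid.powers g) V).2 inferInstance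
  haveI : Module.FaithfullyFlat U V := by
    refine Module.FaithfullyFlat.of_comap_surjective fun P => ?_
    have hP : g ∉ (P.asIdeal.comap (algebraMap SA U)) := fun hm =>
      P.isPrime.ne_top (Ideal.eq_top_of_isUnit_mem _ hm (IsLocalization.Away.algebraMap_isUnit g))
    obtain ⟨y, hy⟩ := hsub (show PrimeSpectrum.comap (algebraMap SA U) P ∈ PrimeSpectrum.basicOpen g from hP)
    have hy' : algebraMap SA C g ∉ y.asIdeal := fun hm => hP (by
      rw [← PrimeSpectrum.comap_asIdeal, ← hy]
      exact hm)
    obtain ⟨z, hz⟩ : y ∈ Set.range (PrimeSpectrum.comap (algebraMap C V)) := by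
      rw [show Set.range (PrimeSpectrum.comap (algebraMap C V)) =
        (PrimeSpectrum.basicOpen (algebraMap SA C g) : Set _) from PrimeSpectrum.localization_away_comap_range V _]
      exact hy'
    refine ⟨z, PrimeSpectrum.localization_comap_injective U (Submonoid.powers g) ?_⟩
    rw [← hy, ← hz, ← PrimeSpectrum.comap_comp_apply, ← PrimeSpectrum.comap_comp_apply, ← IsScalarTower.algebraMap_eq,
      ← IsScalarTower.algebraMap_eq]
  have hb := TensorProduct.isBaseChange SA NA C
  obtain ⟨e⟩ := DevissLib.exists_localized_equiv (Submonoid.powers g) (Submonoid.powers (algebraMap SA C g)) hb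
  refine ⟨?_, DevissLib.fp_localized_descent (Submonoid.powers g) (Submonoid.powers (algebraMap SA C g)) hb ∘ fun h => ?_⟩
  · haveI := hflat
    haveI : Module.Flat A (V ⊗[C] (C ⊗[SA] NA)) := flat_tensor _
    haveI : Module.Flat A (LocalizedModule (Submonoid.powers (algebraMap SA C g)) (C ⊗[SA] NA)) :=
      Module.Flat.of_linearEquiv ((LocalizedModule.equivTensorProduct _ (C ⊗[SA] NA)).restrictScalars A)
    exact flat_descend (U := V) _ (Module.Flat.of_linearEquiv (e.restrictScalars A))
  · haveI := h
    exact Module.FinitePresentation.of_equiv (LocalizedModule.equivTensorProduct _ (C ⊗[SA] NA)).symm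

attribute [local instance] Algebra.TensorProduct.rightAlgebra

/-- A point of a base change with trivial residue extension is determined by its image and its point of the base. -/
theorem eq_of_pushout {R A S SA : Type u} [CommRing R] [CommRing A] [CommRing S] [CommRing SA] [Algebra R A] [Algebra R S]
    [Algebra R SA] [Algebra A SA] [Algebra S SA] [IsScalarTower R A SA] [IsScalarTower R S SA] [Algebra.IsPushout R A S SA]
    {p : Ideal R} [p.IsPrime] {m : Ideal A} [m.IsPrime] [m.LiesOver p] (hres : DevissLib.FracMod p m)
    (Q Q' : Ideal SA) [Q.IsPrime] [Q'.IsPrime] [Q.LiesOver m] [Q'.LiesOver m]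
    (h : Q.comap (algebraMap S SA) = Q'.comap (algebraMap S SA)) : Q = Q' := by
  let eB : A ⊗[R] S ≃ₐ[A] SA := Algebra.IsPushout.equiv R A S SA
  have hl : ∀ (Q : Ideal SA) [Q.LiesOver m], (Q.comap eB.toRingEquiv.toRingHom).LiesOver m := fun Q _ => ⟨by
    show m = (Q.comap eB.toRingEquiv.toRingHom).comap (algebraMap A _)
    rw [Ideal.comap_comap, show eB.toRingEquiv.toRingHom.comp (algebraMap A (A ⊗[R] S)) = algebraMap A SA from
      RingHom.ext fun a => eB.commutes a]
    exact Q.over_def m⟩
  haveI := hl Q
  haveI := hl Q'
  refine Ideal.comap_injective_of_surjective eB.toRingEquiv.toRingHom eB.surjective ?_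
  refine Ideal.eq_of_comap_eq_comap_of_bijective_residueFieldMap (DevissLib.residue_bijective_of_frac p m hres) _ _ ?_
  rw [Ideal.comap_comap, Ideal.comap_comap,
    show eB.toRingEquiv.toRingHom.comp (Algebra.TensorProduct.includeRight (R := R) (A := A) (B := S)).toRingHom =
      algebraMap S SA from RingHom.ext fun b => by simp [eB, Algebra.IsPushout.equiv_tmul]]
  exact h

/-- The unique point over a point of the original algebra in the base change to the local ring. -/
theorem eq_of_etaleNhd {R R' S SA : Type u} [CommRing R] [CommRing R'] [CommRing S] [CommRing SA] [Algebra R R'] [Algebra R S]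
    {p : Ideal R} [p.IsPrime] {p' : Ideal R'} [p'.IsPrime] (hR' : FlatCA.IsEtaleNhd R R' p p')
    [Algebra R SA] [Algebra S SA] [Algebra (Localization.AtPrime p') SA] [IsScalarTower R S SA]
    [IsScalarTower R (Localization.AtPrime p') SA] [Algebra.IsPushout R S (Localization.AtPrime p') SA]
    (Q Q' : Ideal SA) [Q.IsPrime] [Q'.IsPrime] (hQ : Q.LiesOver (IsLocalRing.maximalIdeal (Localization.AtPrime p')))
    (hQ' : Q'.LiesOver (IsLocalRing.maximalIdeal (Localization.AtPrime p')))
    (h : Q.comap (algebraMap S SA) = Q'.comap (algebraMap S SA)) : Q = Q' := by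
  haveI := hQ
  haveI := hQ'
  haveI := hR'.2.1
  haveI : (IsLocalRing.maximalIdeal (Localization.AtPrime p')).LiesOver p :=
    Ideal.LiesOver.trans (IsLocalRing.maximalIdeal (Localization.AtPrime p')) p' p
  haveI : Algebra.IsPushout R (Localization.AtPrime p') S SA := Algebra.IsPushout.symm inferInstance
  exact eq_of_pushout (fracMod_atPrime hR') Q Q' h

/-- A point of the fibre of the base change lies over the point of the base. -/
theorem liesOver_of_etaleNhd {R R' S SA : Type u} [CommRing R] [CommRing R'] [CommRing S] [CommRing SA] [Algebra R R'] [Algebra R S]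
    {p : Ideal R} [p.IsPrime] {p' : Ideal R'} [p'.IsPrime] (hR' : FlatCA.IsEtaleNhd R R' p p')
    [Algebra R SA] [Algebra S SA] [Algebra (Localization.AtPrime p') SA] [IsScalarTower R S SA]
    [IsScalarTower R (Localization.AtPrime p') SA] (Q : Ideal SA)
    (hQ : Q.LiesOver (IsLocalRing.maximalIdeal (Localization.AtPrime p'))) :
    (Q.comap (algebraMap S SA)).LiesOver p := by
  haveI := hR'.2.1
  haveI : (IsLocalRing.maximalIdeal (Localization.AtPrime p')).LiesOver p :=
    Ideal.LiesOver.trans (IsLocalRing.maximalIdeal (Localization.AtPrime p')) p' p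
  constructor
  rw [Ideal.under_def, Ideal.comap_comap, ← IsScalarTower.algebraMap_eq,
    IsScalarTower.algebraMap_eq R (Localization.AtPrime p') SA, ← Ideal.comap_comap]
  exact ((IsLocalRing.maximalIdeal (Localization.AtPrime p')).over_def p).trans
    (congrArg (Ideal.comap (algebraMap R (Localization.AtPrime p'))) hQ.over)

end Groth.Agent.DevLib
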