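import Groth.Agent.DevLib.Piece

/-!
# Dévissage
-/

set_option autoImplicit false

universe u

open CategoryTheory CategoryTheory.Limits AlgebraicGeometry TopologicalSpace Opposite
open Groth.Agent.PullbackMod Groth.Agent.CohBase Groth.Agent.QCohLib

noncomputable section

namespace Groth.Agent.DevLib

variable {X : Scheme.{u}}

/-- Coherent modules supported on the closure of `ξ` without `ξ`. -/
def SmallerOK (P : X.Modules → Prop) (ξ : X) : Prop :=
  ∀ M : X.Modules, Coh.IsCoh M → (∀ y ∈ CohB1.support M, ξ ⤳ y) → ξ ∉ CohB1.support M → P M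

lemma subsingleton_subAt_bot {M : X.Modules} {ξ : X} :
    ξ ∉ CohB1.support (subAt (⊥ : Submodule (X.presheaf.stalk ξ) (M.presheaf.stalk ξ))) := by
  rw [mem_support_iff, not_not]
  refine ⟨fun a b => injective_stalk_subAtι _ ξ ?_⟩
  have h := fun c => (Submodule.mem_bot _).1
    ((range_stalk_subAtι (⊥ : Submodule (X.presheaf.stalk ξ) (M.presheaf.stalk ξ))).le ⟨c, rfl⟩)
  rw [h a, h b]

lemma mem_sup_closeds (S : Finset (Closeds X)) (y : X) : y ∈ S.sup id ↔ ∃ k ∈ S, y ∈ k := by
  classical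
  induction S using Finset.induction_on with
  | empty => simp [← SetLike.mem_coe]
  | insert k S hk ih =>
    rw [Finset.sup_insert, id_eq, ← SetLike.mem_coe, Closeds.coe_sup, Set.mem_union, SetLike.mem_coe,
      SetLike.mem_coe, ih]
    simp

/-- A maximal point of a nonempty closed subset with a neighbourhood seeing nothing else. -/
theorem exists_top_point [NoetherianSpace X] {C : Set X} (hC : IsClosed C) (hne : C.Nonempty) :
    ∃ ξ ∈ C, ∃ W₀ : X.Opens, ξ ∈ W₀ ∧ ∀ y ∈ W₀, y ∈ C → ξ ⤳ y := by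
  classical
  obtain ⟨S, hirr, hsup⟩ := NoetherianSpace.exists_finset_irreducible (⟨C, hC⟩ : Closeds X)
  have hmem : ∀ y, y ∈ C ↔ ∃ k ∈ S, y ∈ k := fun y => by
    rw [← mem_sup_closeds, ← hsup]
    rfl
  obtain ⟨y₀, hy₀⟩ := hne
  obtain ⟨k₀, hk₀, -⟩ := (hmem y₀).1 hy₀
  obtain ⟨Z, hZ⟩ := S.exists_maximal ⟨k₀, hk₀⟩
  have hZi : IsIrreducible (Z : Set X) := hirr ⟨Z, hZ.1⟩
  obtain ⟨ξ, hξ⟩ := QuasiSober.sober hZi Z.isClosed
  refine ⟨ξ, (hmem ξ).2 ⟨Z, hZ.1, hξ.mem⟩, ((S.erase Z).sup id).compl, fun hmem' => ?_, fun y hy hyC => ?_⟩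
  · obtain ⟨k, hk, hξk⟩ := (mem_sup_closeds _ _).1 hmem'
    have hle : Z ≤ k := fun w hw => (hξ.specializes hw).mem_closed k.isClosed hξk
    exact (Finset.ne_of_mem_erase hk) (le_antisymm (hZ.2 (Finset.mem_of_mem_erase hk) hle) hle)
  · obtain ⟨k, hk, hyk⟩ := (hmem y).1 hyC
    by_cases hkZ : k = Z
    · exact hξ.specializes (hkZ ▸ hyk)
    · exact absurd ((mem_sup_closeds _ _).2 ⟨k, Finset.mem_erase.2 ⟨hkZ, hk⟩, hyk⟩) hy

/-- Dévissage: a property closed under extensions holds for all coherent modules once it holds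
for pieces, assuming it for smaller supports. -/
theorem devissage [IsNoetherian X] (T : Set X) (P : X.Modules → Prop)
    (hiso : ∀ M N : X.Modules, Nonempty (M ≅ N) → P M → P N)
    (hzero : ∀ M : X.Modules, IsZero M → P M)
    (hext : ∀ S : ShortComplex X.Modules, S.ShortExact → Coh.IsCoh S.X₁ → Coh.IsCoh S.X₂ →
      Coh.IsCoh S.X₃ → CohB1.support S.X₂ ⊆ T → P S.X₁ → P S.X₃ → P S.X₂)
    (hpiece : ∀ ξ ∈ T, closure {ξ} ⊆ T → ∀ Q : X.Modules, IsPiece ξ Q → SmallerOK P ξ → P Q)
    (M : X.Modules) (hM : Coh.IsCoh M) (hT : CohB1.support M ⊆ T) : P M := by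
  suffices H : ∀ C : Closeds X, ∀ M : X.Modules, Coh.IsCoh M → CohB1.support M ⊆ (C : Set X) →
      CohB1.support M ⊆ T → P M from
    H ⟨_, isClosed_support hM⟩ M hM subset_rfl hT
  intro C
  induction C using WellFoundedLT.induction with
  | _ C IH =>
    intro M hM hMC hMT
    have hcl := isClosed_support hM
    have smaller : ∀ N : X.Modules, Coh.IsCoh N → CohB1.support N ⊆ CohB1.support M →
        (∃ ξ ∈ (C : Set X), ξ ∉ CohB1.support N) → P N := fun N hN hsub ⟨ξ, hξC, hξN⟩ =>
      IH ⟨_, isClosed_support hN⟩ (lt_of_le_of_ne (show CohB1.support N ⊆ (C : Set X) from hsub.trans hMC)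
        fun he => hξN (SetLike.ext_iff.1 he ξ |>.2 hξC))
        N hN subset_rfl (hsub.trans hMT)
    by_cases hne : (CohB1.support M).Nonempty
    swap
    · exact hzero M (isZero_of_support_empty (Set.not_nonempty_iff_eq_empty.1 hne))
    by_cases heq : CohB1.support M = (C : Set X)
    swap
    · obtain ⟨ξ, hξ, hξ'⟩ := Set.exists_of_ssubset (hMC.ssubset_of_ne heq)
      exact smaller M hM subset_rfl ⟨ξ, hξ, hξ'⟩
    obtain ⟨ξ, hξC, W₀, hξW, hW₀⟩ := exists_top_point hcl hne
    haveI := hM.1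
    let B : Submodule (X.presheaf.stalk ξ) (M.presheaf.stalk ξ) := ⊥
    have hB : Absorbs B := absorbs_bot hξW hW₀
    have hsubB : CohB1.support (subAt B) ⊆ CohB1.support M := support_subset_of_mono (subAtι B)
    have hN : P (subAt B) :=
      smaller _ (isCoh_subAt hM hB) hsubB ⟨ξ, hMC hξC, subsingleton_subAt_bot⟩
    by_cases hirr : ∀ y ∈ CohB1.support M, ξ ⤳ y
    swap
    · push Not at hirr
      obtain ⟨y, hy, hyξ⟩ := hirr
      refine hext (cokerSeq (subAtι B)) (cokerSeq_shortExact _) (isCoh_subAt hM hB) hM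
        (isCoh_kernel_cokernel _ (isCoh_subAt hM hB) hM).2 hMT hN ?_
      refine smaller _ (isCoh_kernel_cokernel _ (isCoh_subAt hM hB) hM).2
        (support_coker_subset _) ⟨y, hMC hy, ?_⟩
      rw [mem_support_iff, not_not]
      exact subsingleton_coker _ (surjective_stalk_subAtι B hyξ)
    -- irreducible support: climb along the submodules of the stalk
    haveI : IsNoetherianRing (X.presheaf.stalk ξ) := inferInstance
    haveI := finite_stalk_of_isFT hM.2 ξ
    haveI : _root_.IsNoetherian (X.presheaf.stalk ξ) (M.presheaf.stalk ξ) := inferInstance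
    obtain ⟨S, hS, hmax⟩ := set_has_maximal_iff_noetherian.2 ‹_›
      {S : Submodule (X.presheaf.stalk ξ) (M.presheaf.stalk ξ) | P (subAt S)} ⟨B, hN⟩
    by_cases htop : S = ⊤
    · haveI : IsIso (subAtι S) := by
        refine (isIso_iff_stalk _).2 fun y => ⟨injective_stalk_subAtι S y, fun z => ?_⟩
        obtain ⟨U, hy, s, rfl⟩ := TopCat.Presheaf.exists_germ_eq M.presheaf z
        obtain ⟨t, rfl⟩ := (exists_app_subAtι S U s).2 fun _ => by rw [htop]; trivial
        exact ⟨(subAt S).presheaf.germ U y hy t, stalkLin_germ _ _ _ _⟩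
      exact hiso _ _ ⟨asIso (subAtι S)⟩ hS
    exfalso
    have hSabs : Absorbs S := hB.mono bot_le
    haveI : Nontrivial (M.presheaf.stalk ξ ⧸ S) := Submodule.Quotient.nontrivial_iff.2 htop
    obtain ⟨p, hp⟩ := associatedPrimes.nonempty (X.presheaf.stalk ξ) (M.presheaf.stalk ξ ⧸ S)
    haveI := hp.isPrime
    obtain ⟨q, hq⟩ := ((isAssociatedPrime_iff_exists_injective_linearMap _ _).1 hp).2
    have hpm : p = IsLocalRing.maximalIdeal (X.presheaf.stalk ξ) := by
      refine le_antisymm (IsLocalRing.le_maximalIdeal hp.isPrime.ne_top) fun a ha => ?_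
      obtain ⟨z, hz⟩ := Submodule.Quotient.mk_surjective S (q 1)
      obtain ⟨k, hk⟩ := hSabs a ha z
      refine hp.isPrime.mem_of_pow_mem k (Ideal.Quotient.eq_zero_iff_mem.1 (hq.eq_iff' (map_zero q) |>.1 ?_))
      rw [← Ideal.Quotient.algebraMap_eq, Algebra.algebraMap_eq_smul_one, map_smul, ← hz,
        ← Submodule.Quotient.mk_smul]
      exact (Submodule.Quotient.mk_eq_zero S).2 hk
    let S' : Submodule (X.presheaf.stalk ξ) (M.presheaf.stalk ξ) := (LinearMap.range q).comap S.mkQ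
    have hle : S ≤ S' := fun z hz => by
      show S.mkQ z ∈ LinearMap.range q
      rw [Submodule.mkQ_apply, (Submodule.Quotient.mk_eq_zero S).2 hz]
      exact zero_mem _
    have hlt : S < S' := lt_of_le_of_ne hle fun he => by
      obtain ⟨z, hz⟩ := Submodule.Quotient.mk_surjective S (q 1)
      have hzS : z ∈ S := by rw [he]; exact ⟨1, hz.symm⟩
      have h1 : q 1 = q 0 := by rw [← hz, (Submodule.Quotient.mk_eq_zero S).2 hzS, map_zero]
      exact hp.isPrime.ne_top ((Ideal.eq_top_iff_one _).2 (Ideal.Quotient.eq_zero_iff_mem.1 (hq h1)))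
    refine hmax S' ?_ hlt
    have hsimple : IsSimpleModule (X.presheaf.stalk ξ) (↥S' ⧸ S.comap S'.subtype) := by
      subst hpm
      haveI : IsSimpleModule (X.presheaf.stalk ξ)
          (X.presheaf.stalk ξ ⧸ IsLocalRing.maximalIdeal (X.presheaf.stalk ξ)) :=
        isSimpleModule_iff_quot_maximal.2 ⟨_, inferInstance, ⟨LinearEquiv.refl _ _⟩⟩
      let π : ↥S' →ₗ[X.presheaf.stalk ξ] LinearMap.range q :=
        LinearMap.codRestrict _ (S.mkQ ∘ₗ S'.subtype) fun z => z.2
      have hπ : Function.Surjective π := by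
        rintro ⟨w, hw⟩
        obtain ⟨z, rfl⟩ := Submodule.Quotient.mk_surjective S w
        exact ⟨⟨z, hw⟩, rfl⟩
      have hk : LinearMap.ker π = S.comap S'.subtype := by
        ext z
        simp [π, LinearMap.ker_codRestrict]
      exact IsSimpleModule.congr (((Submodule.quotEquivOfEq _ _ hk.symm).trans
        (LinearMap.quotKerEquivOfSurjective π hπ)).trans (LinearEquiv.ofInjective q hq).symm)
    have hS'coh := isCoh_subAt hM (hSabs.mono hle)
    have hQ := isPiece_coker hM hSabs hle hirr hsimple (subAtMap hle) (subAtMap_ι hle)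
    refine hext (cokerSeq (subAtMap hle)) (cokerSeq_shortExact _) (isCoh_subAt hM hSabs) hS'coh hQ.coh
      ((support_subset_of_mono (subAtι S')).trans hMT) hS ?_
    refine hpiece ξ (hMT hξC) ?_ _ hQ fun N hN hNs hξN => ?_
    · intro w hw
      exact hMT ((specializes_iff_mem_closure.2 hw).mem_closed hcl hξC)
    · refine smaller N hN (fun w hw => (hNs w hw).mem_closed hcl hξC) ⟨ξ, hMC hξC, hξN⟩

end Groth.Agent.DevLib
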