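import Groth.Agent.DevissLib.Coord
import Groth.Agent.DevissLib.ExistAux
import Groth.Agent.DevissLib.ExistPoint
import Groth.Agent.DevissLib.Exist
import Groth.Agent.FibAssLib.Fibre
import Groth.Agent.S1276

/-!
# A finite presentation of a piece of a module over a smooth algebra
-/

set_option autoImplicit false
set_option linter.style.haveILetI false
set_option backward.isDefEq.respectTransparency false
set_option backward.isDefEq.respectTransparency.types false
set_option maxHeartbeats 4000000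

universe u

open TensorProduct

noncomputable section

namespace Groth.Agent.DevLib

attribute [local instance] Algebra.TensorProduct.rightAlgebra

/-- A point quasi-finite over `n` coordinates of transcendence degree `n` lies over the generic point. -/
theorem comap_le_map_of_trdeg {A T C : Type u} [CommRing A] [CommRing T] [CommRing C] [Algebra A T] [Algebra T C]
    [Algebra A C] [IsScalarTower A T C] (p : Ideal A) [p.IsPrime] (η : Ideal C) [η.IsPrime] [η.LiesOver p]
    [Algebra.QuasiFiniteAt T η] {ι : Type} [Fintype ι] (v : ι → T) (hv : Function.Surjective (MvPolynomial.aeval (R := A) v))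
    (htr : Algebra.trdeg (A ⧸ p) (C ⧸ η) = Fintype.card ι) :
    η.comap (algebraMap T C) ≤ p.map (algebraMap A T) := by
  classical
  let P' : Ideal T := η.under T
  haveI : η.LiesOver P' := ⟨rfl⟩
  haveI : P'.LiesOver p := ⟨by rw [Ideal.under_under]; exact η.over_def p⟩
  haveI : IsScalarTower (A ⧸ p) (T ⧸ P') (C ⧸ η) := IsScalarTower.of_algebraMap_eq fun a => by
    obtain ⟨a, rfl⟩ := Ideal.Quotient.mk_surjective a
    exact congrArg (Ideal.Quotient.mk η) (IsScalarTower.algebraMap_apply A T C a)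
  haveI : FaithfulSMul (A ⧸ p) (T ⧸ P') := Ideal.Quotient.instFaithfulSMul _ _
  haveI : FaithfulSMul (T ⧸ P') (C ⧸ η) := Ideal.Quotient.instFaithfulSMul _ _
  have h1 : Algebra.trdeg (A ⧸ p) (T ⧸ P') = Fintype.card ι := by
    rwa [← trdeg_add_eq (A ⧸ p) (T ⧸ P') (A := C ⧸ η),
      DimFormulaLib.isAlgebraic_of_quasiFiniteAt (A := T) η, add_zero] at htr
  let x : ι → T ⧸ P' := fun i => Ideal.Quotient.mk P' (v i)
  have hx : ∀ f : MvPolynomial ι A,
      MvPolynomial.aeval x (MvPolynomial.map (Ideal.Quotient.mk p) f) = Ideal.Quotient.mk P' (MvPolynomial.aeval v f) :=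
    fun f => by
      rw [show MvPolynomial.map (Ideal.Quotient.mk p) f = MvPolynomial.map (algebraMap A (A ⧸ p)) f from rfl,
        MvPolynomial.aeval_map_algebraMap]
      exact (MvPolynomial.comp_aeval_apply (φ := Ideal.Quotient.mkₐ A P') v f).symm
  haveI : Algebra.IsAlgebraic (Algebra.adjoin (A ⧸ p) (Set.range x)) (T ⧸ P') := ⟨fun z => by
    obtain ⟨z, rfl⟩ := Ideal.Quotient.mk_surjective z
    obtain ⟨z, rfl⟩ := hv z
    exact isAlgebraic_algebraMap (⟨_, by
      rw [Algebra.adjoin_range_eq_range_aeval]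
      exact ⟨_, hx z⟩⟩ : Algebra.adjoin (A ⧸ p) (Set.range x))⟩
  have hbasis := Algebra.IsAlgebraic.isTranscendenceBasis_of_lift_le_trdeg_of_finite (A ⧸ p) x
    (by rw [h1, Cardinal.mk_fintype]; simp)
  intro f hf
  obtain ⟨f, rfl⟩ := hv f
  have h3 : MvPolynomial.aeval x (MvPolynomial.map (Ideal.Quotient.mk p) f) = 0 :=
    (hx f).trans (Ideal.Quotient.eq_zero_iff_mem.2 hf)
  have h4 := hbasis.1.eq_zero_of_aeval_eq_zero _ h3
  rw [← RingHom.mem_ker, MvPolynomial.ker_map, Ideal.mk_ker] at h4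
  have h5 := Ideal.mem_map_of_mem (MvPolynomial.aeval (R := A) v).toRingHom h4
  rw [Ideal.map_map] at h5
  rwa [show (MvPolynomial.aeval (R := A) v).toRingHom.comp MvPolynomial.C = algebraMap A T from
    RingHom.ext fun a => MvPolynomial.aeval_C v a] at h5

/-- Below a point of local dimension `n` quasi-finite over `n`-space lies a point over the generic one. -/
theorem exists_generic_le {A T C : Type u} [CommRing A] [CommRing T] [CommRing C] [Algebra A T] [Algebra T C]
    [Algebra A C] [IsScalarTower A T C] [Algebra.FiniteType A C]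
    (p : Ideal A) [p.IsPrime] (q0 : Ideal C) [q0.IsPrime] [q0.LiesOver p] (Q : PrimeSpectrum (p.Fiber C))
    (hQc : Q.asIdeal.comap (Algebra.TensorProduct.includeRight : C →ₐ[A] p.Fiber C).toRingHom = q0)
    (n : ℕ) (hn : FlatMor.localDim (PrimeSpectrum (p.Fiber C)) Q = n) {ι : Type} [Fintype ι] (hcard : Fintype.card ι = n)
    [Algebra.QuasiFiniteAt T q0] (v : ι → T) (hv : Function.Surjective (MvPolynomial.aeval (R := A) v)) :
    ∃ η : Ideal C, η.IsPrime ∧ η ≤ q0 ∧ η.LiesOver p ∧ η.comap (algebraMap T C) ≤ p.map (algebraMap A T) := by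
  classical
  let F := p.Fiber C
  haveI : IsNoetherianRing F := Algebra.FiniteType.isNoetherianRing p.ResidueField F
  obtain ⟨r, hr⟩ := DimFormulaLib.exists_nat_trdeg_quotient p.ResidueField F Q.asIdeal
  obtain ⟨a, hht, hd, -⟩ := DimFormulaLib.localDim_eq_height_add p.ResidueField F Q r hr
  have han : a + r = n := by
    rw [hd] at hn
    exact_mod_cast hn
  obtain ⟨P, -, hPQ, hPe⟩ := DimFormulaLib.exists_isMin_relHeight_eq_height Q
  obtain ⟨t, ht⟩ := DimFormulaLib.exists_nat_trdeg_quotient p.ResidueField F P.asIdeal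
  obtain ⟨b, hb, htb⟩ := DimFormulaLib.trdeg_eq_relHeight_add p.ResidueField F hPQ t r ht hr
  have hba : b = a := by
    rw [hPe, hht] at hb
    exact_mod_cast hb.symm
  subst hba
  obtain rfl : t = n := htb.trans han
  let η := P.asIdeal.comap (Algebra.TensorProduct.includeRight : C →ₐ[A] F).toRingHom
  have hle : η ≤ q0 := (Ideal.comap_mono hPQ).trans hQc.le
  haveI hηp : η.LiesOver p := ⟨by
    haveI : P.asIdeal.LiesOver (⊥ : Ideal p.ResidueField) := ⟨((Ideal.eq_bot_or_top _).resolve_right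
      (Ideal.IsPrime.ne_top inferInstance)).symm⟩
    show p = (P.asIdeal.comap _).comap (algebraMap A C)
    rw [Ideal.comap_comap, show ((Algebra.TensorProduct.includeRight : C →ₐ[A] F).toRingHom).comp (algebraMap A C) =
      algebraMap A F from RingHom.ext fun x => (Algebra.TensorProduct.includeRight : C →ₐ[A] F).commutes x, IsScalarTower.algebraMap_eq A p.ResidueField F,
      ← Ideal.comap_comap, show P.asIdeal.comap (algebraMap p.ResidueField F) = ⊥ from
        (P.asIdeal.over_def (⊥ : Ideal p.ResidueField)).symm, ← RingHom.ker_eq_comap_bot]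
    exact (Ideal.ker_algebraMap_residueField p).symm⟩
  haveI : η.IsPrime := inferInstance
  refine ⟨η, inferInstance, hle, hηp, ?_⟩
  haveI := Algebra.QuasiFiniteAt.of_le (R := T) hle
  exact comap_le_map_of_trdeg p η v hv ((DimFormulaLib.trdeg_fibre p η P.asIdeal rfl).symm.trans (ht.trans (by rw [hcard])))

/-- A piece of the module finite over a smooth algebra, from quasi-finite coordinates. -/
theorem exists_pre_of_coord {R S T : Type u} [CommRing R] [CommRing S] [CommRing T] [Algebra R S] [Algebra R T] [Algebra T S]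
    [IsScalarTower R T S] [Algebra.FiniteType T S]
    (N : Type u) [AddCommGroup N] [Module S N] [Module R N] [IsScalarTower R S N] [Module.Finite S N]
    (p : Ideal R) [p.IsPrime] (q : Ideal S) [q.IsPrime] [q.LiesOver p] (n : ℕ) (J : Ideal S) (hJfg : J.FG)
    (hJann : J ≤ Module.annihilator S N)
    (hJsupp : ∀ x : PrimeSpectrum (p.Fiber S), FlatCA.fiberIdeal p J ≤ x.asIdeal ↔
      x ∈ Module.support (p.Fiber S) (FlatCA.fiberMod p S N))
    (q0 : Ideal (S ⧸ J)) [q0.IsPrime] (hq0c : q0.comap (Ideal.Quotient.mk J) = q)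
    (P : Ideal T) [P.IsPrime] [P.LiesOver p] [q0.LiesOver P] [Algebra.QuasiFiniteAt T q0]
    (hPT : FlatCA.PurelyTranscendental p P)
    (hrelT : ∀ (D : Type u) [CommRing D] [Algebra R D] [Algebra T D] [IsScalarTower R T D] [Algebra.Etale T D],
      FlatCA.SmoothRelDim n R D)
    (η : Ideal (S ⧸ J)) [η.IsPrime] (hηle : η ≤ q0) [η.LiesOver p]
    (hηT : η.comap (algebraMap T (S ⧸ J)) ≤ p.map (algebraMap R T)) :
    ∃ (D S₀ : Type u) (_ : CommRing D) (_ : CommRing S₀) (_ : Algebra R D) (_ : Algebra S S₀) (_ : Algebra D S₀)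
      (_ : Algebra R S₀) (_ : IsScalarTower R D S₀) (_ : IsScalarTower R S S₀)
      (P : Ideal D) (_ : P.IsPrime) (_ : P.LiesOver p) (q₀ : Ideal S₀) (_ : q₀.IsPrime) (_ : q₀.LiesOver q)
      (_ : q₀.LiesOver P) (J : Ideal S₀) (θ : Ideal D),
      FlatCA.SmoothRelDim n R D ∧ FlatCA.PurelyTranscendental p P ∧ Algebra.Etale S S₀ ∧ DevissLib.FracMod q q₀ ∧
      J.FG ∧ J ≤ Module.annihilator S₀ (S₀ ⊗[S] N) ∧ J ≤ q₀ ∧ Module.Finite D (S₀ ⧸ J) ∧
      (∀ (Q : Ideal S₀) [Q.IsPrime], J ≤ Q → Q.LiesOver P → Q = q₀) ∧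
      θ.IsPrime ∧ θ.LiesOver p ∧ θ ≤ P ∧
      (Module.annihilator S₀ (S₀ ⊗[S] N)).comap (algebraMap D S₀) ≤ θ ∧
      (∀ (θ' : Ideal D) [θ'.IsPrime], θ' ≤ θ → θ'.LiesOver p → θ' = θ) := by
  classical
  haveI : q.LiesOver P := ⟨by
    show P = q.comap (algebraMap T S)
    rw [← hq0c, Ideal.comap_comap]
    exact q0.over_def P⟩
  -- etale localisation making the closed piece finite
  obtain ⟨D, hD, hTD, hDet, P0, hP0, hP0P, e, -, P', hP', hP'P0, hP'q, heP', hres0, hfin, huniq⟩ :=
    Algebra.exists_etale_isIdempotentElem_forall_liesOver_eq (R := T) (S := S ⧸ J) P q0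
  letI : Algebra R D := ((algebraMap T D).comp (algebraMap R T)).toAlgebra
  haveI : IsScalarTower R T D := .of_algebraMap_eq fun _ => rfl
  haveI : P0.LiesOver p := Ideal.LiesOver.trans P0 P p
  haveI : p.LiesOver p := ⟨(Ideal.comap_id p).symm⟩
  have hrel : FlatCA.SmoothRelDim n R D := hrelT D
  haveI : IsScalarTower R S (D ⊗[T] S) := .of_algebraMap_eq fun t => by
    show (algebraMap R D t) ⊗ₜ[T] (1 : S) = (1 : D) ⊗ₜ[T] (algebraMap R S t)
    rw [IsScalarTower.algebraMap_apply R T D, IsScalarTower.algebraMap_apply R T S, Algebra.algebraMap_eq_smul_one (A := D),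
      Algebra.algebraMap_eq_smul_one (A := S), TensorProduct.smul_tmul]
  haveI : Algebra.Etale S (D ⊗[T] S) := Algebra.Etale.of_equiv (Algebra.TensorProduct.commRight T S D)
  let π : D ⊗[T] S →ₐ[T] D ⊗[T] (S ⧸ J) := Algebra.TensorProduct.map (AlgHom.id T D) (Ideal.Quotient.mkₐ T J)
  have hπ : Function.Surjective π := fun t => by
    induction t using TensorProduct.induction_on with
    | zero => exact ⟨0, map_zero π⟩
    | tmul c s =>
      obtain ⟨s, rfl⟩ := Ideal.Quotient.mk_surjective s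
      exact ⟨c ⊗ₜ[T] s, rfl⟩
    | add u v hu hv =>
      obtain ⟨u, rfl⟩ := hu
      obtain ⟨v, rfl⟩ := hv
      exact ⟨u + v, map_add π u v⟩
  obtain ⟨e₀, he₀⟩ := hπ e
  let Y : Ideal (D ⊗[T] S) := P'.comap π.toRingHom
  haveI : Y.IsPrime := inferInstance
  haveI : Y.LiesOver P0 := ⟨by
    show P0 = (P'.comap π.toRingHom).comap (algebraMap D (D ⊗[T] S))
    rw [Ideal.comap_comap, show π.toRingHom.comp (algebraMap D (D ⊗[T] S)) = algebraMap D (D ⊗[T] (S ⧸ J)) from
      RingHom.ext fun d => by simp [π, Algebra.TensorProduct.algebraMap_apply]]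
    exact P'.over_def P0⟩
  have hYq : Y.comap (algebraMap S (D ⊗[T] S)) = q := by
    rw [← hq0c, ← hP'q, Ideal.comap_comap, Ideal.comap_comap]
    rfl
  haveI : Y.LiesOver q := ⟨hYq.symm⟩
  have het : e₀ ∉ Y := fun h => heP' (he₀ ▸ h : e ∈ P')
  -- the etale neighbourhood
  let S₀ := Localization.Away e₀
  haveI : Algebra.Etale (D ⊗[T] S) S₀ := Algebra.Etale.of_isLocalizationAway e₀
  haveI : Algebra.Etale S S₀ := Algebra.Etale.comp S (D ⊗[T] S) S₀
  haveI : IsScalarTower R D S₀ := .of_algebraMap_eq fun t => by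
    rw [IsScalarTower.algebraMap_apply D (D ⊗[T] S) S₀, IsScalarTower.algebraMap_apply R T D,
      ← IsScalarTower.algebraMap_apply T D (D ⊗[T] S), IsScalarTower.algebraMap_apply R (D ⊗[T] S) S₀,
      IsScalarTower.algebraMap_apply R T (D ⊗[T] S)]
  have hdY : Disjoint (Submonoid.powers e₀ : Set (D ⊗[T] S)) Y :=
    (Ideal.disjoint_powers_iff_notMem e₀ (inferInstance : Y.IsPrime).isRadical).2 het
  let q₀ : Ideal S₀ := Y.map (algebraMap (D ⊗[T] S) S₀)
  haveI : q₀.IsPrime := IsLocalization.isPrime_of_isPrime_disjoint (Submonoid.powers e₀) _ Y inferInstance hdY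
  haveI : q₀.LiesOver Y := IsLocalization.liesOver_map_of_isPrime_disjoint (Submonoid.powers e₀) _ hdY
  haveI : q₀.LiesOver q := Ideal.LiesOver.trans q₀ Y q
  haveI : q₀.LiesOver P0 := Ideal.LiesOver.trans q₀ Y P0
  let J₀ : Ideal S₀ := J.map (algebraMap S S₀)
  have hJq : J ≤ q := fun s hs => by
    rw [← hq0c, Ideal.mem_comap, Ideal.Quotient.eq_zero_iff_mem.2 hs]
    exact zero_mem _
  have hJq₀ : J₀ ≤ q₀ := Ideal.map_le_iff_le_comap.2 (hJq.trans (q₀.over_def q).le)
  have hJann₀ : J₀ ≤ Module.annihilator S₀ (S₀ ⊗[S] N) := by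
    refine Ideal.map_le_iff_le_comap.2 fun j hj => Module.mem_annihilator.2 fun m => ?_
    induction m using TensorProduct.induction_on with
    | zero => rw [smul_zero]
    | tmul s m => rw [algebraMap_smul, ← TensorProduct.tmul_smul, Module.mem_annihilator.1 (hJann hj), TensorProduct.tmul_zero]
    | add u v hu hv => rw [smul_add, hu, hv, add_zero]
  -- the closed piece
  let cS : S →ₐ[T] S₀ ⧸ J₀ := IsScalarTower.toAlgHom T S (S₀ ⧸ J₀)
  have hcS : ∀ j ∈ J, cS j = 0 := fun j hj => by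
    show algebraMap S (S₀ ⧸ J₀) j = 0
    rw [IsScalarTower.algebraMap_apply S S₀ (S₀ ⧸ J₀)]
    exact Ideal.Quotient.eq_zero_iff_mem.2 (Ideal.mem_map_of_mem _ hj)
  let χ : D ⊗[T] (S ⧸ J) →ₐ[D] S₀ ⧸ J₀ :=
    Algebra.TensorProduct.lift (Algebra.ofId D _) (Ideal.Quotient.liftₐ J cS hcS) fun _ _ => Commute.all _ _
  have hχ : ∀ t, χ (π t) = Ideal.Quotient.mk J₀ (algebraMap (D ⊗[T] S) S₀ t) := by
    intro t
    induction t using TensorProduct.induction_on with
    | zero => simp
    | add u v hu hv => simp only [map_add, hu, hv]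
    | tmul d s =>
      have h1 : (d ⊗ₜ[T] s : D ⊗[T] S) = algebraMap D (D ⊗[T] S) d * algebraMap S (D ⊗[T] S) s := by
        show _ = (d ⊗ₜ[T] (1 : S)) * ((1 : D) ⊗ₜ[T] s)
        rw [Algebra.TensorProduct.tmul_mul_tmul, mul_one, one_mul]
      rw [h1, map_mul (algebraMap (D ⊗[T] S) S₀), map_mul (Ideal.Quotient.mk J₀),
        ← IsScalarTower.algebraMap_apply D (D ⊗[T] S) S₀, ← IsScalarTower.algebraMap_apply S (D ⊗[T] S) S₀]
      simp only [χ, π, ← h1, Algebra.TensorProduct.map_tmul, AlgHom.coe_id, id_eq, Algebra.TensorProduct.lift_tmul,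
        Ideal.Quotient.mkₐ_eq_mk]
      rfl
  have hχe : IsUnit (χ e) := by
    rw [← he₀, hχ]
    exact (IsLocalization.Away.algebraMap_isUnit e₀).map _
  have hfinC : Module.Finite D (S₀ ⧸ J₀) := by
    haveI := hfin
    let υ : Localization.Away e →ₐ[D] S₀ ⧸ J₀ := IsLocalization.liftAlgHom (M := Submonoid.powers e) (f := χ) (by
      rintro ⟨_, k, rfl⟩
      show IsUnit (χ (e ^ k))
      rw [map_pow]
      exact hχe.pow k)
    have hυ : ∀ t, υ (algebraMap _ _ t) = χ t := fun t => IsLocalization.lift_eq _ t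
    refine Module.Finite.of_surjective υ.toLinearMap fun c => ?_
    obtain ⟨c, rfl⟩ := Ideal.Quotient.mk_surjective c
    obtain ⟨s, ⟨_, k, rfl⟩, rfl⟩ := IsLocalization.exists_mk'_eq (Submonoid.powers e₀) c
    refine ⟨IsLocalization.mk' (Localization.Away e) (π s) (⟨e ^ k, k, rfl⟩ : Submonoid.powers e), ?_⟩
    apply ((hχe.pow k).mul_right_inj).1
    show χ e ^ k * υ _ = χ e ^ k * _
    have hek : χ (e ^ k) = Ideal.Quotient.mk J₀ (algebraMap (D ⊗[T] S) S₀ (e₀ ^ k)) := by
      rw [← he₀, ← map_pow π, hχ]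
    rw [← map_pow, ← hυ (e ^ k), ← map_mul, IsLocalization.mk'_spec'_mk, hυ, hχ, hυ (e ^ k), hek, ← map_mul,
      IsLocalization.mk'_spec'_mk]
  have huniq₀ : ∀ (Q : Ideal S₀) [Q.IsPrime], J₀ ≤ Q → Q.LiesOver P0 → Q = q₀ := by
    intro Q _ hJQ hQ
    let z := Q.map (Ideal.Quotient.mk J₀)
    haveI : z.IsPrime := Ideal.map_isPrime_of_surjective Ideal.Quotient.mk_surjective (by rwa [Ideal.mk_ker])
    have hzc : z.comap (Ideal.Quotient.mk J₀) = Q := by
      rw [Ideal.comap_map_of_surjective' _ Ideal.Quotient.mk_surjective, Ideal.mk_ker, sup_eq_left.2 hJQ]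
    haveI : z.LiesOver P0 := ⟨by
      show P0 = z.comap (algebraMap D (S₀ ⧸ J₀))
      rw [IsScalarTower.algebraMap_eq D S₀ (S₀ ⧸ J₀), ← Ideal.comap_comap]
      exact (Q.over_def P0).trans (congrArg (Ideal.comap (algebraMap D S₀)) hzc.symm)⟩
    haveI : (z.comap χ.toRingHom).LiesOver P0 := ⟨by
      show P0 = (z.comap χ.toRingHom).comap (algebraMap D (D ⊗[T] (S ⧸ J)))
      rw [Ideal.comap_comap, show χ.toRingHom.comp (algebraMap D (D ⊗[T] (S ⧸ J))) = algebraMap D (S₀ ⧸ J₀) from
        RingHom.ext fun d => χ.commutes d]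
      exact z.over_def P0⟩
    have hP'' : z.comap χ.toRingHom = P' := huniq _ inferInstance inferInstance fun he =>
      (inferInstance : z.IsPrime).ne_top (Ideal.eq_top_of_isUnit_mem _ he hχe)
    show Q = (P'.comap π.toRingHom).map (algebraMap (D ⊗[T] S) S₀)
    rw [← IsLocalization.map_under (Submonoid.powers e₀) S₀ Q, ← hP'']
    congr 1
    ext t
    simp only [Ideal.under_def, Ideal.mem_comap, AlgHom.toRingHom_eq_coe, RingHom.coe_coe, hχ]
    rw [← Ideal.mem_comap (f := Ideal.Quotient.mk J₀), hzc]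
  -- the generic point
  let ηS := η.comap (Ideal.Quotient.mk J)
  haveI : Module.Flat S S₀ := inferInstance
  obtain ⟨η₀, hη₀le, hη₀, hη₀S⟩ := Ideal.exists_ideal_le_liesOver_of_le (p := ηS) (q := q) q₀
    ((Ideal.comap_mono hηle).trans hq0c.le)
  haveI := hη₀
  haveI := hη₀S
  let θ := η₀.comap (algebraMap D S₀)
  have hθT : θ.comap (algebraMap T D) = η.comap (algebraMap T (S ⧸ J)) := by
    show (η₀.comap _).comap _ = _
    rw [Ideal.comap_comap, ← IsScalarTower.algebraMap_eq, IsScalarTower.algebraMap_eq T S S₀, ← Ideal.comap_comap,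
      ← show ηS = η₀.comap (algebraMap S S₀) from η₀.over_def ηS, Ideal.comap_comap]
    rfl
  haveI hθp : θ.LiesOver p := ⟨by
    show p = θ.comap (algebraMap R D)
    rw [IsScalarTower.algebraMap_eq R T D, ← Ideal.comap_comap, hθT, Ideal.comap_comap, ← IsScalarTower.algebraMap_eq]
    exact η.over_def p⟩
  have hηsupp : Module.annihilator S N ≤ ηS := by
    have hηS : ηS.IsPrime := inferInstance
    haveI : ηS.LiesOver p := ⟨by
      show p = (η.comap (Ideal.Quotient.mk J)).comap (algebraMap R S)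
      rw [Ideal.comap_comap]
      exact η.over_def p⟩
    obtain ⟨hpr, hcom⟩ := FibAssLib.fiberIdeal_spec p ηS
    have hmem := (hJsupp ⟨_, hpr⟩).1 (Ideal.map_mono fun j hj => by
      show Ideal.Quotient.mk J j ∈ η
      rw [Ideal.Quotient.eq_zero_iff_mem.2 hj]
      exact zero_mem _)
    letI := (Algebra.TensorProduct.includeRight (R := R) (A := p.ResidueField) (B := S)).toRingHom.toAlgebra
    have hs : Module.support (p.Fiber S) (FlatCA.fiberMod p S N) = PrimeSpectrum.zeroLocus
        (((Module.annihilator S N).map (algebraMap S (p.Fiber S)) : Ideal (p.Fiber S)) : Set (p.Fiber S)) :=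
      AssSupLib.support_baseChange
    rw [hs, PrimeSpectrum.mem_zeroLocus, SetLike.coe_subset_coe] at hmem
    exact (Ideal.map_le_iff_le_comap.1 hmem).trans hcom.le
  have hann : (Module.annihilator S₀ (S₀ ⊗[S] N)).comap (algebraMap D S₀) ≤ θ := by
    refine Ideal.comap_mono ?_
    have hmem : (⟨η₀, inferInstance⟩ : PrimeSpectrum S₀) ∈ Module.support S₀ (S₀ ⊗[S] N) := by
      rw [AssSupLib.support_baseChange, PrimeSpectrum.mem_zeroLocus, SetLike.coe_subset_coe]
      exact Ideal.map_le_iff_le_comap.2 (hηsupp.trans (η₀.over_def ηS).le)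
    exact Module.mem_support_iff_of_finite.1 hmem
  refine ⟨D, S₀, inferInstance, inferInstance, inferInstance, inferInstance, inferInstance, inferInstance, inferInstance,
    inferInstance, P0, inferInstance, inferInstance, q₀, inferInstance, inferInstance, inferInstance, J₀, θ, hrel, ?_,
    inferInstance, ?_, hJfg.map _, hJann₀, hJq₀, hfinC, huniq₀, inferInstance, hθp, ?_, hann, fun θ' _ hle hθ' => ?_⟩
  · exact DevissLib.purelyTranscendental_of_bijective (A := R) (A' := R) (B := T) (B' := D) (p := p) (p' := p)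
      (DevissLib.residue_bijective_of_frac p p fun b => ⟨1, b, p.one_notMem, by simp⟩) hres0 hPT
  · exact ((DevissLib.fracMod_of_bijective P P0 hres0).tensor Y q).away e₀ het
  · exact (Ideal.comap_mono hη₀le).trans (q₀.over_def P0).ge
  · refine Algebra.QuasiFiniteAt.eq_of_le_of_under_eq (R := T) hle (le_antisymm (Ideal.comap_mono hle) ?_)
    refine (hθT.le.trans hηT).trans (Ideal.map_le_iff_le_comap.2 fun t ht => ?_)
    show algebraMap T D (algebraMap R T t) ∈ θ'
    rw [← IsScalarTower.algebraMap_apply R T D]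
    exact (θ'.over_def p).le ht


/-- A piece of the module finite over a smooth algebra of the right dimension, with one point over the point. -/
theorem exists_pre {R S : Type u} [CommRing R] [CommRing S] [Algebra R S] [Algebra.FiniteType R S]
    (N : Type u) [AddCommGroup N] [Module S N] [Module R N] [IsScalarTower R S N] [Module.Finite S N]
    (p : Ideal R) [p.IsPrime] (q : Ideal S) [q.IsPrime] [q.LiesOver p] (n : ℕ)
    (x : PrimeSpectrum (p.Fiber S)) (hxq : x.asIdeal = FlatCA.fiberIdeal p q)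
    (hx : x ∈ Module.support (p.Fiber S) (FlatCA.fiberMod p S N))
    (hn : FlatMor.localDim (Module.support (p.Fiber S) (FlatCA.fiberMod p S N)) ⟨x, hx⟩ = n) :
    ∃ (D S₀ : Type u) (_ : CommRing D) (_ : CommRing S₀) (_ : Algebra R D) (_ : Algebra S S₀) (_ : Algebra D S₀)
      (_ : Algebra R S₀) (_ : IsScalarTower R D S₀) (_ : IsScalarTower R S S₀)
      (P : Ideal D) (_ : P.IsPrime) (_ : P.LiesOver p) (q₀ : Ideal S₀) (_ : q₀.IsPrime) (_ : q₀.LiesOver q)
      (_ : q₀.LiesOver P) (J : Ideal S₀) (θ : Ideal D),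
      FlatCA.SmoothRelDim n R D ∧ FlatCA.PurelyTranscendental p P ∧ Algebra.Etale S S₀ ∧ DevissLib.FracMod q q₀ ∧
      J.FG ∧ J ≤ Module.annihilator S₀ (S₀ ⊗[S] N) ∧ J ≤ q₀ ∧ Module.Finite D (S₀ ⧸ J) ∧
      (∀ (Q : Ideal S₀) [Q.IsPrime], J ≤ Q → Q.LiesOver P → Q = q₀) ∧
      θ.IsPrime ∧ θ.LiesOver p ∧ θ ≤ P ∧
      (Module.annihilator S₀ (S₀ ⊗[S] N)).comap (algebraMap D S₀) ≤ θ ∧
      (∀ (θ' : Ideal D) [θ'.IsPrime], θ' ≤ θ → θ'.LiesOver p → θ' = θ) := by
  classical
  obtain ⟨J, hJfg, hJann, hJsupp⟩ := S1276.result (A := R) (B := S) N p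
  obtain ⟨q0, hq0, hq0c, hq0p, Q0, hQ0, hQ0c, hdim⟩ := DevissLib.exists_fibre_point p J _ hJsupp q x hxq hx
  haveI := hq0
  haveI := hq0p
  obtain ⟨a, r, φ, hra, hqf, hvan, hind⟩ := DevissLib.exists_coord q0 p Q0 hQ0 hQ0c n (hdim.trans hn)
  -- the coordinates on `S`
  choose w hw using fun i => Ideal.Quotient.mk_surjective (φ (MvPolynomial.X i))
  let T := MvPolynomial (Fin r ⊕ Fin a) R
  let ψ : T →ₐ[R] S := MvPolynomial.aeval w
  letI : Algebra T S := ψ.toRingHom.toAlgebra
  haveI : IsScalarTower R T S := .of_algebraMap_eq fun t => (ψ.commutes t).symm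
  haveI : Algebra.FiniteType T S := Algebra.FiniteType.of_restrictScalars_finiteType R T S
  have hφ : ∀ t : T, φ t = algebraMap T (S ⧸ J) t := fun t => by
    have : φ = (Ideal.Quotient.mkₐ R J).comp ψ := MvPolynomial.algHom_ext fun i => by simp [ψ, hw]
    rw [this]
    rfl
  haveI hqf' : Algebra.QuasiFiniteAt T q0 := by
    have key : ∀ i : Algebra T (S ⧸ J), (∀ t, φ t = @algebraMap T (S ⧸ J) _ _ i t) →
        @Algebra.QuasiFiniteAt T (S ⧸ J) _ _ i q0 _ := by
      intro i hi
      obtain rfl : i = φ.toRingHom.toAlgebra := Algebra.algebra_ext _ _ fun t => (hi t).symm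
      exact hqf
    exact key _ hφ
  obtain ⟨η, hη, hηle, hηp, hηT⟩ := exists_generic_le (T := T) p q0 Q0 hQ0c n (hdim.trans hn) (ι := Fin r ⊕ Fin a)
    (by rw [Fintype.card_sum, Fintype.card_fin, Fintype.card_fin, hra]) MvPolynomial.X
    (fun f => ⟨f, MvPolynomial.aeval_X_left_apply f⟩)
  haveI := hη
  haveI := hηp
  let P : Ideal T := q0.comap (algebraMap T (S ⧸ J))
  haveI : q0.LiesOver P := ⟨rfl⟩
  haveI : P.LiesOver p := ⟨by
    show p = (q0.comap (algebraMap T (S ⧸ J))).comap (algebraMap R T)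
    rw [Ideal.comap_comap, ← IsScalarTower.algebraMap_eq]
    exact q0.over_def p⟩
  have hPT : FlatCA.PurelyTranscendental p P := by
    refine DevissLib.purelyTranscendental_mvPolynomial p P (fun j => ?_) ?_
    · show algebraMap T (S ⧸ J) _ ∈ q0
      rw [← hφ]
      exact hvan j
    · refine DevissLib.independent_of_comap p P q0 _ ?_
      convert hind using 1
      funext i
      rw [hφ]
  haveI : Nontrivial R := ⟨⟨0, 1, fun h => (inferInstance : p.IsPrime).one_notMem (h ▸ zero_mem p)⟩⟩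
  exact exists_pre_of_coord (T := T) N p q n J hJfg hJann hJsupp q0 hq0c P hPT (fun D _ _ _ _ _ => by
    have := DevissLib.smoothRelDim_of_etale (R := R) (D := D) (ι := Fin r ⊕ Fin a)
    rwa [Fintype.card_sum, Fintype.card_fin, Fintype.card_fin, hra] at this) η hηle hηT

end Groth.Agent.DevLib
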