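import Groth.Agent.DevLib.First
import Groth.Agent.DevLib.Basic
import Groth.Agent.DevLib.Ops
import Groth.Agent.DevLib.MainAux
import Groth.Agent.DevissLib.SpreadIrred
import Groth.Agent.DevissLib.Basis

/-!
# The first step of a dévissage
-/

set_option autoImplicit false
set_option linter.style.haveILetI false
set_option backward.isDefEq.respectTransparency false
set_option backward.isDefEq.respectTransparency.types false
set_option maxHeartbeats 4000000

universe u

open TensorProduct

noncomputable section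

namespace Groth.Agent.DevLib

attribute [local instance] Algebra.TensorProduct.rightAlgebra

/-- The first step, after an étale localisation of base and source. -/
theorem exists_first_step {R S : Type u} [CommRing R] [CommRing S] [Algebra R S] [Algebra.FiniteType R S]
    (N : Type u) [AddCommGroup N] [Module S N] [Module R N] [IsScalarTower R S N] [Module.Finite S N]
    (p : Ideal R) [p.IsPrime] (q : Ideal S) [q.IsPrime] [q.LiesOver p] (n : ℕ)
    (x : PrimeSpectrum (p.Fiber S)) (hxq : x.asIdeal = FlatCA.fiberIdeal p q)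
    (hx : x ∈ Module.support (p.Fiber S) (FlatCA.fiberMod p S N))
    (hn : FlatMor.localDim (Module.support (p.Fiber S) (FlatCA.fiberMod p S N)) ⟨x, hx⟩ = n) :
    ∃ (R' S' : Type u) (_ : CommRing R') (_ : CommRing S') (_ : Algebra R R') (_ : Algebra S S') (_ : Algebra R' S')
      (_ : Algebra R S') (_ : IsScalarTower R R' S') (_ : IsScalarTower R S S')
      (p' : Ideal R') (q' : Ideal S') (_ : p'.IsPrime) (_ : q'.IsPrime),
      FlatCA.IsEtaleNhd R R' p p' ∧ FlatCA.IsEtaleNhd S S' q q' ∧ q'.LiesOver p' ∧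
      ∃ E : DevStep R' p' S' (S' ⊗[S] N) q', E.d = n ∧
        ∃ σ : E.B →ₐ[R'] S', ∀ b, algebraMap S' E.A (σ b) = algebraMap E.B E.A b := by
  classical
  obtain ⟨D0, S0, _, _, _, _, _, _, _, _, P0, hP0, hP0p, q0, hq0, hq0q, hq0P, J, θ, hrel0, hPT, hS0, hfrac0, hJfg,
    hJann, hJq, hfin, huniq, hθ, hθp, hθle, hθann, hθmin⟩ := exists_pre N p q n x hxq hx hn
  haveI := hP0
  haveI := hP0p
  haveI := hq0
  haveI := hq0q
  haveI := hq0P
  haveI := hθ
  haveI := hθp
  haveI := hfin
  haveI := hS0
  haveI : Algebra.Smooth R D0 := DevissLib.smooth_of_smoothRelDim hrel0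
  obtain ⟨R', D, _, _, _, _, _, _, _, _, p', y, hp', hy, hR', ⟨hD0D, hyP0, hresy⟩, hyp', hirr, hsm⟩ :=
    DevissLib.exists_geomIrred_nhd p P0 (separableClosure_eq_bot hPT)
  haveI := hp'
  haveI := hy
  haveI := hyP0
  haveI := hyp'
  haveI := hsm
  haveI := hD0D
  have hR'' := hR'
  obtain ⟨hRR', hp'p, hresR⟩ := hR''
  haveI := hRR'
  haveI := hp'p
  -- the ring
  haveI : SMulCommClass D0 R' D := ⟨fun t s d => by simp only [Algebra.smul_def, mul_left_comm]⟩
  haveI : SMulCommClass D0 R D := ⟨fun t s d => by simp only [Algebra.smul_def, mul_left_comm]⟩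
  let S' := D ⊗[D0] S0
  letI : Algebra S S' := ((algebraMap S0 S').comp (algebraMap S S0)).toAlgebra
  haveI : IsScalarTower S S0 S' := .of_algebraMap_eq fun _ => rfl
  haveI : IsScalarTower R R' S' := .of_algebraMap_eq fun r => by
    show algebraMap R D r ⊗ₜ[D0] (1 : S0) = algebraMap R' D (algebraMap R R' r) ⊗ₜ[D0] (1 : S0)
    rw [← IsScalarTower.algebraMap_apply R R' D]
  haveI : IsScalarTower R S S' := .of_algebraMap_eq fun r => by
    show algebraMap R D r ⊗ₜ[D0] (1 : S0) = (1 : D) ⊗ₜ[D0] algebraMap S S0 (algebraMap R S r)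
    rw [← IsScalarTower.algebraMap_apply R S S0, IsScalarTower.algebraMap_apply R D0 D,
      IsScalarTower.algebraMap_apply R D0 S0, Algebra.algebraMap_eq_smul_one (A := D),
      Algebra.algebraMap_eq_smul_one (A := S0), TensorProduct.smul_tmul]
  haveI : Algebra.Etale S0 S' := Algebra.Etale.of_equiv (Algebra.TensorProduct.commRight D0 S0 D)
  haveI : Algebra.Etale S S' := Algebra.Etale.comp S S0 S'
  have hfracy : DevissLib.FracMod P0 y := DevissLib.fracMod_of_bijective P0 y hresy
  let Yf := (Ideal.fiberIsoOfBijectiveResidueField (S := S0) hresy).symm ⟨q0, inferInstance, inferInstance⟩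
  let q' : Ideal S' := Yf.1
  haveI : q'.IsPrime := Yf.2.1
  haveI : q'.LiesOver y := Yf.2.2
  have hq'0 : q'.comap (algebraMap S0 S') = q0 :=
    Ideal.comap_fiberIsoOfBijectiveResidueField_symm hresy _
  haveI : q'.LiesOver q0 := ⟨hq'0.symm⟩
  haveI : q'.LiesOver q := Ideal.LiesOver.trans q' q0 q
  haveI : IsScalarTower R' D S' := inferInstance
  haveI : q'.LiesOver p' := Ideal.LiesOver.trans q' y p'
  have hfracS : DevissLib.FracMod q q' := hfrac0.trans (hfracy.tensor q' q0)
  -- the closed subscheme
  let J' : Ideal S' := J.map (algebraMap S0 S')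
  have hJ'q : J' ≤ q' := Ideal.map_le_iff_le_comap.2 (hJq.trans hq'0.ge)
  let N0 := S0 ⊗[S] N
  let M := S' ⊗[S0] N0
  have hJ'ann : J' ≤ Module.annihilator S' M := by
    refine Ideal.map_le_iff_le_comap.2 fun j hj => ?_
    show algebraMap S0 S' j ∈ Module.annihilator S' M
    refine Module.mem_annihilator.2 fun (m : S' ⊗[S0] N0) => ?_
    induction m using TensorProduct.induction_on with
    | zero => rw [smul_zero]
    | tmul s m => rw [algebraMap_smul, ← TensorProduct.tmul_smul, Module.mem_annihilator.1 (hJann hj), TensorProduct.tmul_zero]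
    | add u v hu hv => rw [smul_add, hu, hv, add_zero]
  have htors : Module.IsTorsionBySet S' M (J' : Set S') := fun m c => Module.mem_annihilator.1 (hJ'ann c.2) m
  letI : Module (S' ⧸ J') M := htors.module
  haveI : IsScalarTower S' (S' ⧸ J') M := htors.isScalarTower
  haveI : SMulCommClass S0 D S' := ⟨fun t s d => by simp only [Algebra.smul_def, mul_left_comm]⟩
  haveI : IsScalarTower D S' M := .of_algebraMap_smul fun d m => by
    induction m using TensorProduct.induction_on with
    | zero => simp
    | add u v hu hv => simp only [smul_add, hu, hv]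
    | tmul s m => rw [TensorProduct.smul_tmul', TensorProduct.smul_tmul', algebraMap_smul]
  haveI : IsScalarTower D (S' ⧸ J') M := .of_algebraMap_smul fun d (m : M) => by
    rw [IsScalarTower.algebraMap_apply D S' (S' ⧸ J')]
    exact (IsScalarTower.algebraMap_smul (S' ⧸ J') (algebraMap D S' d) m).trans (algebraMap_smul S' d m)
  -- finiteness
  have hfinA : Module.Finite D (S' ⧸ J') := by
    let c : S0 →ₐ[D0] S' ⧸ J' := IsScalarTower.toAlgHom D0 S0 (S' ⧸ J')
    have hc : ∀ j ∈ J, c j = 0 := fun j hj => by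
      show algebraMap S0 (S' ⧸ J') j = 0
      rw [IsScalarTower.algebraMap_apply S0 S' (S' ⧸ J')]
      exact Ideal.Quotient.eq_zero_iff_mem.2 (Ideal.mem_map_of_mem _ hj)
    let χ : D ⊗[D0] (S0 ⧸ J) →ₐ[D] S' ⧸ J' :=
      Algebra.TensorProduct.lift (Algebra.ofId D _) (Ideal.Quotient.liftₐ J c hc) fun _ _ => Commute.all _ _
    refine Module.Finite.of_surjective χ.toLinearMap fun z => ?_
    obtain ⟨z, rfl⟩ := Ideal.Quotient.mk_surjective z
    induction z using TensorProduct.induction_on with
    | zero => exact ⟨0, by simp⟩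
    | add u v hu hv =>
      obtain ⟨a, ha⟩ := hu
      obtain ⟨b, hb⟩ := hv
      exact ⟨a + b, by rw [map_add, ha, hb, map_add]⟩
    | tmul d s =>
      refine ⟨d ⊗ₜ[D0] Ideal.Quotient.mk J s, ?_⟩
      show χ (d ⊗ₜ[D0] Ideal.Quotient.mk J s) = _
      simp only [χ, Algebra.TensorProduct.lift_tmul]
      show algebraMap D (S' ⧸ J') d * algebraMap S0 (S' ⧸ J') s = _
      rw [IsScalarTower.algebraMap_apply D S' (S' ⧸ J'), IsScalarTower.algebraMap_apply S0 S' (S' ⧸ J'), ← map_mul,
        Ideal.Quotient.algebraMap_eq]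
      congr 1
      show (d ⊗ₜ[D0] (1 : S0)) * ((1 : D) ⊗ₜ[D0] s) = _
      rw [Algebra.TensorProduct.tmul_mul_tmul, mul_one, one_mul]
  haveI : Module.Finite (S' ⧸ J') M := Module.Finite.of_restrictScalars_finite S' _ _
  haveI := hfinA
  haveI : Module.Finite D M := Module.Finite.trans (S' ⧸ J') M
  -- uniqueness
  let qA : Ideal (S' ⧸ J') := q'.map (Ideal.Quotient.mk J')
  haveI hqA : qA.IsPrime := Ideal.map_isPrime_of_surjective Ideal.Quotient.mk_surjective (by rwa [Ideal.mk_ker])
  have hqAc : qA.comap (Ideal.Quotient.mk J') = q' := by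
    rw [Ideal.comap_map_of_surjective' _ Ideal.Quotient.mk_surjective, Ideal.mk_ker, sup_eq_left.2 hJ'q]
  haveI : qA.LiesOver q' := ⟨hqAc.symm⟩
  haveI : qA.LiesOver y := Ideal.LiesOver.trans qA q' y
  have huniqA : ∀ (Q : Ideal (S' ⧸ J')) [Q.IsPrime], Q.LiesOver y → Q = qA := by
    intro Q _ hQ
    let Q1 := Q.comap (Ideal.Quotient.mk J')
    haveI : Q1.IsPrime := inferInstance
    haveI : Q1.LiesOver y := ⟨by
      show y = (Q.comap (Ideal.Quotient.mk J')).comap (algebraMap D S')
      rw [Ideal.comap_comap]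
      exact Q.over_def y⟩
    have hQ0 : Q1.comap (algebraMap S0 S') = q0 := by
      refine huniq _ (fun j hj => ?_) ⟨?_⟩
      · show Ideal.Quotient.mk J' _ ∈ Q
        rw [Ideal.Quotient.eq_zero_iff_mem.2 (Ideal.mem_map_of_mem (algebraMap S0 S') hj)]
        exact zero_mem _
      · show P0 = (Q1.comap (algebraMap S0 S')).comap (algebraMap D0 S0)
        rw [Ideal.comap_comap, ← IsScalarTower.algebraMap_eq, IsScalarTower.algebraMap_eq D0 D S', ← Ideal.comap_comap]
        exact (y.over_def P0).trans (congrArg (Ideal.comap (algebraMap D0 D)) (Q1.over_def y))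
    have hQ1 : Q1 = q' :=
      Ideal.eq_of_comap_eq_comap_of_bijective_residueFieldMap hresy Q1 q' (hQ0.trans hq'0.symm)
    rw [← Ideal.map_comap_of_surjective _ Ideal.Quotient.mk_surjective Q]
    exact congrArg (Ideal.map _) hQ1
  -- the map from a free module
  haveI hP1 : (p'.map (algebraMap R' D)).IsPrime := isPrime_map hirr p'
  haveI : (p'.map (algebraMap R' D)).LiesOver p' := DevissLib.liesOver_map hirr p'
  let P1 := p'.map (algebraMap R' D)
  obtain ⟨r, α, hα, hr0⟩ := DevissLib.exists_residue_basis (D := D) M P1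
  have hθ1 : P1.comap (algebraMap D0 D) = θ := by
    haveI : P1.LiesOver p := Ideal.LiesOver.trans P1 p' p
    refine hθmin _ ?_ ⟨?_⟩
    · obtain ⟨θ1, hθ1y, hθ1, hθ1θ⟩ := Ideal.exists_ideal_le_liesOver_of_le (p := θ) (q := P0) y hθle
      haveI := hθ1
      haveI := hθ1θ
      refine (Ideal.comap_mono (Ideal.map_le_iff_le_comap.2 ?_)).trans (θ1.over_def θ).ge
      have h1 : θ1.comap (algebraMap R' D) ≤ p' := (Ideal.comap_mono hθ1y).trans (y.over_def p').ge
      refine (Algebra.QuasiFiniteAt.eq_of_le_of_under_eq (R := R) h1 (le_antisymm (Ideal.comap_mono h1) ?_)).ge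
      intro t ht
      show algebraMap R' D (algebraMap R R' t) ∈ θ1
      rw [← IsScalarTower.algebraMap_apply R R' D, IsScalarTower.algebraMap_apply R D0 D]
      exact (θ1.over_def θ).le ((θ.over_def p).le ((p'.over_def p).ge ht))
    · show p = (P1.comap (algebraMap D0 D)).comap (algebraMap R D0)
      rw [Ideal.comap_comap, ← IsScalarTower.algebraMap_eq]
      exact P1.over_def p
  have hrpos : 0 < r := by
    refine Nat.pos_of_ne_zero fun h0 => ?_
    haveI := hr0 h0
    haveI : SMulCommClass S D0 S0 := ⟨fun t s d => by simp only [Algebra.smul_def, mul_left_comm]⟩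
    haveI : IsScalarTower D0 S0 N0 := .of_algebraMap_smul fun d m => by
      induction m using TensorProduct.induction_on with
      | zero => simp
      | add u v hu hv => simp only [smul_add, hu, hv]
      | tmul s m => rw [TensorProduct.smul_tmul', TensorProduct.smul_tmul', algebraMap_smul]
    haveI : Module.Finite D0 N0 := by
      have ht0 : Module.IsTorsionBySet S0 N0 (J : Set S0) := fun m c => Module.mem_annihilator.1 (hJann c.2) m
      letI : Module (S0 ⧸ J) N0 := ht0.module
      haveI : IsScalarTower S0 (S0 ⧸ J) N0 := ht0.isScalarTower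
      haveI : IsScalarTower D0 (S0 ⧸ J) N0 := .of_algebraMap_smul fun d (m : N0) => by
        rw [IsScalarTower.algebraMap_apply D0 S0 (S0 ⧸ J)]
        exact (IsScalarTower.algebraMap_smul (S0 ⧸ J) (algebraMap D0 S0 d) m).trans (algebraMap_smul S0 d m)
      haveI : Module.Finite (S0 ⧸ J) N0 := Module.Finite.of_restrictScalars_finite S0 _ _
      exact Module.Finite.trans (S0 ⧸ J) N0
    haveI : Algebra.IsPushout D0 D S0 S' := inferInstance
    let eM : M ≃ₗ[D] D ⊗[D0] N0 := Algebra.IsPushout.cancelBaseChange D0 D S0 S' N0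
    have hsupp : (⟨P1, inferInstance⟩ : PrimeSpectrum D) ∈ Module.support D M := by
      rw [eM.support_eq, AssSupLib.support_baseChange, PrimeSpectrum.mem_zeroLocus, SetLike.coe_subset_coe]
      refine Ideal.map_le_iff_le_comap.2 (fun d hd => hθ1.ge (hθann ?_))
      refine Module.mem_annihilator.2 fun m => ?_
      rw [algebraMap_smul]
      exact Module.mem_annihilator.1 hd m
    haveI : Nontrivial (P1.ResidueField ⊗[D] M) :=
      (Module.mem_support_iff_nontrivial_residueField_tensorProduct ⟨P1, inferInstance⟩).1 hsupp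
    exact false_of_nontrivial_of_subsingleton (P1.ResidueField ⊗[D] M)
  refine ⟨R', S', inferInstance, inferInstance, inferInstance, inferInstance, inferInstance, inferInstance, inferInstance,
    inferInstance, p', q', inferInstance, inferInstance, hR', ⟨inferInstance, inferInstance,
      DevissLib.residue_bijective_of_frac q q' hfracS⟩, inferInstance, ?_⟩
  refine ⟨{
    A := S' ⧸ J'
    B := D
    M := M
    surjSA := Ideal.Quotient.mk_surjective
    fpSA := Algebra.FinitePresentation.quotient (hJfg.map _)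
    finiteBA := hfinA
    finiteM := inferInstance
    d := n
    relDim := smoothRelDim_etale_over hrel0
    geomIrred := hirr
    r := r
    rpos := hrpos
    α := α
    fibreIso := hα
    isoN := (AlgebraTensorModule.cancelBaseChange S S0 S' S' N).symm
    qB := y
    qA := qA
    pureTrans := DevissLib.purelyTranscendental_of_bijective hresR hresy hPT
    uniq := huniqA
    q0 := hqAc }, rfl, IsScalarTower.toAlgHom R' D S', fun b => rfl⟩

end Groth.Agent.DevLib
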