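import Groth.Agent.DevLib.Cover
import Groth.Agent.FlatLocus.Main
import Groth.Agent.FlatLocus.Gen
import Groth.Agent.S1231
import Groth.Agent.S1254

/-!
# Projectivity after étale localisation
-/

set_option autoImplicit false
set_option linter.style.haveILetI false
set_option backward.isDefEq.respectTransparency false
set_option backward.isDefEq.respectTransparency.types false
set_option maxHeartbeats 2000000

universe u

open TensorProduct

noncomputable section

namespace Groth.Agent.DevLib

attribute [local instance] Algebra.TensorProduct.rightAlgebra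

/-- A flat base change of a module flat over a lower ring is flat over it. -/
theorem flat_tensor {R S T : Type u} [CommRing R] [CommRing S] [CommRing T] [Algebra R S] [Algebra S T] [Algebra R T]
    [IsScalarTower R S T] [Module.Flat S T] (N : Type u) [AddCommGroup N] [Module S N] [Module R N] [IsScalarTower R S N]
    [Module.Flat R N] : Module.Flat R (T ⊗[S] N) := by
  rw [Module.Flat.iff_lTensor_injective']
  intro I
  have h1 : Function.Injective (AlgebraTensorModule.lTensor S N I.subtype) :=
    Module.Flat.lTensor_preserves_injective_linearMap (M := N) I.subtype I.subtype_injective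
  have h2 : Function.Injective ((AlgebraTensorModule.lTensor S N I.subtype).lTensor T) :=
    Module.Flat.lTensor_preserves_injective_linearMap _ h1
  let a₁ := AlgebraTensorModule.assoc R S T T N I
  let a₂ := AlgebraTensorModule.assoc R S T T N R
  have key : ∀ z, a₂ (I.subtype.lTensor (T ⊗[S] N) z) = (AlgebraTensorModule.lTensor S N I.subtype).lTensor T (a₁ z) := by
    intro z
    induction z using TensorProduct.induction_on with
    | zero => simp
    | add u v hu hv => simp only [map_add, hu, hv]
    | tmul x i =>
      induction x using TensorProduct.induction_on with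
      | zero => simp
      | add u v hu hv => simp only [TensorProduct.add_tmul, map_add, hu, hv]
      | tmul t m => simp [a₁, a₂]
  intro z z' hz
  exact a₁.injective (h2 (by rw [← key, ← key, hz]))

/-- A finitely presented module flat at a point is flat on a basic open around it. -/
theorem exists_flat_away {R S : Type u} [CommRing R] [CommRing S] [Algebra R S] [Algebra.FinitePresentation R S]
    (N : Type u) [AddCommGroup N] [Module S N] [Module R N] [IsScalarTower R S N] [Module.FinitePresentation S N]
    (q : Ideal S) [q.IsPrime] (hflat : FlatCA.FlatAt R q N) :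
    ∃ g : S, g ∉ q ∧ Module.Flat R (Localization.Away g ⊗[S] N) := by
  obtain ⟨_, ⟨g, rfl⟩, hg, hsub⟩ := PrimeSpectrum.isTopologicalBasis_basic_opens.exists_subset_of_mem_open
    (show (⟨q, inferInstance⟩ : PrimeSpectrum S) ∈
      {q : PrimeSpectrum S | Module.Flat R (LocalizedModule q.asIdeal.primeCompl N)} from hflat)
    (FlatLocus.isOpen_flat_locus (R := R) (S := S) (M := N))
  refine ⟨g, hg, ?_⟩
  haveI : Module.Flat R (LocalizedModule (Submonoid.powers g) N) :=
    FlatLocus.flat_localized_of_forall_prime (Submonoid.powers g) (LocalizedModule.mkLinearMap _ N) fun P _ hP =>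
      hsub (show (⟨P, inferInstance⟩ : PrimeSpectrum S) ∈ PrimeSpectrum.basicOpen g from fun hgP =>
        Set.disjoint_left.mp hP (Submonoid.mem_powers g) hgP)
  exact Module.Flat.of_linearEquiv ((LocalizedModule.equivTensorProduct (Submonoid.powers g) N).restrictScalars R).symm

/-- Projectivity spreads to a basic open of the base. -/
theorem exists_projective_away {R S : Type u} [CommRing R] [CommRing S] [Algebra R S] [Algebra.FinitePresentation R S]
    (N : Type u) [AddCommGroup N] [Module S N] [Module R N] [IsScalarTower R S N] [Module.FinitePresentation S N]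
    [Module.Flat R N] (p : Ideal R) [p.IsPrime] (D : FlatCA.CompleteDevissage R S N p) :
    ∃ f : R, f ∉ p ∧ ∀ (S' : Type u) [CommRing S']
      [Algebra S S'] [Algebra (Localization.Away f) S'] [Algebra R S'] [IsScalarTower R (Localization.Away f) S']
      [IsScalarTower R S S']
      [IsLocalization.Away (algebraMap R S f) S']
      (X : Type u) [AddCommGroup X] [Module S' X] [Module S X] [IsScalarTower S S' X] (φ : N →ₗ[S] X),
      IsBaseChange S' φ → Module.Projective (Localization.Away f) (RestrictScalars (Localization.Away f) S' X) := by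
  obtain ⟨f, hf, hproj, -⟩ := S1254.result N p D
  refine ⟨f, hf, ?_⟩
  intro S' _ _ _ _ _ _ _ X _ _ _ _ φ hφ
  let R' := Localization.Away f
  letI : Module R' X := Module.compHom X (algebraMap R' S')
  haveI : IsScalarTower R' S' X := .of_algebraMap_smul fun _ _ => rfl
  letI : Module R X := Module.compHom X (algebraMap R S)
  haveI : IsScalarTower R S X := .of_algebraMap_smul fun _ _ => rfl
  haveI : IsScalarTower R R' X := .of_algebraMap_smul fun r (x : X) => by
    show algebraMap R' S' (algebraMap R R' r) • x = algebraMap R S r • x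
    rw [← algebraMap_smul S' (algebraMap R S r) x, ← IsScalarTower.algebraMap_apply, ← IsScalarTower.algebraMap_apply]
  haveI : IsLocalizedModule (Submonoid.powers (algebraMap R S f)) φ :=
    (isLocalizedModule_iff_isBaseChange (Submonoid.powers (algebraMap R S f)) S' φ).2 hφ
  haveI : IsLocalizedModule (Algebra.algebraMapSubmonoid S (Submonoid.powers f)) φ := by
    rw [Algebra.algebraMapSubmonoid_powers]
    infer_instance
  haveI : IsLocalizedModule (Submonoid.powers f) (φ.restrictScalars R) := IsLocalizedModule.restrictScalars _ _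
  let e : LocalizedModule (Submonoid.powers f) N ≃ₗ[R] X := IsLocalizedModule.linearEquiv (Submonoid.powers f)
    (LocalizedModule.mkLinearMap (Submonoid.powers f) N) (φ.restrictScalars R)
  haveI := hproj
  exact Module.Projective.of_equiv (R := Localization.Away f)
    (e.extendScalarsOfIsLocalization (Submonoid.powers f) (Localization.Away f))

/-- Transitivity of base change, as a map. -/
theorem exists_isBaseChange {S T U : Type u} [CommRing S] [CommRing T] [CommRing U] [Algebra S T] [Algebra T U]
    [Algebra S U] [IsScalarTower S T U] (N : Type u) [AddCommGroup N] [Module S N] :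
    ∃ φ : T ⊗[S] N →ₗ[T] U ⊗[S] N, IsBaseChange U φ := by
  let h := TensorProduct.isBaseChange S N T
  refine ⟨h.lift (TensorProduct.mk S U N 1), IsBaseChange.of_comp h ?_⟩
  have hc : ((h.lift (TensorProduct.mk S U N 1)).restrictScalars S) ∘ₗ TensorProduct.mk S T N 1 =
      TensorProduct.mk S U N 1 :=
    LinearMap.ext fun m => h.lift_eq _ m
  rw [hc]
  exact TensorProduct.isBaseChange S N U

/-- Projectivity on an étale neighbourhood of a point of flatness, for a module flat everywhere. -/
theorem exists_projective_nhd {R S : Type u} [CommRing R] [CommRing S] [Algebra R S] [Algebra.FinitePresentation R S]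
    (N : Type u) [AddCommGroup N] [Module S N] [Module R N] [IsScalarTower R S N] [Module.FinitePresentation S N]
    [Module.Flat R N] (p : Ideal R) [p.IsPrime] (q : Ideal S) [q.IsPrime] [q.LiesOver p] :
    ∃ (R' S' : Type u) (_ : CommRing R') (_ : CommRing S') (_ : Algebra R R') (_ : Algebra S S') (_ : Algebra R' S')
      (_ : Algebra R S') (_ : IsScalarTower R R' S') (_ : IsScalarTower R S S')
      (p' : Ideal R') (q' : Ideal S') (_ : p'.IsPrime) (_ : q'.IsPrime),
      FlatCA.IsEtaleNhd R R' p p' ∧ FlatCA.IsEtaleNhd S S' q q' ∧ q'.LiesOver p' ∧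
      Module.Projective R' (RestrictScalars R' S' (S' ⊗[S] N)) := by
  obtain ⟨R₁, S₁, _, _, _, _, _, _, _, _, p₁, w, hp₁, hw, hR₁, hS₁, hwp, hdev⟩ := exists_chart N p q
  haveI := hp₁
  haveI := hw
  haveI := hwp
  obtain ⟨hRR₁, hp₁p, -⟩ := id hR₁
  obtain ⟨hSS₁, hwq, -⟩ := id hS₁
  haveI := hRR₁
  haveI := hp₁p
  haveI := hSS₁
  haveI := hwq
  haveI : p₁.LiesOver p₁ := ⟨(Ideal.comap_id p₁).symm⟩
  obtain ⟨D⟩ := hdev R₁ p₁ (DevissLib.residue_bijective_of_frac p₁ p₁ fun b => ⟨1, b, p₁.one_notMem, by simp⟩) S₁
    (S₁ ⊗[S] N) _ (TensorProduct.isBaseChange S N S₁)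
  haveI : Algebra.FinitePresentation R S₁ := Algebra.FinitePresentation.trans R S S₁
  haveI : Algebra.FinitePresentation R₁ S₁ := Algebra.FinitePresentation.of_restrict_scalars_finitePresentation R R₁ S₁
  haveI : Module.Flat R (S₁ ⊗[S] N) := flat_tensor N
  haveI : IsScalarTower R R₁ (S₁ ⊗[S] N) := .of_algebraMap_smul fun r (x : S₁ ⊗[S] N) => by
    rw [← algebraMap_smul S₁ (algebraMap R R₁ r) x, ← IsScalarTower.algebraMap_apply R R₁ S₁, algebraMap_smul]
  haveI : Module.Flat R₁ (S₁ ⊗[S] N) :=
    ((S1231.result (R := R) (T := R₁) (C := S₁) (S₁ ⊗[S] N) w).2).1 inferInstance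
  obtain ⟨f, hf, hproj⟩ := exists_projective_away (R := R₁) (S := S₁) (S₁ ⊗[S] N) p₁ D
  let R' := Localization.Away f
  let S' := Localization.Away (algebraMap R₁ S₁ f)
  have hu : IsUnit (algebraMap R₁ S' f) := by
    rw [IsScalarTower.algebraMap_apply R₁ S₁ S']
    exact IsLocalization.Away.algebraMap_isUnit _
  letI : Algebra R' S' := (IsLocalization.Away.lift (S := R') f (g := algebraMap R₁ S') hu).toAlgebra
  haveI : IsScalarTower R₁ R' S' := .of_algebraMap_eq fun z => (IsLocalization.Away.lift_eq f hu z).symm
  haveI : IsScalarTower R R' S' := IsScalarTower.of_algebraMap_eq (R := R) (S := R') (A := S') fun r => by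
    rw [IsScalarTower.algebraMap_apply R R₁ R', ← IsScalarTower.algebraMap_apply R₁ R' S',
      IsScalarTower.algebraMap_apply R S₁ S', IsScalarTower.algebraMap_apply R₁ S₁ S',
      ← IsScalarTower.algebraMap_apply R R₁ S₁]
  haveI : IsScalarTower R S S' := IsScalarTower.of_algebraMap_eq (R := R) (S := S) (A := S') fun r => by
    rw [IsScalarTower.algebraMap_apply R S₁ S', IsScalarTower.algebraMap_apply S S₁ S',
      ← IsScalarTower.algebraMap_apply R S S₁]
  have hfw : algebraMap R₁ S₁ f ∉ w := fun hm => hf ((w.over_def p₁).ge hm)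
  have hdp : Disjoint (Submonoid.powers f : Set R₁) p₁ := (Ideal.disjoint_powers_iff_notMem f hp₁.isRadical).2 hf
  have hdw : Disjoint (Submonoid.powers (algebraMap R₁ S₁ f) : Set S₁) w :=
    (Ideal.disjoint_powers_iff_notMem _ hw.isRadical).2 hfw
  let p' : Ideal R' := p₁.map (algebraMap R₁ R')
  let q' : Ideal S' := w.map (algebraMap S₁ S')
  haveI : p'.IsPrime := IsLocalization.isPrime_of_isPrime_disjoint (Submonoid.powers f) _ p₁ inferInstance hdp
  haveI : q'.IsPrime := IsLocalization.isPrime_of_isPrime_disjoint (Submonoid.powers (algebraMap R₁ S₁ f)) _ w inferInstance hdw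
  haveI : p'.LiesOver p₁ := IsLocalization.liesOver_map_of_isPrime_disjoint (Submonoid.powers f) _ hdp
  haveI : q'.LiesOver w := IsLocalization.liesOver_map_of_isPrime_disjoint (Submonoid.powers (algebraMap R₁ S₁ f)) _ hdw
  haveI : q'.LiesOver p' := ⟨by
    have h1 : (q'.comap (algebraMap R' S')).comap (algebraMap R₁ R') = p'.comap (algebraMap R₁ R') := by
      rw [Ideal.comap_comap, ← IsScalarTower.algebraMap_eq, IsScalarTower.algebraMap_eq R₁ S₁ S', ← Ideal.comap_comap]
      exact ((w.over_def p₁).trans (congrArg (Ideal.comap (algebraMap R₁ S₁)) (q'.over_def w))).symm.trans (p'.over_def p₁)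
    have h2 := congrArg (Ideal.map (algebraMap R₁ R')) h1
    rw [IsLocalization.map_under (Submonoid.powers f) R', IsLocalization.map_under (Submonoid.powers f) R'] at h2
    exact h2.symm⟩
  refine ⟨R', S', inferInstance, inferInstance, inferInstance, inferInstance, inferInstance, inferInstance, inferInstance,
    inferInstance, p', q', inferInstance, inferInstance, isEtaleNhd_trans hR₁ (isEtaleNhd_away f p₁ hf p'),
    isEtaleNhd_trans hS₁ (isEtaleNhd_away _ w hfw q'), inferInstance, ?_⟩
  obtain ⟨φ, hφ⟩ := exists_isBaseChange (S := S) (T := S₁) (U := S') N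
  exact hproj S' (S' ⊗[S] N) φ hφ

end Groth.Agent.DevLib
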