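import Groth.Agent.DevLib.Cover
import Groth.Agent.DevLib.Proj
import Groth.Agent.DevissLib.Complete

/-!
# Freeness over the local rings of étale neighbourhoods of the base
-/

set_option autoImplicit false
set_option linter.style.haveILetI false
set_option backward.isDefEq.respectTransparency false
set_option backward.isDefEq.respectTransparency.types false
set_option maxHeartbeats 2000000

universe u

open TensorProduct

noncomputable section

namespace Groth.Agent.DevLib

attribute [local instance] Algebra.TensorProduct.rightAlgebra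

/-- Flatness at a point survives flat base change of the algebra. -/
theorem flatAt_of_flat {R S S' : Type u} [CommRing R] [CommRing S] [CommRing S'] [Algebra R S] [Algebra R S'] [Algebra S S']
    [IsScalarTower R S S'] [Module.Flat S S']
    {N : Type u} [AddCommGroup N] [Module S N] [Module R N] [IsScalarTower R S N]
    {N' : Type u} [AddCommGroup N'] [Module S' N'] [Module S N'] [IsScalarTower S S' N'] [Module R N'] [IsScalarTower R S' N']
    {f : N →ₗ[S] N'} (hf : IsBaseChange S' f) (q : Ideal S) [q.IsPrime] (q' : Ideal S') [q'.IsPrime] [q'.LiesOver q]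
    (h : FlatCA.FlatAt R q N) : FlatCA.FlatAt R q' N' := by
  let Sq := Localization.AtPrime q
  let T := Localization.AtPrime q'
  letI : Algebra Sq T := (Localization.localRingHom q q' (algebraMap S S') (q'.over_def q)).toAlgebra
  haveI : IsScalarTower S Sq T := IsScalarTower.of_algebraMap_eq (R := S) (S := Sq) (A := T) fun s => by
    show _ = Localization.localRingHom q q' _ (q'.over_def q) (algebraMap S Sq s)
    rw [Localization.localRingHom_to_map, ← IsScalarTower.algebraMap_apply]
  haveI : IsScalarTower R Sq T := IsScalarTower.of_algebraMap_eq (R := R) (S := Sq) (A := T) fun r => by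
    rw [IsScalarTower.algebraMap_apply R S Sq, ← IsScalarTower.algebraMap_apply S Sq T, IsScalarTower.algebraMap_apply R S' T,
      IsScalarTower.algebraMap_apply R S S', ← IsScalarTower.algebraMap_apply S S' T]
  haveI : Module.Flat S' T := IsLocalization.flat _ q'.primeCompl
  haveI : Module.Flat S T := Module.Flat.trans S S' T
  haveI : Module.Flat Sq T := (Module.flat_iff_of_isLocalization Sq q.primeCompl T).2 inferInstance
  haveI : Module.Flat R (LocalizedModule q.primeCompl N) := h
  haveI : Module.Flat R (Sq ⊗[S] N) :=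
    Module.Flat.of_linearEquiv ((LocalizedModule.equivTensorProduct q.primeCompl N).restrictScalars R).symm
  haveI : Module.Flat R (T ⊗[Sq] (Sq ⊗[S] N)) := flat_tensor _
  haveI : Module.Flat R (T ⊗[S] N) :=
    Module.Flat.of_linearEquiv ((AlgebraTensorModule.cancelBaseChange S Sq T T N).restrictScalars R).symm
  let e₂ : T ⊗[S'] N' ≃ₗ[T] T ⊗[S] N :=
    (LinearEquiv.baseChange S' T _ _ hf.equiv.symm).trans (AlgebraTensorModule.cancelBaseChange S S' T T N)
  exact Module.Flat.of_linearEquiv
    (((LocalizedModule.equivTensorProduct q'.primeCompl N').restrictScalars R).trans (e₂.restrictScalars R))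

/-- Complete dévissages exist after étale localisation at every point of the support. -/
theorem existsDev_of_mem_support {A B : Type u} [CommRing A] [CommRing B] [Algebra A B] [Algebra.FiniteType A B]
    (N : Type u) [AddCommGroup N] [Module B N] [Module A N] [IsScalarTower A B N] [Module.Finite B N]
    (p : Ideal A) [p.IsPrime] (q : Ideal B) [q.IsPrime] [q.LiesOver p]
    (h : (⟨q, inferInstance⟩ : PrimeSpectrum B) ∈ Module.support B N) : ExistsDev A p B N q := by
  obtain ⟨hpr, hcom⟩ := FibAssLib.fiberIdeal_spec p q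
  letI : Algebra B (p.Fiber B) :=
    (Algebra.TensorProduct.includeRight (R := A) (A := p.ResidueField) (B := B)).toRingHom.toAlgebra
  have hs : Module.support (p.Fiber B) (FlatCA.fiberMod p B N) = PrimeSpectrum.zeroLocus
      (((Module.annihilator B N).map (algebraMap B (p.Fiber B)) : Ideal (p.Fiber B)) : Set (p.Fiber B)) :=
    AssSupLib.support_baseChange
  have hx : (⟨_, hpr⟩ : PrimeSpectrum (p.Fiber B)) ∈ Module.support (p.Fiber B) (FlatCA.fiberMod p B N) := by
    rw [hs, PrimeSpectrum.mem_zeroLocus, SetLike.coe_subset_coe]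
    exact Ideal.map_mono (Module.mem_support_iff_of_finite.1 h)
  obtain ⟨J, -, -, hJsupp⟩ := S1276.result (A := A) (B := B) N p
  obtain ⟨q0, hq0, -, hq0p, Q0, -, hQ0c, hdim⟩ := DevissLib.exists_fibre_point p J _ hJsupp q ⟨_, hpr⟩ rfl hx
  haveI := hq0
  haveI := hq0p
  obtain ⟨r, hr⟩ := DimFormulaLib.exists_nat_trdeg_quotient p.ResidueField (p.Fiber (B ⧸ J)) Q0.asIdeal
  obtain ⟨a, -, hd, -⟩ := DimFormulaLib.localDim_eq_height_add p.ResidueField (p.Fiber (B ⧸ J)) Q0 r hr
  exact existsDev (a + r) A p B N q ⟨_, hpr⟩ hx rfl (hdim.symm.trans hd)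

/-- A module with a dévissage becomes free over every flat local ring with trivial residue extension. -/
theorem free_of_dev {R₁ S₁ : Type u} [CommRing R₁] [CommRing S₁] [Algebra R₁ S₁]
    {N₁ : Type u} [AddCommGroup N₁] [Module S₁ N₁] {p₁ : Ideal R₁} [p₁.IsPrime] {w : Ideal S₁} [w.IsPrime] [w.LiesOver p₁]
    (hDev : Dev R₁ p₁ S₁ N₁ w)
    {A : Type u} [CommRing A] [IsLocalRing A] [Algebra R₁ A] [Module.Flat R₁ A]
    [(IsLocalRing.maximalIdeal A).LiesOver p₁] [Algebra.QuasiFiniteAt R₁ (IsLocalRing.maximalIdeal A)]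
    (hres : DevissLib.FracMod p₁ (IsLocalRing.maximalIdeal A))
    {C : Type u} [CommRing C] [Algebra A C] [Algebra S₁ C] [Algebra R₁ C] [IsScalarTower R₁ A C] [IsScalarTower R₁ S₁ C]
    [Algebra.IsPushout R₁ A S₁ C]
    {N' : Type u} [AddCommGroup N'] [Module C N'] [Module S₁ N'] [IsScalarTower S₁ C N'] [Module A N'] [IsScalarTower A C N']
    [Module.Finite C N'] {g : N₁ →ₗ[S₁] N'} (hg : IsBaseChange C g)
    (hflat : ∀ (w' : Ideal C) [w'.IsPrime], w'.LiesOver w → FlatCA.FlatAt A w' N') :
    Module.Free A N' ∧ Module.FinitePresentation C N' := by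
  have hb := DevissLib.residue_bijective_of_frac p₁ (IsLocalRing.maximalIdeal A) hres
  let Yf := (Ideal.fiberIsoOfBijectiveResidueField (S := S₁) hb).symm ⟨w, inferInstance, inferInstance⟩
  let eC : A ⊗[R₁] S₁ ≃ₐ[A] C := Algebra.IsPushout.equiv R₁ A S₁ C
  let w' : Ideal C := Yf.1.comap eC.symm.toRingEquiv.toRingHom
  haveI : Yf.1.IsPrime := Yf.2.1
  haveI : Yf.1.LiesOver (IsLocalRing.maximalIdeal A) := Yf.2.2
  haveI : w'.IsPrime := inferInstance
  haveI : w'.LiesOver (IsLocalRing.maximalIdeal A) := ⟨by
    refine (Yf.1.over_def (IsLocalRing.maximalIdeal A)).trans ?_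
    show Yf.1.comap (algebraMap A _) = (Yf.1.comap eC.symm.toRingEquiv.toRingHom).comap (algebraMap A C)
    rw [Ideal.comap_comap]
    congr 1
    exact RingHom.ext fun b => (eC.symm.commutes b).symm⟩
  haveI : w'.LiesOver w := ⟨by
    refine (Ideal.comap_fiberIsoOfBijectiveResidueField_symm hb
      (⟨w, inferInstance, inferInstance⟩ : p₁.primesOver S₁)).symm.trans ?_
    show Yf.1.comap _ = (Yf.1.comap eC.symm.toRingEquiv.toRingHom).comap (algebraMap S₁ C)
    rw [Ideal.comap_comap]
    congr 1
    refine RingHom.ext fun s => ?_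
    show (1 : A) ⊗ₜ[R₁] s = eC.symm (algebraMap S₁ C s)
    rw [eq_comm, AlgEquiv.symm_apply_eq]
    simp [eC, Algebra.IsPushout.equiv_tmul]⟩
  have hD : Dev A (IsLocalRing.maximalIdeal A) C N' w' := Dev.baseChange hb hDev C N' g hg w'
  obtain ⟨D, ⟨T⟩⟩ := hD.hasComplete
  obtain ⟨h1, h2, -⟩ := DevissLib.main (hflat w' inferInstance) D T
  exact ⟨h2, h1⟩

/-- An étale chart on which the module becomes free and finitely presented over the local rings of étale
neighbourhoods of the base. -/
def FreeChart (R S : Type u) [CommRing R] [CommRing S] [Algebra R S] (N : Type u) [AddCommGroup N] [Module S N]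
    (p : Ideal R) [p.IsPrime] (q : Ideal S) [q.IsPrime] : Prop :=
  ∃ (R₁ S₁ : Type u) (_ : CommRing R₁) (_ : CommRing S₁) (_ : Algebra R R₁) (_ : Algebra S S₁) (_ : Algebra R₁ S₁)
    (_ : Algebra R S₁) (_ : IsScalarTower R R₁ S₁) (_ : IsScalarTower R S S₁)
    (p₁ : Ideal R₁) (w : Ideal S₁) (_ : p₁.IsPrime) (_ : w.IsPrime),
    FlatCA.IsEtaleNhd R R₁ p p₁ ∧ FlatCA.IsEtaleNhd S S₁ q w ∧ w.LiesOver p₁ ∧
    ∀ (R' : Type u) [CommRing R'] [Algebra R₁ R'] (p' : Ideal R') [p'.IsPrime] (_ : FlatCA.IsEtaleNhd R₁ R' p₁ p')
      (C : Type u) [CommRing C] [Algebra (Localization.AtPrime p') C] [Algebra S₁ C] [Algebra R₁ C]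
      [IsScalarTower R₁ (Localization.AtPrime p') C] [IsScalarTower R₁ S₁ C]
      [Algebra.IsPushout R₁ (Localization.AtPrime p') S₁ C] [Algebra S C] [IsScalarTower S S₁ C]
      (N' : Type u) [AddCommGroup N'] [Module C N'] [Module S N'] [IsScalarTower S C N']
      [Module (Localization.AtPrime p') N'] [IsScalarTower (Localization.AtPrime p') C N']
      (f : N →ₗ[S] N'), IsBaseChange C f →
      Module.Free (Localization.AtPrime p') N' ∧ Module.FinitePresentation C N'

/-- Free charts exist at every point of flatness. -/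
theorem exists_freeChart {R S : Type u} [CommRing R] [CommRing S] [Algebra R S] [Algebra.FiniteType R S]
    (N : Type u) [AddCommGroup N] [Module S N] [Module R N] [IsScalarTower R S N] [Module.Finite S N]
    (p : Ideal R) [p.IsPrime] (q : Ideal S) [q.IsPrime] [q.LiesOver p] (hflat : FlatCA.FlatAt R q N) :
    FreeChart R S N p q := by
  by_cases h : (⟨q, inferInstance⟩ : PrimeSpectrum S) ∈ Module.support S N
  · obtain ⟨R₁, S₁, _, _, _, _, _, _, _, _, p₁, w, hp₁, hw, hR₁, hS₁, hwp, hDev⟩ := existsDev_of_mem_support N p q h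
    refine ⟨R₁, S₁, inferInstance, inferInstance, inferInstance, inferInstance, inferInstance, inferInstance, inferInstance,
      inferInstance, p₁, w, hp₁, hw, hR₁, hS₁, hwp, ?_⟩
    intro R' _ _ p' _ hR' C _ _ _ _ _ _ _ _ _ N' _ _ _ _ _ _ f hf
    haveI := hp₁
    haveI := hw
    haveI := hwp
    obtain ⟨hRR₁, hp₁p, -⟩ := id hR₁
    obtain ⟨hSS₁, hwq, -⟩ := id hS₁
    obtain ⟨hR₁R', hp'p₁, hres⟩ := id hR'
    haveI := hRR₁
    haveI := hp₁p
    haveI := hSS₁
    haveI := hwq
    haveI := hR₁R'
    haveI := hp'p₁
    let A := Localization.AtPrime p'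
    haveI : Module.Flat R' A := IsLocalization.flat _ p'.primeCompl
    haveI : Module.Flat R₁ A := Module.Flat.trans R₁ R' A
    haveI : (IsLocalRing.maximalIdeal A).LiesOver p₁ := Ideal.LiesOver.trans (IsLocalRing.maximalIdeal A) p' p₁
    haveI : Algebra.QuasiFinite R₁ A := (inferInstance : Algebra.QuasiFiniteAt R₁ p')
    haveI : Algebra.QuasiFiniteAt R₁ (IsLocalRing.maximalIdeal A) :=
      Algebra.QuasiFinite.of_isLocalization (S := A) (IsLocalRing.maximalIdeal A).primeCompl
    have hfrac : DevissLib.FracMod p₁ (IsLocalRing.maximalIdeal A) :=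
      (DevissLib.fracMod_of_bijective p₁ p' hres).trans fun z => by
        obtain ⟨a, ⟨s, hs⟩, rfl⟩ := IsLocalization.exists_mk'_eq p'.primeCompl z
        refine ⟨s, a, hs, ?_⟩
        rw [IsLocalization.mk'_spec'_mk, sub_self]
        exact zero_mem _
    letI : Module S₁ N' := Module.compHom _ (algebraMap S₁ C)
    haveI : IsScalarTower S₁ C N' := .of_algebraMap_smul fun _ _ => rfl
    haveI : IsScalarTower S S₁ N' := .of_algebraMap_smul fun b (m : N') => by
      show algebraMap S₁ C (algebraMap S S₁ b) • m = b • m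
      rw [← IsScalarTower.algebraMap_apply S S₁ C, algebraMap_smul]
    let g := (TensorProduct.isBaseChange S N S₁).lift f
    have hg : IsBaseChange C g := IsBaseChange.of_comp (TensorProduct.isBaseChange S N S₁) (by
      rwa [show (g.restrictScalars S) ∘ₗ TensorProduct.mk S S₁ N 1 = f from
        LinearMap.ext fun m => (TensorProduct.isBaseChange S N S₁).lift_eq f m])
    haveI : Module.Finite C N' := Module.Finite.equiv hf.equiv
    refine free_of_dev (hDev (S₁ ⊗[S] N) _ (TensorProduct.isBaseChange S N S₁)) hfrac hg fun w' _ hw' => ?_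
    haveI := hw'
    haveI : w'.LiesOver q := Ideal.LiesOver.trans w' w q
    haveI : Algebra.IsPushout R₁ S₁ A C := Algebra.IsPushout.symm inferInstance
    haveI : Module.Flat S₁ C :=
      Module.Flat.of_linearEquiv (Algebra.IsPushout.equiv R₁ S₁ A C).toLinearEquiv.symm
    haveI : Module.Flat S C := Module.Flat.trans S S₁ C
    -- scalars
    letI : Algebra R R' := ((algebraMap R₁ R').comp (algebraMap R R₁)).toAlgebra
    haveI : IsScalarTower R R₁ R' := .of_algebraMap_eq' rfl
    haveI : IsScalarTower R R₁ A := IsScalarTower.of_algebraMap_eq (R := R) (S := R₁) (A := A) fun r => by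
      rw [IsScalarTower.algebraMap_apply R R' A, IsScalarTower.algebraMap_apply R R₁ R',
        ← IsScalarTower.algebraMap_apply R₁ R' A]
    letI : Algebra R C := ((algebraMap S₁ C).comp (algebraMap R S₁)).toAlgebra
    haveI : IsScalarTower R S₁ C := .of_algebraMap_eq' rfl
    haveI : IsScalarTower R S C := IsScalarTower.of_algebraMap_eq (R := R) (S := S) (A := C) fun r => by
      rw [IsScalarTower.algebraMap_apply R S₁ C, IsScalarTower.algebraMap_apply R S S₁, ← IsScalarTower.algebraMap_apply S S₁ C]
    letI : Algebra R' C := ((algebraMap A C).comp (algebraMap R' A)).toAlgebra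
    haveI : IsScalarTower R' A C := .of_algebraMap_eq' rfl
    haveI : IsScalarTower R R' C := IsScalarTower.of_algebraMap_eq (R := R) (S := R') (A := C) fun r => by
      rw [IsScalarTower.algebraMap_apply R' A C, IsScalarTower.algebraMap_apply R R₁ R',
        ← IsScalarTower.algebraMap_apply R₁ R' A, ← IsScalarTower.algebraMap_apply R₁ A C,
        IsScalarTower.algebraMap_apply R₁ S₁ C, ← IsScalarTower.algebraMap_apply R R₁ S₁, ← IsScalarTower.algebraMap_apply R S₁ C]
    haveI : Algebra.Etale R R' := Algebra.Etale.comp R R₁ R'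
    letI : Module R N' := Module.compHom _ (algebraMap R C)
    haveI : IsScalarTower R C N' := .of_algebraMap_smul fun _ _ => rfl
    letI : Module R' N' := Module.compHom _ (algebraMap R' C)
    haveI : IsScalarTower R' C N' := .of_algebraMap_smul fun _ _ => rfl
    haveI : IsScalarTower R R' N' := .of_algebraMap_smul fun r (m : N') => by
      show algebraMap R' C (algebraMap R R' r) • m = algebraMap R C r • m
      rw [← IsScalarTower.algebraMap_apply R R' C]
    have hR'flat : FlatCA.FlatAt R' w' N' :=
      (S1231.result (R := R) (T := R') (C := C) N' w').1.1 (flatAt_of_flat hf q w' hflat)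
    haveI : Module.Flat R' (LocalizedModule w'.primeCompl N') := hR'flat
    haveI : IsScalarTower R' A N' := .of_algebraMap_smul fun r (m : N') => by
      show algebraMap R' A r • m = algebraMap R' C r • m
      rw [← algebraMap_smul C (algebraMap R' A r) m, ← IsScalarTower.algebraMap_apply R' A C]
    exact (Module.flat_iff_of_isLocalization A p'.primeCompl (LocalizedModule w'.primeCompl N')).2 inferInstance
  · rw [Module.mem_support_iff_of_finite, SetLike.not_le_iff_exists] at h
    obtain ⟨g, hg, hgq⟩ := h
    haveI : p.LiesOver p := ⟨(Ideal.comap_id p).symm⟩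
    let S₁ := Localization.Away g
    have hd : Disjoint (Submonoid.powers g : Set S) q :=
      (Ideal.disjoint_powers_iff_notMem g (inferInstance : q.IsPrime).isRadical).2 hgq
    let w : Ideal S₁ := q.map (algebraMap S S₁)
    haveI : w.IsPrime := IsLocalization.isPrime_of_isPrime_disjoint (Submonoid.powers g) _ q inferInstance hd
    haveI : w.LiesOver q := IsLocalization.liesOver_map_of_isPrime_disjoint (Submonoid.powers g) _ hd
    haveI : w.LiesOver p := Ideal.LiesOver.trans w q p
    refine ⟨R, S₁, inferInstance, inferInstance, inferInstance, inferInstance, inferInstance, inferInstance, inferInstance,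
      inferInstance, p, w, inferInstance, inferInstance, ⟨inferInstance, inferInstance, ?_⟩,
      isEtaleNhd_away g q hgq w, inferInstance, ?_⟩
    · exact DevissLib.residue_bijective_of_frac p p (fun b => ⟨1, b, p.one_notMem, by simp⟩)
    intro R' _ _ p' _ _ C _ _ _ _ _ _ _ _ _ N' _ _ _ _ _ _ f hf
    haveI : Subsingleton N' := by
      refine subsingleton_of_forall_eq 0 fun m => ?_
      induction m using hf.inductionOn with
      | zero => rfl
      | tmul m =>
        have hu : IsUnit (algebraMap S C g) := by
          rw [IsScalarTower.algebraMap_apply S S₁ C]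
          exact (IsLocalization.Away.algebraMap_isUnit g).map _
        refine hu.smul_eq_zero.1 ?_
        rw [algebraMap_smul, ← map_smul, Module.mem_annihilator.1 hg m, map_zero]
      | smul s m hm => rw [hm, smul_zero]
      | add u v hu hv => rw [hu, hv, add_zero]
    refine ⟨inferInstance, ?_⟩
    haveI : Module.Free C N' := inferInstance
    haveI : Module.Finite C N' := ⟨⟨∅, Subsingleton.elim _ _⟩⟩
    exact Module.finitePresentation_of_projective C N'

end Groth.Agent.DevLib
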