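import Groth.Agent.DevLib.Local

/-!
# Free covers of the whole fibre
-/

set_option autoImplicit false
set_option linter.style.haveILetI false
set_option backward.isDefEq.respectTransparency false
set_option backward.isDefEq.respectTransparency.types false
set_option maxHeartbeats 2000000

universe u

open TensorProduct

noncomputable section

namespace Groth.Agent.DevLib

attribute [local instance] Algebra.TensorProduct.rightAlgebra

/-- A factor of a finite product is finitely presented as a module over the product. -/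
theorem finitePresentation_piEval {ι : Type} [DecidableEq ι] (C : ι → Type u) [∀ i, CommRing (C i)] (i : ι) :
    letI : Algebra (∀ j, C j) (C i) := (Pi.evalRingHom C i).toAlgebra
    Module.FinitePresentation (∀ j, C j) (C i) := by
  letI : Algebra (∀ j, C j) (C i) := (Pi.evalRingHom C i).toAlgebra
  refine Module.finitePresentation_of_surjective (Algebra.linearMap (∀ j, C j) (C i)) (fun c => ?_) ?_
  · exact ⟨Function.update 0 i c, by simp [RingHom.algebraMap_toAlgebra]⟩
  · refine ⟨{1 - Pi.single i 1}, le_antisymm ?_ fun z hz => ?_⟩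
    · rw [Submodule.span_le]
      simp [RingHom.algebraMap_toAlgebra]
    · rw [LinearMap.mem_ker] at hz
      change z i = 0 at hz
      rw [Finset.coe_singleton, Submodule.mem_span_singleton]
      refine ⟨z, funext fun j => ?_⟩
      by_cases h : j = i
      · subst h
        simp [hz]
      · simp [h]

/-- Base change to a finite product. -/
theorem pi_baseChange {ι : Type} [Fintype ι] [DecidableEq ι] {A SA NA : Type u} [CommRing A] [CommRing SA] [Algebra A SA]
    [AddCommGroup NA] [Module SA NA] (C : ι → Type u) [∀ i, CommRing (C i)] [∀ i, Algebra SA (C i)]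
    [∀ i, Algebra A (C i)] [∀ i, IsScalarTower A SA (C i)]
    (hfp : ∀ i, Module.FinitePresentation (C i) (C i ⊗[SA] NA)) (hfr : ∀ i, Module.Free A (C i ⊗[SA] NA)) :
    Module.FinitePresentation (∀ i, C i) ((∀ i, C i) ⊗[SA] NA) ∧ Module.Free A ((∀ i, C i) ⊗[SA] NA) := by
  let e₀ : (∀ i, C i) ⊗[SA] NA ≃ₗ[SA] ∀ i, C i ⊗[SA] NA := TensorProduct.piLeft (R := SA) (N := NA) (M := C)
  have he₀ : ∀ (v : ∀ i, C i) (n : NA), e₀ (v ⊗ₜ n) = fun i => v i ⊗ₜ n := fun v n => by
    ext i
    simp [e₀]
  have hlin : ∀ (c : ∀ i, C i) (x : (∀ i, C i) ⊗[SA] NA), e₀ (c • x) = c • e₀ x := fun c x => by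
    induction x using TensorProduct.induction_on with
    | zero => simp
    | add u v hu hv => simp only [smul_add, map_add, hu, hv]
    | tmul v n =>
      rw [TensorProduct.smul_tmul', he₀, he₀]
      funext i
      exact (TensorProduct.smul_tmul' (c i) (v i) n).symm
  let e : (∀ i, C i) ⊗[SA] NA ≃ₗ[∀ i, C i] ∀ i, C i ⊗[SA] NA :=
    { e₀ with map_smul' := hlin }
  constructor
  · letI : ∀ i, Algebra (∀ j, C j) (C i) := fun i => (Pi.evalRingHom C i).toAlgebra
    letI : ∀ i, Module (∀ j, C j) (C i ⊗[SA] NA) := fun i => Module.compHom _ (Pi.evalRingHom C i)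
    haveI : ∀ i, IsScalarTower (∀ j, C j) (C i) (C i ⊗[SA] NA) := fun i => .of_algebraMap_smul fun _ _ => rfl
    haveI : ∀ i, Module.FinitePresentation (∀ j, C j) (C i) := fun i => finitePresentation_piEval C i
    haveI : ∀ i, Module.FinitePresentation (∀ j, C j) (C i ⊗[SA] NA) := fun i => by
      haveI := hfp i
      exact Module.FinitePresentation.trans _ _ (C i)
    let e' : (∀ i, C i ⊗[SA] NA) ≃ₗ[∀ i, C i] (∀ i, C i) ⊗[SA] NA :=
      { e.symm with map_smul' := fun c x => e.symm.map_smul c x }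
    exact Module.FinitePresentation.of_equiv e'
  · haveI := hfr
    let eA : (∀ i, C i) ⊗[SA] NA ≃ₗ[A] ∀ i, C i ⊗[SA] NA :=
      { e₀ with
        map_smul' := fun a x => by
          show e₀ (a • x) = a • e₀ x
          rw [← algebraMap_smul (∀ i, C i) a x, hlin]
          funext i
          show algebraMap A (C i) a • e₀ x i = a • e₀ x i
          exact algebraMap_smul (C i) a (e₀ x i) }
    exact Module.Free.of_equiv eA.symm

/-- Free étale covers of the fibre over the local ring of an étale neighbourhood. -/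
theorem exists_free_cover {R S : Type u} [CommRing R] [CommRing S] [Algebra R S] [Algebra.FiniteType R S]
    (N : Type u) [AddCommGroup N] [Module S N] [Module R N] [IsScalarTower R S N] [Module.Finite S N]
    (p : Ideal R) [p.IsPrime] (hflat : ∀ (q : Ideal S) [q.IsPrime], q.LiesOver p → FlatCA.FlatAt R q N) :
    ∃ (R' : Type u) (_ : CommRing R') (_ : Algebra R R') (p' : Ideal R') (_ : p'.IsPrime), FlatCA.IsEtaleNhd R R' p p' ∧
      ∀ (SA NA : Type u) [CommRing SA] [Algebra R SA] [Algebra S SA] [Algebra (Localization.AtPrime p') SA]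
        [IsScalarTower R S SA] [IsScalarTower R (Localization.AtPrime p') SA]
        [Algebra.IsPushout R S (Localization.AtPrime p') SA]
        [AddCommGroup NA] [Module SA NA] [Module S NA] [IsScalarTower S SA NA]
        (f : N →ₗ[S] NA), IsBaseChange SA f →
        ∃ (C : Type u) (_ : CommRing C) (_ : Algebra SA C) (_ : Algebra (Localization.AtPrime p') C)
          (_ : IsScalarTower (Localization.AtPrime p') SA C) (_ : Algebra S C) (_ : IsScalarTower S SA C),
          Algebra.Etale SA C ∧ (Algebra.FinitePresentation R S → Algebra.FinitePresentation (Localization.AtPrime p') C) ∧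
          (∀ (q : Ideal S) [q.IsPrime], q.LiesOver p → ∃ x' : Ideal C, x'.IsPrime ∧ x'.comap (algebraMap S C) = q ∧
            x'.LiesOver (IsLocalRing.maximalIdeal (Localization.AtPrime p'))) ∧
          Module.FinitePresentation C (C ⊗[SA] NA) ∧
          Module.Free (Localization.AtPrime p') (C ⊗[SA] NA) := by
  classical
  let F : Set (PrimeSpectrum S) := PrimeSpectrum.comap (algebraMap R S) ⁻¹' {⟨p, inferInstance⟩}
  have hF : IsCompact F := by
    rw [show F = Set.range (fun x => ((PrimeSpectrum.preimageEquivFiber R S ⟨p, inferInstance⟩).symm x).1) by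
      ext Q
      refine ⟨fun hQ => ⟨PrimeSpectrum.preimageEquivFiber R S ⟨p, inferInstance⟩ ⟨Q, hQ⟩, by simp⟩, ?_⟩
      rintro ⟨x, rfl⟩
      exact ((PrimeSpectrum.preimageEquivFiber R S ⟨p, inferInstance⟩).symm x).2]
    exact isCompact_range (continuous_subtype_val.comp
      (PrimeSpectrum.preimageHomeomorphFiber R S ⟨p, inferInstance⟩).symm.continuous)
  have hF' : ∀ Q : F, Q.1.asIdeal.LiesOver p := fun Q => ⟨(congrArg PrimeSpectrum.asIdeal Q.2).symm⟩
  have hchart : ∀ Q : F, FreeChart R S N p Q.1.asIdeal := fun Q => by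
    haveI := hF' Q
    exact exists_freeChart N p Q.1.asIdeal (hflat _ (hF' Q))
  choose R₁ S₁ cR cS aAR aBS aRS aAS tARS tABS p₁ w hp₁ hw hnhd hnhdS hwp hfree using hchart
  have hU : ∀ Q : F, ∃ U : Set (PrimeSpectrum S), IsOpen U ∧ Q.1 ∈ U ∧
      ∀ Q' ∈ U, Q'.asIdeal.LiesOver p →
        ∃ w' : Ideal (S₁ Q), w'.IsPrime ∧ w'.comap (algebraMap S (S₁ Q)) = Q'.asIdeal ∧ w'.LiesOver (p₁ Q) := by
    intro Q
    haveI := hp₁ Q
    haveI := hw Q
    haveI := hwp Q
    obtain ⟨hRe, hPp, -⟩ := hnhd Q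
    obtain ⟨hSe, hwq, -⟩ := hnhdS Q
    haveI := hRe
    haveI := hPp
    haveI := hSe
    obtain ⟨U, hUo, hUw, hU⟩ := exists_open_chart (B := S) p (p₁ Q) (w Q)
    refine ⟨U, hUo, ?_, hU⟩
    rwa [show Q.1 = PrimeSpectrum.comap (algebraMap S (S₁ Q)) ⟨w Q, inferInstance⟩ from
      PrimeSpectrum.ext hwq.over]
  choose U hUo hUQ hUw using hU
  obtain ⟨t, ht⟩ := hF.elim_finite_subcover U hUo fun Q hQ => Set.mem_iUnion.2 ⟨⟨Q, hQ⟩, hUQ _⟩
  let e : Fin t.card → F := fun i => (t.equivFin.symm i).1
  haveI : ∀ i, (p₁ (e i)).IsPrime := fun i => hp₁ (e i)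
  obtain ⟨R', _, _, p', hp', hR', hh⟩ := exists_common_nhd p t.card (fun i => R₁ (e i)) (fun i => p₁ (e i))
    fun i => hnhd (e i)
  refine ⟨R', inferInstance, inferInstance, p', hp', hR', ?_⟩
  intro SA NA _ _ _ _ _ _ _ _ _ _ _ f hf
  obtain ⟨hR'e, hp'p, hres'⟩ := hR'
  haveI := hp'
  haveI := hR'e
  haveI := hp'p
  choose h hh using hh
  letI : ∀ i, Algebra (R₁ (e i)) R' := fun i => (h i).toRingHom.toAlgebra
  haveI : ∀ i, IsScalarTower R (R₁ (e i)) R' := fun i => .of_algebraMap_eq fun a => ((h i).commutes a).symm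
  haveI : ∀ i, (p'.LiesOver (p₁ (e i))) := fun i => ⟨(hh i).symm⟩
  haveI : ∀ i, Algebra.Etale R (R₁ (e i)) := fun i => (hnhd (e i)).1
  haveI : ∀ i, (p₁ (e i)).LiesOver p := fun i => (hnhd (e i)).2.1
  haveI : ∀ i, Algebra.Etale (R₁ (e i)) R' := fun i => Algebra.Etale.of_restrictScalars R (R₁ (e i)) R'
  haveI : ∀ i, Algebra.Etale S (S₁ (e i)) := fun i => (hnhdS (e i)).1
  have hnhdi : ∀ i, FlatCA.IsEtaleNhd (R₁ (e i)) R' (p₁ (e i)) p' := by
    intro i
    refine ⟨inferInstance, inferInstance, DevissLib.residue_bijective_of_frac _ _ fun z => ?_⟩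
    obtain ⟨c, b, hc, hcb⟩ := DevissLib.fracMod_of_bijective p p' hres' z
    refine ⟨algebraMap R (R₁ (e i)) c, algebraMap R (R₁ (e i)) b, fun hm => hc (((p₁ (e i)).over_def p).ge hm), ?_⟩
    rwa [← IsScalarTower.algebraMap_apply, ← IsScalarTower.algebraMap_apply]
  have hloc := fun i => exists_local (R := R) (S := S) (R₁ := R₁ (e i)) (S₁ := S₁ (e i)) N (hnhdi i)
    (hfree (e i) R' p' (hnhdi i)) SA NA f hf
  choose C cC aC aAC tAC aSC tSC het _ hfp hfr hpts using hloc
  haveI := het
  haveI : ∀ i, IsScalarTower S SA (C i) := tSC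
  obtain ⟨hfp', hfr'⟩ := pi_baseChange (A := Localization.AtPrime p') C hfp hfr
  refine ⟨∀ i, C i, inferInstance, inferInstance, inferInstance, inferInstance, inferInstance, inferInstance, inferInstance,
    fun hS => ?_, ?_, hfp', hfr'⟩
  · haveI := hS
    haveI : Algebra.IsPushout R (Localization.AtPrime p') S SA := Algebra.IsPushout.symm inferInstance
    haveI : Algebra.FinitePresentation (Localization.AtPrime p') SA :=
      Algebra.FinitePresentation.equiv (Algebra.IsPushout.equiv R (Localization.AtPrime p') S SA)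
    exact Algebra.FinitePresentation.trans (Localization.AtPrime p') SA (∀ i, C i)
  · intro q _ hq
    obtain ⟨x, hx⟩ := Set.mem_iUnion.1 (ht (show (⟨q, inferInstance⟩ : PrimeSpectrum S) ∈ F from
      PrimeSpectrum.ext hq.over.symm))
    obtain ⟨hxt, hxU⟩ := Set.mem_iUnion.1 hx
    let i := t.equivFin ⟨x, hxt⟩
    have hei : e i = x := by simp [e, i]
    obtain ⟨w', hw', hw'q, hw'p⟩ := hUw (e i) ⟨q, inferInstance⟩ (hei ▸ hxU) hq
    haveI := hw'
    obtain ⟨x', hx'p, hx'q, hx'm, -⟩ := hpts i w' hw'p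
    haveI := hx'p
    refine ⟨x'.comap (Pi.evalRingHom C i), inferInstance, ?_, ⟨?_⟩⟩
    · rw [Ideal.comap_comap, show (Pi.evalRingHom C i).comp (algebraMap S (∀ j, C j)) = algebraMap S (C i) from rfl, hx'q]
      exact hw'q
    · rw [Ideal.under_def, Ideal.comap_comap]
      exact hx'm.over

end Groth.Agent.DevLib
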