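import Groth.Agent.DevLib.Basic

/-!
# Existence of dévissages as a property
-/

set_option autoImplicit false
set_option linter.style.haveILetI false
set_option backward.isDefEq.respectTransparency false
set_option backward.isDefEq.respectTransparency.types false
set_option maxHeartbeats 1000000

universe u

open TensorProduct

noncomputable section

namespace Groth.Agent.DevLib

/-- There is a dévissage after étale localisation. -/
def ExistsDev (R : Type u) [CommRing R] (p : Ideal R) [p.IsPrime] (S : Type u) [CommRing S] [Algebra R S]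
    (N : Type u) [AddCommGroup N] [Module S N] (q : Ideal S) [q.IsPrime] : Prop :=
  ∃ (R' S' : Type u) (_ : CommRing R') (_ : CommRing S') (_ : Algebra R R') (_ : Algebra S S') (_ : Algebra R' S')
    (_ : Algebra R S') (_ : IsScalarTower R R' S') (_ : IsScalarTower R S S')
    (p' : Ideal R') (q' : Ideal S') (_ : p'.IsPrime) (_ : q'.IsPrime),
    FlatCA.IsEtaleNhd R R' p p' ∧ FlatCA.IsEtaleNhd S S' q q' ∧ q'.LiesOver p' ∧
    ∀ (N' : Type u) [AddCommGroup N'] [Module S' N'] [Module S N'] [IsScalarTower S S' N']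
      (f : N →ₗ[S] N'), IsBaseChange S' f → Dev R' p' S' N' q'

/-- Etale neighbourhoods compose. -/
theorem isEtaleNhd_trans {A B C : Type u} [CommRing A] [CommRing B] [CommRing C] [Algebra A B] [Algebra B C] [Algebra A C]
    [IsScalarTower A B C] {a : Ideal A} {b : Ideal B} {c : Ideal C} [a.IsPrime] [b.IsPrime] [c.IsPrime]
    (h : FlatCA.IsEtaleNhd A B a b) (h' : FlatCA.IsEtaleNhd B C b c) : FlatCA.IsEtaleNhd A C a c := by
  obtain ⟨h1, h2, h3⟩ := h
  obtain ⟨h1', h2', h3'⟩ := h'
  haveI := h1
  haveI := h1'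
  haveI := h2
  haveI := h2'
  haveI : c.LiesOver a := Ideal.LiesOver.trans c b a
  exact ⟨Algebra.Etale.comp A B C, inferInstance, DevissLib.residue_bijective_of_frac a c
    ((DevissLib.fracMod_of_bijective a b h3).trans (DevissLib.fracMod_of_bijective b c h3'))⟩

/-- A localisation away from an element off the point is an etale neighbourhood. -/
theorem isEtaleNhd_away {A C : Type u} [CommRing A] [CommRing C] [Algebra A C] (g : A) [IsLocalization.Away g C]
    (a : Ideal A) [a.IsPrime] (hg : g ∉ a) (c : Ideal C) [c.IsPrime] [c.LiesOver a] : FlatCA.IsEtaleNhd A C a c := by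
  haveI : a.LiesOver a := ⟨(Ideal.comap_id a).symm⟩
  exact ⟨Algebra.Etale.of_isLocalizationAway g, inferInstance, DevissLib.residue_bijective_of_frac a c
    (DevissLib.FracMod.away g hg (fun b => ⟨1, b, a.one_notMem, by simp⟩))⟩

/-- Dévissages after a further localisation of an already localised situation. -/
theorem ExistsDev.of_nhd {R S R₁ S₁ : Type u} [CommRing R] [CommRing S] [CommRing R₁] [CommRing S₁] [Algebra R S]
    [Algebra R R₁] [Algebra S S₁] [Algebra R₁ S₁] [Algebra R S₁] [IsScalarTower R R₁ S₁] [IsScalarTower R S S₁]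
    {N : Type u} [AddCommGroup N] [Module S N] {p : Ideal R} [p.IsPrime] {q : Ideal S} [q.IsPrime]
    {p₁ : Ideal R₁} [p₁.IsPrime] {q₁ : Ideal S₁} [q₁.IsPrime]
    (hR : FlatCA.IsEtaleNhd R R₁ p p₁) (hS : FlatCA.IsEtaleNhd S S₁ q q₁)
    (h : ExistsDev R₁ p₁ S₁ (S₁ ⊗[S] N) q₁) : ExistsDev R p S N q := by
  obtain ⟨R', S', _, _, _, _, _, _, _, _, p', q', hp', hq', hR', hS', hqp, hDev⟩ := h
  haveI := hp'
  haveI := hq'
  letI : Algebra R R' := ((algebraMap R₁ R').comp (algebraMap R R₁)).toAlgebra
  haveI : IsScalarTower R R₁ R' := .of_algebraMap_eq fun _ => rfl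
  letI : Algebra S S' := ((algebraMap S₁ S').comp (algebraMap S S₁)).toAlgebra
  haveI : IsScalarTower S S₁ S' := .of_algebraMap_eq fun _ => rfl
  letI : Algebra R S' := ((algebraMap R' S').comp (algebraMap R R')).toAlgebra
  haveI : IsScalarTower R R' S' := .of_algebraMap_eq fun _ => rfl
  haveI : IsScalarTower R S S' := .of_algebraMap_eq fun r => by
    show algebraMap R' S' (algebraMap R₁ R' (algebraMap R R₁ r)) = algebraMap S₁ S' (algebraMap S S₁ (algebraMap R S r))
    rw [← IsScalarTower.algebraMap_apply R₁ R' S', IsScalarTower.algebraMap_apply R₁ S₁ S',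
      ← IsScalarTower.algebraMap_apply R R₁ S₁, ← IsScalarTower.algebraMap_apply R S S₁]
  refine ⟨R', S', inferInstance, inferInstance, inferInstance, inferInstance, inferInstance, inferInstance, inferInstance,
    inferInstance, p', q', hp', hq', isEtaleNhd_trans hR hR', isEtaleNhd_trans hS hS', hqp, ?_⟩
  intro N' _ _ _ _ f hf
  letI : Module S₁ N' := Module.compHom _ (algebraMap S₁ S')
  haveI : IsScalarTower S₁ S' N' := .of_algebraMap_smul fun _ _ => rfl
  haveI : IsScalarTower S S₁ N' := .of_algebraMap_smul fun r (m : N') => by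
    show algebraMap S₁ S' (algebraMap S S₁ r) • m = r • m
    rw [← IsScalarTower.algebraMap_apply S S₁ S', algebraMap_smul]
  let g := (TensorProduct.isBaseChange S N S₁).lift f
  refine hDev N' g (IsBaseChange.of_comp (TensorProduct.isBaseChange S N S₁) ?_)
  rwa [show (g.restrictScalars S) ∘ₗ TensorProduct.mk S S₁ N 1 = f from
    LinearMap.ext fun m => (TensorProduct.isBaseChange S N S₁).lift_eq f m]

end Groth.Agent.DevLib
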