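import Groth.Agent.DevLib.Free

/-!
# Free covers of the base change to the local ring of an étale neighbourhood
-/

set_option autoImplicit false
set_option linter.style.haveILetI false
set_option backward.isDefEq.respectTransparency false
set_option backward.isDefEq.respectTransparency.types false
set_option maxHeartbeats 2000000

universe u

open TensorProduct

noncomputable section

namespace Groth.Agent.DevLib

attribute [local instance] Algebra.TensorProduct.rightAlgebra

/-- Freeness after restriction of scalars. -/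
theorem free_restrictScalars {A C M : Type u} [CommRing A] [CommRing C] [Algebra A C] [AddCommGroup M] [Module C M]
    [Module A M] [IsScalarTower A C M] [Module.Free A M] : Module.Free A (RestrictScalars A C M) := by
  let e : M ≃ₗ[A] RestrictScalars A C M :=
    { (RestrictScalars.addEquiv A C M).symm with
      map_smul' := fun r x => by
        apply (RestrictScalars.addEquiv A C M).injective
        simp }
  exact Module.Free.of_equiv e

/-- Trivial residue extensions survive base change. -/
theorem fracMod_pushout {A B S C : Type u} [CommRing A] [CommRing B] [CommRing S] [CommRing C] [Algebra A B] [Algebra A S]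
    [Algebra B C] [Algebra S C] [Algebra A C] [IsScalarTower A B C] [IsScalarTower A S C] [Algebra.IsPushout A B S C]
    {P : Ideal A} [P.IsPrime] {Q : Ideal B} [Q.LiesOver P] (h : DevissLib.FracMod P Q) (Pc : Ideal S) [Pc.IsPrime]
    [Pc.LiesOver P] (x : Ideal C) [x.LiesOver Q] : DevissLib.FracMod Pc x := by
  let e : B ⊗[A] S ≃ₐ[B] C := Algebra.IsPushout.equiv A B S C
  let Y : Ideal (B ⊗[A] S) := x.comap e.toRingEquiv.toRingHom
  haveI : Y.LiesOver Q := ⟨by
    show Q = (x.comap e.toRingEquiv.toRingHom).comap (algebraMap B _)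
    rw [Ideal.comap_comap, show e.toRingEquiv.toRingHom.comp (algebraMap B (B ⊗[A] S)) = algebraMap B C from
      RingHom.ext fun b => e.commutes b]
    exact x.over_def Q⟩
  intro z
  obtain ⟨c, a, hc, hm⟩ := h.tensor Y Pc (e.symm z)
  refine ⟨c, a, hc, ?_⟩
  have h1 : e (algebraMap S _ c * e.symm z - algebraMap S _ a) ∈ x := hm
  rwa [map_sub, map_mul, AlgEquiv.apply_symm_apply,
    show e (algebraMap S (B ⊗[A] S) c) = algebraMap S C c from by
      show e ((1 : B) ⊗ₜ[A] c) = _
      simp [e, Algebra.IsPushout.equiv_tmul],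
    show e (algebraMap S (B ⊗[A] S) a) = algebraMap S C a from by
      show e ((1 : B) ⊗ₜ[A] a) = _
      simp [e, Algebra.IsPushout.equiv_tmul]] at h1

/-- Fractions suffice in the local ring at a point with trivial residue extension. -/
theorem fracMod_atPrime {R₁ R' : Type u} [CommRing R₁] [CommRing R'] [Algebra R₁ R'] {p₁ : Ideal R₁} [p₁.IsPrime]
    {p' : Ideal R'} [p'.IsPrime] (h : FlatCA.IsEtaleNhd R₁ R' p₁ p') :
    DevissLib.FracMod p₁ (IsLocalRing.maximalIdeal (Localization.AtPrime p')) := by
  obtain ⟨-, hp, hres⟩ := h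
  haveI := hp
  refine (DevissLib.fracMod_of_bijective p₁ p' hres).trans fun z => ?_
  obtain ⟨a, ⟨s, hs⟩, rfl⟩ := IsLocalization.exists_mk'_eq p'.primeCompl z
  refine ⟨s, a, hs, ?_⟩
  rw [IsLocalization.mk'_spec'_mk, sub_self]
  exact zero_mem _

/-- A free chart, pulled back to the local ring of an étale neighbourhood of its base point. -/
theorem exists_local {R S R₁ S₁ R' : Type u} [CommRing R] [CommRing S] [CommRing R₁] [CommRing S₁] [CommRing R']
    [Algebra R S] [Algebra R R₁] [Algebra S S₁] [Algebra R₁ S₁] [Algebra R S₁] [IsScalarTower R R₁ S₁] [IsScalarTower R S S₁]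
    [Algebra.Etale R R₁] [Algebra.Etale S S₁]
    [Algebra R₁ R'] [Algebra R R'] [IsScalarTower R R₁ R']
    (N : Type u) [AddCommGroup N] [Module S N] {p₁ : Ideal R₁} [p₁.IsPrime] {p' : Ideal R'} [p'.IsPrime]
    (hR' : FlatCA.IsEtaleNhd R₁ R' p₁ p')
    (hfree : ∀ (C : Type u) [CommRing C] [Algebra (Localization.AtPrime p') C] [Algebra S₁ C] [Algebra R₁ C]
      [IsScalarTower R₁ (Localization.AtPrime p') C] [IsScalarTower R₁ S₁ C]
      [Algebra.IsPushout R₁ (Localization.AtPrime p') S₁ C] [Algebra S C] [IsScalarTower S S₁ C]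
      (N' : Type u) [AddCommGroup N'] [Module C N'] [Module S N'] [IsScalarTower S C N']
      [Module (Localization.AtPrime p') N'] [IsScalarTower (Localization.AtPrime p') C N']
      (f : N →ₗ[S] N'), IsBaseChange C f →
      Module.Free (Localization.AtPrime p') N' ∧ Module.FinitePresentation C N')
    (SA NA : Type u) [CommRing SA] [Algebra R SA] [Algebra S SA] [Algebra (Localization.AtPrime p') SA]
    [IsScalarTower R S SA] [IsScalarTower R (Localization.AtPrime p') SA]
    [Algebra.IsPushout R S (Localization.AtPrime p') SA]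
    [AddCommGroup NA] [Module SA NA] [Module S NA] [IsScalarTower S SA NA]
    (f : N →ₗ[S] NA) (hf : IsBaseChange SA f) :
    ∃ (C : Type u) (_ : CommRing C) (_ : Algebra SA C) (_ : Algebra (Localization.AtPrime p') C)
      (_ : IsScalarTower (Localization.AtPrime p') SA C) (_ : Algebra S C) (_ : IsScalarTower S SA C),
      Algebra.Etale SA C ∧ (Algebra.FinitePresentation R S → Algebra.FinitePresentation (Localization.AtPrime p') C) ∧
      Module.FinitePresentation C (C ⊗[SA] NA) ∧
      Module.Free (Localization.AtPrime p') (C ⊗[SA] NA) ∧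
      ∀ (w : Ideal S₁) [w.IsPrime], w.LiesOver p₁ → ∃ (x' : Ideal C) (_ : x'.IsPrime),
        x'.comap (algebraMap S C) = w.comap (algebraMap S S₁) ∧
        x'.LiesOver (IsLocalRing.maximalIdeal (Localization.AtPrime p')) ∧
        ∀ (q : Ideal S) [q.IsPrime], FlatCA.IsEtaleNhd S S₁ q w → ∃ hx : x'.LiesOver q,
          Function.Bijective (Ideal.ResidueField.mapₐ q x' (Algebra.ofId S C) hx.over) := by
  let A := Localization.AtPrime p'
  let D := R₁ ⊗[R] S
  letI : Algebra D S₁ := (Algebra.TensorProduct.lift (IsScalarTower.toAlgHom R R₁ S₁) (IsScalarTower.toAlgHom R S S₁)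
    fun _ _ => Commute.all _ _).toRingHom.toAlgebra
  haveI : IsScalarTower R₁ D S₁ := .of_algebraMap_eq fun r => by simp [RingHom.algebraMap_toAlgebra, D]
  haveI : IsScalarTower S D S₁ := .of_algebraMap_eq fun s => by simp [RingHom.algebraMap_toAlgebra, D]
  haveI : Algebra.Etale S D := Algebra.Etale.of_equiv (Algebra.TensorProduct.commRight R S R₁)
  haveI : Algebra.Etale D S₁ := Algebra.Etale.of_restrictScalars S D S₁
  haveI : IsScalarTower R R₁ A := IsScalarTower.of_algebraMap_eq (R := R) (S := R₁) (A := A) fun r => by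
    rw [IsScalarTower.algebraMap_apply R R' A, IsScalarTower.algebraMap_apply R R₁ R',
      ← IsScalarTower.algebraMap_apply R₁ R' A]
  letI : Algebra R₁ SA := ((algebraMap A SA).comp (algebraMap R₁ A)).toAlgebra
  haveI : IsScalarTower R₁ A SA := .of_algebraMap_eq' rfl
  haveI : IsScalarTower R R₁ SA := IsScalarTower.of_algebraMap_eq (R := R) (S := R₁) (A := SA) fun r => by
    rw [IsScalarTower.algebraMap_apply R₁ A SA, ← IsScalarTower.algebraMap_apply R R₁ A, ← IsScalarTower.algebraMap_apply R A SA]
  letI : Algebra D SA := (Algebra.TensorProduct.lift (IsScalarTower.toAlgHom R R₁ SA) (IsScalarTower.toAlgHom R S SA)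
    fun _ _ => Commute.all _ _).toRingHom.toAlgebra
  haveI : IsScalarTower R₁ D SA := .of_algebraMap_eq fun r => by simp [RingHom.algebraMap_toAlgebra, D]
  haveI : IsScalarTower S D SA := .of_algebraMap_eq fun s => by simp [RingHom.algebraMap_toAlgebra, D]
  haveI : IsScalarTower R D SA := IsScalarTower.of_algebraMap_eq (R := R) (S := D) (A := SA) fun r => by
    rw [IsScalarTower.algebraMap_apply R R₁ D, ← IsScalarTower.algebraMap_apply R₁ D SA, ← IsScalarTower.algebraMap_apply R R₁ SA]
  haveI : Algebra.IsPushout R A S SA := Algebra.IsPushout.symm inferInstance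
  haveI : Algebra.IsPushout R₁ A D SA :=
    (Algebra.IsPushout.comp_iff (R := R) (S := R₁) (R' := S) (S' := D) (T := A) (T' := SA)).1 inferInstance
  haveI : Algebra.IsPushout R₁ D A SA := Algebra.IsPushout.symm inferInstance
  let C := SA ⊗[D] S₁
  haveI : IsScalarTower R₁ SA C := inferInstance
  haveI : IsScalarTower R₁ A C := IsScalarTower.of_algebraMap_eq (R := R₁) (S := A) (A := C) fun r => by
    rw [IsScalarTower.algebraMap_apply R₁ SA C, IsScalarTower.algebraMap_apply R₁ A SA, ← IsScalarTower.algebraMap_apply A SA C]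
  haveI : IsScalarTower R₁ S₁ C := IsScalarTower.of_algebraMap_eq (R := R₁) (S := S₁) (A := C) fun r => by
    rw [IsScalarTower.algebraMap_apply R₁ SA C, IsScalarTower.algebraMap_apply R₁ D SA, ← IsScalarTower.algebraMap_apply D SA C,
      IsScalarTower.algebraMap_apply R₁ D S₁, ← IsScalarTower.algebraMap_apply D S₁ C]
  haveI : IsScalarTower R₁ D C := IsScalarTower.of_algebraMap_eq (R := R₁) (S := D) (A := C) fun r => by
    rw [IsScalarTower.algebraMap_apply R₁ SA C, IsScalarTower.algebraMap_apply R₁ D SA, ← IsScalarTower.algebraMap_apply D SA C]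
  haveI : Algebra.IsPushout D S₁ SA C := Algebra.IsPushout.symm inferInstance
  haveI : Algebra.IsPushout R₁ S₁ A C :=
    (Algebra.IsPushout.comp_iff (R := R₁) (S := D) (R' := A) (S' := SA) (T := S₁) (T' := C)).2 inferInstance
  haveI : Algebra.IsPushout R₁ A S₁ C := Algebra.IsPushout.symm inferInstance
  haveI : IsScalarTower S SA C := inferInstance
  haveI : IsScalarTower S S₁ C := IsScalarTower.of_algebraMap_eq (R := S) (S := S₁) (A := C) fun r => by
    rw [IsScalarTower.algebraMap_apply S SA C, IsScalarTower.algebraMap_apply S D SA, ← IsScalarTower.algebraMap_apply D SA C,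
      IsScalarTower.algebraMap_apply S D S₁, ← IsScalarTower.algebraMap_apply D S₁ C]
  haveI : Algebra.Etale SA C := inferInstance
  haveI : IsScalarTower S C (C ⊗[SA] NA) := .of_algebraMap_smul fun b m => by
    induction m using TensorProduct.induction_on with
    | zero => simp
    | add u v hu hv => simp only [smul_add, hu, hv]
    | tmul c m => rw [TensorProduct.smul_tmul', TensorProduct.smul_tmul', algebraMap_smul]
  obtain ⟨hfr, hfp⟩ := hfree C (C ⊗[SA] NA) _ (hf.comp (TensorProduct.isBaseChange SA NA C))
  refine ⟨C, inferInstance, inferInstance, inferInstance, inferInstance, inferInstance, inferInstance, inferInstance,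
    fun hS => ?_, hfp, hfr, ?_⟩
  · haveI := hS
    haveI : Algebra.FinitePresentation R S₁ := Algebra.FinitePresentation.trans R S S₁
    haveI : Algebra.FinitePresentation R₁ S₁ := Algebra.FinitePresentation.of_restrict_scalars_finitePresentation R R₁ S₁
    exact Algebra.FinitePresentation.equiv (Algebra.IsPushout.equiv R₁ A S₁ C)
  · intro w _ hwp
    haveI := hwp
    obtain ⟨hR₁R', hp'p₁, -⟩ := id hR'
    haveI := hp'p₁
    let m := IsLocalRing.maximalIdeal A
    haveI : m.LiesOver p₁ := Ideal.LiesOver.trans m p' p₁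
    have hfrac := fracMod_atPrime hR'
    have hb := DevissLib.residue_bijective_of_frac p₁ m hfrac
    let Yf := (Ideal.fiberIsoOfBijectiveResidueField (S := S₁) hb).symm ⟨w, inferInstance, inferInstance⟩
    let eC : A ⊗[R₁] S₁ ≃ₐ[A] C := Algebra.IsPushout.equiv R₁ A S₁ C
    let x' : Ideal C := Yf.1.comap eC.symm.toRingEquiv.toRingHom
    haveI : Yf.1.IsPrime := Yf.2.1
    haveI : Yf.1.LiesOver m := Yf.2.2
    haveI : x'.IsPrime := inferInstance
    haveI : x'.LiesOver m := ⟨by
      refine (Yf.1.over_def m).trans ?_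
      show Yf.1.comap (algebraMap A _) = (Yf.1.comap eC.symm.toRingEquiv.toRingHom).comap (algebraMap A C)
      rw [Ideal.comap_comap]
      congr 1
      exact RingHom.ext fun b => (eC.symm.commutes b).symm⟩
    haveI hxw : x'.LiesOver w := ⟨by
      refine (Ideal.comap_fiberIsoOfBijectiveResidueField_symm hb
        (⟨w, inferInstance, inferInstance⟩ : p₁.primesOver S₁)).symm.trans ?_
      show Yf.1.comap _ = (Yf.1.comap eC.symm.toRingEquiv.toRingHom).comap (algebraMap S₁ C)
      rw [Ideal.comap_comap]
      congr 1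
      refine RingHom.ext fun s => ?_
      show (1 : A) ⊗ₜ[R₁] s = eC.symm (algebraMap S₁ C s)
      rw [eq_comm, AlgEquiv.symm_apply_eq]
      simp [eC, Algebra.IsPushout.equiv_tmul]⟩
    refine ⟨x', inferInstance, ?_, inferInstance, ?_⟩
    · rw [IsScalarTower.algebraMap_eq S S₁ C, ← Ideal.comap_comap]
      exact congrArg _ (x'.over_def w).symm
    · intro q _ hnhd
      obtain ⟨-, hwq, hres⟩ := hnhd
      haveI := hwq
      haveI hx : x'.LiesOver q := Ideal.LiesOver.trans x' w q
      exact ⟨hx, DevissLib.residue_bijective_of_frac q x'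
        ((DevissLib.fracMod_of_bijective q w hres).trans (fracMod_pushout hfrac w x'))⟩

end Groth.Agent.DevLib
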