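import Groth.Agent.DevLib.Proj
import Groth.Agent.S1202

/-!
# Projective étale covers of the whole fibre
-/

set_option autoImplicit false
set_option linter.style.haveILetI false
set_option backward.isDefEq.respectTransparency false
set_option backward.isDefEq.respectTransparency.types false
set_option maxHeartbeats 2000000

universe u

open TensorProduct

noncomputable section

namespace Groth.Agent.DevLib

attribute [local instance] Algebra.TensorProduct.rightAlgebra

/-- Projectivity of a module regarded through restriction of scalars. -/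
theorem projective_restrictScalars {A C M : Type u} [CommRing A] [CommRing C] [Algebra A C] [AddCommGroup M] [Module C M]
    [Module A M] [IsScalarTower A C M] : Module.Projective A (RestrictScalars A C M) ↔ Module.Projective A M := by
  let e : M ≃ₗ[A] RestrictScalars A C M :=
    { (RestrictScalars.addEquiv A C M).symm with
      map_smul' := fun r x => by
        apply (RestrictScalars.addEquiv A C M).injective
        simp }
  exact ⟨fun h => Module.Projective.of_equiv e.symm, fun h => Module.Projective.of_equiv e⟩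

/-- Projectivity of the pullback of a chart to a further neighbourhood of the base. -/
theorem projective_pullback {R₁ R' S S₁ : Type u} [CommRing R₁] [CommRing R'] [CommRing S] [CommRing S₁] [Algebra R₁ R']
    [Algebra R₁ S₁] [Algebra S S₁] [Algebra S (R' ⊗[R₁] S₁)] [IsScalarTower S S₁ (R' ⊗[R₁] S₁)]
    (N : Type u) [AddCommGroup N] [Module S N]
    (h : Module.Projective R₁ (RestrictScalars R₁ S₁ (S₁ ⊗[S] N))) : Module.Projective R' ((R' ⊗[R₁] S₁) ⊗[S] N) := by
  haveI : Module.Projective R₁ (S₁ ⊗[S] N) := (projective_restrictScalars (C := S₁)).1 h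
  let e₁ : (R' ⊗[R₁] S₁) ⊗[S₁] (S₁ ⊗[S] N) ≃ₗ[R'] R' ⊗[R₁] (S₁ ⊗[S] N) :=
    Algebra.IsPushout.cancelBaseChange R₁ R' S₁ (R' ⊗[R₁] S₁) (S₁ ⊗[S] N)
  let e₂ := (AlgebraTensorModule.cancelBaseChange S S₁ (R' ⊗[R₁] S₁) (R' ⊗[R₁] S₁) N).restrictScalars R'
  exact Module.Projective.of_equiv (e₁.symm.trans e₂)

/-- Tensoring a finite product. -/
theorem projective_pi {ι : Type} [Fintype ι] [DecidableEq ι] {A SA NA : Type u} [CommRing A] [CommRing SA]
    [AddCommGroup NA] [Module SA NA] (C : ι → Type u) [∀ i, CommRing (C i)] [∀ i, Algebra SA (C i)]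
    [∀ i, Algebra A (C i)] (h : ∀ i, Module.Projective A (C i ⊗[SA] NA)) :
    Module.Projective A ((∀ i, C i) ⊗[SA] NA) := by
  let e₀ : (∀ i, C i) ⊗[SA] NA ≃ₗ[SA] ∀ i, C i ⊗[SA] NA := TensorProduct.piLeft (R := SA) (N := NA) (M := C)
  have hlin : ∀ (c : ∀ i, C i) (x : (∀ i, C i) ⊗[SA] NA), e₀ (c • x) = c • e₀ x := fun c x => by
    induction x using TensorProduct.induction_on with
    | zero => simp
    | add u v hu hv => simp only [smul_add, map_add, hu, hv]
    | tmul v n =>
      rw [TensorProduct.smul_tmul']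
      funext i
      simp [e₀]
      exact (TensorProduct.smul_tmul' (c i) (v i) n).symm
  let eA : (∀ i, C i) ⊗[SA] NA ≃ₗ[A] ∀ i, C i ⊗[SA] NA :=
    { e₀ with
      map_smul' := fun a x => by
        show e₀ (a • x) = a • e₀ x
        rw [← algebraMap_smul (∀ i, C i) a x, hlin]
        funext i
        show algebraMap A (C i) a • e₀ x i = a • e₀ x i
        exact algebraMap_smul (C i) a (e₀ x i) }
  haveI : Module.Projective A (∀ i, C i ⊗[SA] NA) :=
    Module.Projective.of_equiv (DFinsupp.linearEquivFunOnFintype (R := A) (M := fun i => C i ⊗[SA] NA))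
  exact Module.Projective.of_equiv eA.symm

/-- Etale covers of a fibre of flat points on which the module becomes projective. -/
theorem exists_projective_cover {R S : Type u} [CommRing R] [CommRing S] [Algebra R S] [Algebra.FinitePresentation R S]
    (N : Type u) [AddCommGroup N] [Module S N] [Module R N] [IsScalarTower R S N] [Module.FinitePresentation S N]
    (p : Ideal R) [p.IsPrime] (hflat : ∀ (q : Ideal S) [q.IsPrime], q.LiesOver p → FlatCA.FlatAt R q N) :
    ∃ (R' S' : Type u) (_ : CommRing R') (_ : CommRing S') (_ : Algebra R R') (_ : Algebra S S') (_ : Algebra R' S')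
      (_ : Algebra R S') (_ : IsScalarTower R R' S') (_ : IsScalarTower R S S')
      (p' : Ideal R') (_ : p'.IsPrime),
      FlatCA.IsEtaleNhd R R' p p' ∧ Algebra.Etale S S' ∧
      (∀ (q : Ideal S) [q.IsPrime], q.LiesOver p →
        ∃ q' : Ideal S', q'.IsPrime ∧ q'.comap (algebraMap S S') = q ∧ q'.LiesOver p') ∧
      Module.Projective R' (S' ⊗[S] N) := by
  classical
  let F : Set (PrimeSpectrum S) := PrimeSpectrum.comap (algebraMap R S) ⁻¹' {⟨p, inferInstance⟩}
  have hF : IsCompact F := by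
    rw [show F = Set.range (fun x => ((PrimeSpectrum.preimageEquivFiber R S ⟨p, inferInstance⟩).symm x).1) by
      ext Q
      refine ⟨fun hQ => ⟨PrimeSpectrum.preimageEquivFiber R S ⟨p, inferInstance⟩ ⟨Q, hQ⟩, by simp⟩, ?_⟩
      rintro ⟨x, rfl⟩
      exact ((PrimeSpectrum.preimageEquivFiber R S ⟨p, inferInstance⟩).symm x).2]
    exact isCompact_range (continuous_subtype_val.comp
      (PrimeSpectrum.preimageHomeomorphFiber R S ⟨p, inferInstance⟩).symm.continuous)
  have hF' : ∀ Q : F, Q.1.asIdeal.LiesOver p := fun Q => ⟨(congrArg PrimeSpectrum.asIdeal Q.2).symm⟩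
  have hchart := fun Q : F => by
    haveI := hF' Q
    exact S1202.result N p Q.1.asIdeal (hflat _ (hF' Q))
  choose R₁ S₁ cR cS aAR aBS aRS aAS tARS tABS p₁ w hp₁ hw hnhd hnhdS hwp hproj using hchart
  have hU : ∀ Q : F, ∃ U : Set (PrimeSpectrum S), IsOpen U ∧ Q.1 ∈ U ∧
      ∀ Q' ∈ U, Q'.asIdeal.LiesOver p →
        ∃ w' : Ideal (S₁ Q), w'.IsPrime ∧ w'.comap (algebraMap S (S₁ Q)) = Q'.asIdeal ∧ w'.LiesOver (p₁ Q) := by
    intro Q
    haveI := hp₁ Q
    haveI := hw Q
    haveI := hwp Q
    obtain ⟨hRe, hPp, -⟩ := hnhd Q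
    obtain ⟨hSe, hwq, -⟩ := hnhdS Q
    haveI := hRe
    haveI := hPp
    haveI := hSe
    obtain ⟨U, hUo, hUw, hU⟩ := exists_open_chart (B := S) p (p₁ Q) (w Q)
    refine ⟨U, hUo, ?_, hU⟩
    rwa [show Q.1 = PrimeSpectrum.comap (algebraMap S (S₁ Q)) ⟨w Q, inferInstance⟩ from
      PrimeSpectrum.ext hwq.over]
  choose U hUo hUQ hUw using hU
  obtain ⟨t, ht⟩ := hF.elim_finite_subcover U hUo fun Q hQ => Set.mem_iUnion.2 ⟨⟨Q, hQ⟩, hUQ _⟩
  let e : Fin t.card → F := fun i => (t.equivFin.symm i).1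
  haveI : ∀ i, (p₁ (e i)).IsPrime := fun i => hp₁ (e i)
  obtain ⟨R', _, _, p', hp', hR', hh⟩ := exists_common_nhd p t.card (fun i => R₁ (e i)) (fun i => p₁ (e i))
    fun i => hnhd (e i)
  obtain ⟨hR'e, hp'p, hres'⟩ := id hR'
  haveI := hp'
  haveI := hR'e
  haveI := hp'p
  choose h hh using hh
  letI : ∀ i, Algebra (R₁ (e i)) R' := fun i => (h i).toRingHom.toAlgebra
  haveI : ∀ i, IsScalarTower R (R₁ (e i)) R' := fun i => .of_algebraMap_eq fun a => ((h i).commutes a).symm
  haveI : ∀ i, (p'.LiesOver (p₁ (e i))) := fun i => ⟨(hh i).symm⟩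
  haveI : ∀ i, Algebra.Etale R (R₁ (e i)) := fun i => (hnhd (e i)).1
  haveI : ∀ i, (p₁ (e i)).LiesOver p := fun i => (hnhd (e i)).2.1
  haveI : ∀ i, Algebra.Etale (R₁ (e i)) R' := fun i => Algebra.Etale.of_restrictScalars R (R₁ (e i)) R'
  have hb : ∀ i, Function.Bijective
      (Ideal.ResidueField.mapₐ (p₁ (e i)) p' (Algebra.ofId (R₁ (e i)) R') (p'.over_def (p₁ (e i)))) := fun i =>
    DevissLib.residue_bijective_of_frac _ _ fun z => by
      obtain ⟨c, b, hc, hcb⟩ := DevissLib.fracMod_of_bijective p p' hres' z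
      refine ⟨algebraMap R (R₁ (e i)) c, algebraMap R (R₁ (e i)) b, fun hm => hc (((p₁ (e i)).over_def p).ge hm), ?_⟩
      rwa [← IsScalarTower.algebraMap_apply, ← IsScalarTower.algebraMap_apply]
  let C : Fin t.card → Type u := fun i => R' ⊗[R₁ (e i)] S₁ (e i)
  letI : ∀ i, Algebra S (C i) := fun i =>
    ((algebraMap (S₁ (e i)) (C i)).comp (algebraMap S (S₁ (e i)))).toAlgebra
  haveI : ∀ i, IsScalarTower S (S₁ (e i)) (C i) := fun i => .of_algebraMap_eq fun _ => rfl
  haveI : ∀ i, IsScalarTower R S (C i) := fun i => .of_algebraMap_eq fun a => by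
    rw [IsScalarTower.algebraMap_apply S (S₁ (e i)) (C i), ← IsScalarTower.algebraMap_apply R S (S₁ (e i)),
      IsScalarTower.algebraMap_apply R (R₁ (e i)) (S₁ (e i)), ← IsScalarTower.algebraMap_apply (R₁ (e i)) (S₁ (e i)) (C i),
      IsScalarTower.algebraMap_apply R R' (C i), IsScalarTower.algebraMap_apply (R₁ (e i)) R' (C i),
      ← IsScalarTower.algebraMap_apply R (R₁ (e i)) R']
  haveI : ∀ i, Algebra.Etale S (C i) := fun i => by
    haveI := (hnhdS (e i)).1
    haveI : Algebra.Etale (S₁ (e i)) (C i) :=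
      Algebra.Etale.of_equiv (Algebra.TensorProduct.commRight (R₁ (e i)) (S₁ (e i)) R')
    exact Algebra.Etale.comp S (S₁ (e i)) (C i)
  have hP : Module.Projective R' ((∀ i, C i) ⊗[S] N) :=
    projective_pi C fun i => projective_pullback N (hproj (e i))
  refine ⟨R', ∀ i, C i, inferInstance, inferInstance, inferInstance, inferInstance, inferInstance, inferInstance,
    inferInstance, inferInstance, p', hp', hR', inferInstance, ?_, hP⟩
  intro q _ hq
  obtain ⟨x, hx⟩ := Set.mem_iUnion.1 (ht (show (⟨q, inferInstance⟩ : PrimeSpectrum S) ∈ F from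
    PrimeSpectrum.ext hq.over.symm))
  obtain ⟨hxt, hxU⟩ := Set.mem_iUnion.1 hx
  let i := t.equivFin ⟨x, hxt⟩
  have hei : e i = x := by simp [e, i]
  obtain ⟨w', hw', hw'q, hw'p⟩ := hUw (e i) ⟨q, inferInstance⟩ (hei ▸ hxU) hq
  haveI := hw'
  haveI := hw'p
  let Yf := (Ideal.fiberIsoOfBijectiveResidueField (S := S₁ (e i)) (hb i)).symm ⟨w', inferInstance, inferInstance⟩
  haveI : Yf.1.IsPrime := Yf.2.1
  refine ⟨Yf.1.comap (Pi.evalRingHom C i), inferInstance, ?_, ⟨?_⟩⟩
  · rw [Ideal.comap_comap, show (Pi.evalRingHom C i).comp (algebraMap S (∀ j, C j)) = algebraMap S (C i) from rfl,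
      IsScalarTower.algebraMap_eq S (S₁ (e i)) (C i), ← Ideal.comap_comap]
    refine Eq.trans (congrArg _ ?_) hw'q
    exact Ideal.comap_fiberIsoOfBijectiveResidueField_symm (hb i) _
  · rw [Ideal.under_def, Ideal.comap_comap]
    exact Yf.2.2.over

end Groth.Agent.DevLib
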