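import Groth.Agent.DevLib.FirstStep
import Groth.Agent.DimFormulaLib.Chart
import Groth.Agent.AVLib.GeomInt
import Groth.Agent.S0446
import Groth.Agent.MatchLib.Points
import Groth.Prelude.Def_Hens2

/-!
# Local structure of a morphism locally of finite type
-/

set_option autoImplicit false
set_option linter.style.haveILetI false
set_option backward.isDefEq.respectTransparency false
set_option backward.isDefEq.respectTransparency.types false
set_option maxHeartbeats 1000000

universe u

open CategoryTheory CategoryTheory.Limits AlgebraicGeometry TensorProduct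

noncomputable section

namespace Groth.Agent.DevLib

attribute [local instance] Algebra.TensorProduct.rightAlgebra

theorem fiberIdeal_eq {A B : Type u} [CommRing A] [CommRing B] [Algebra A B] (p : Ideal A) [p.IsPrime]
    (Q : Ideal (p.Fiber B)) (q : Ideal B)
    (h : Q.comap (Algebra.TensorProduct.includeRight : B →ₐ[A] p.Fiber B).toRingHom = q) :
    Q = FlatCA.fiberIdeal p q := by
  refine le_antisymm (fun z hz => ?_) (Ideal.map_le_iff_le_comap.2 h.ge)
  obtain ⟨r, hr, s, hs⟩ := Ideal.Fiber.exists_smul_eq_one_tmul _ z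
  have hu : IsUnit (algebraMap A (p.Fiber B) r) := by
    rw [IsScalarTower.algebraMap_apply A p.ResidueField (p.Fiber B)]
    exact (isUnit_iff_ne_zero.2 fun h0 => hr (Ideal.algebraMap_residueField_eq_zero.1 h0)).map _
  have hsq : s ∈ q := h.le (show _ ∈ Q by
    show (1 : p.ResidueField) ⊗ₜ[A] s ∈ Q
    rw [← hs, Algebra.smul_def]
    exact Ideal.mul_mem_left _ _ hz)
  refine ((Submodule.Quotient.mk_eq_zero (FlatCA.fiberIdeal p q)).1 ?_)
  have hm : algebraMap A (p.Fiber B) r * z ∈ FlatCA.fiberIdeal p q := by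
    rw [← Algebra.smul_def, hs]
    exact Ideal.mem_map_of_mem _ hsq
  exact (Submodule.Quotient.mk_eq_zero _).2 ((Ideal.unit_mul_mem_iff_mem _ hu).1 hm)

theorem support_fiberMod_self {A B : Type u} [CommRing A] [CommRing B] [Algebra A B] (p : Ideal A) [p.IsPrime] :
    Module.support (p.Fiber B) (FlatCA.fiberMod p B B) = Set.univ := by
  have e : (p.Fiber B ⊗[B] B) ≃ₗ[p.Fiber B] p.Fiber B := AlgebraTensorModule.rid B (p.Fiber B) (p.Fiber B)
  refine (e.support_eq).trans (Set.eq_univ_of_forall fun x => ?_)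
  exact (Module.mem_support_iff_exists_annihilator).2 ⟨1, fun a ha => by
    have : a = 0 := by simpa using (Submodule.mem_annihilator_span_singleton (1 : p.Fiber B) a).1 ha
    rw [this]; exact zero_mem _⟩

theorem localDim_of_eq_univ {T : Type u} [TopologicalSpace T] [QuasiSober T] [T0Space T] {U : Set T}
    (hU : U = Set.univ) (x : T) (hx : x ∈ U) : FlatMor.localDim U ⟨x, hx⟩ = FlatMor.localDim T x := by
  have hope : IsOpen U := hU ▸ isOpen_univ
  haveI : QuasiSober U := hope.isOpenEmbedding_subtypeVal.quasiSober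
  exact FibreDimEt.localDim_eq_of_isGenLift (FibreDimEt.isGenLift_of_isOpenEmbedding hope.isOpenEmbedding_subtypeVal)
    hope.isOpenMap_subtype_val ⟨x, hx⟩

theorem residueFieldMap_bijective {A B : Type u} [CommRing A] [CommRing B] [Algebra A B] {P : Ideal A} [P.IsPrime]
    (Q : PrimeSpectrum B) (h : FlatCA.IsEtaleNhd A B P Q.asIdeal) :
    Function.Bijective ((Spec.map (CommRingCat.ofHom (algebraMap A B))).residueFieldMap Q) := by
  obtain ⟨-, hP, hres⟩ := h
  haveI := hP
  exact ⟨RingHom.injective _, S0446.residueFieldMap_surjective P Q hres⟩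

/-- A morphism locally of finite type becomes, etale locally, finite over a smooth one with geometrically
integral fibres. -/
theorem exists_local_structure {X S : Scheme.{u}} (f : X ⟶ S) [LocallyOfFiniteType f] (x : X) (n : ℕ)
    (hn : FlatMor.fibreDimAt f x = n) :
    ∃ (S' Y' X' : Scheme.{u}) (e : S' ⟶ S) (h : Y' ⟶ S') (π : X' ⟶ Y') (g : X' ⟶ X) (s' : S') (x' : X'),
      IsAffine S' ∧ IsAffine Y' ∧ IsAffine X' ∧ Hens2.IsEtaleNbhd e s' (f x) ∧ Hens2.IsEtaleNbhd g x' x ∧
      g ≫ f = π ≫ h ≫ e ∧ SmoothOfRelativeDimension n h ∧ GeometricallyIntegral h ∧ IsFinite π ∧ h (π x') = s' ∧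
      ∀ z : X', π z = π x' → z = x' := by
  obtain ⟨c⟩ := DimFormulaLib.exists_chart f x
  let R := c.A
  let B := c.B
  let p : Ideal R := c.p.asIdeal
  let q : Ideal B := c.q.asIdeal
  haveI : q.LiesOver p := ⟨rfl⟩
  have hsupp := support_fiberMod_self (B := B) p
  have hxs : c.Q ∈ Module.support (p.Fiber B) (FlatCA.fiberMod p B B) := hsupp ▸ Set.mem_univ _
  have hdim : FlatMor.localDim (Module.support (p.Fiber B) (FlatCA.fiberMod p B B)) ⟨c.Q, hxs⟩ = n := by
    rw [localDim_of_eq_univ hsupp c.Q hxs, ← hn]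
    exact c.fibreDimAt_eq.symm
  obtain ⟨R', S', _, _, _, _, _, _, _, _, p', q', hp', hq', hR', hS', hq'p', E, hEd, -⟩ :=
    exists_first_step (S := B) B p q n c.Q (fiberIdeal_eq p c.Q.asIdeal q c.comap_Q) hxs hdim
  haveI := hp'
  haveI := hq'
  haveI := hq'p'
  obtain ⟨hR'e, hp'p, -⟩ := id hR'
  obtain ⟨hS'e, hq'q, -⟩ := id hS'
  haveI := hR'e
  haveI := hS'e
  -- the closed subscheme carrying `S' ⊗ B` is everything
  have hinj : Function.Injective (algebraMap S' E.A) := (injective_iff_map_eq_zero _).2 fun s hs => by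
    have h1 : s • E.isoN ((1 : S') ⊗ₜ[B] (1 : B)) = 0 := by rw [← algebraMap_smul E.A s, hs, zero_smul]
    rw [← map_smul, map_eq_zero_iff _ E.isoN.injective, TensorProduct.smul_tmul'] at h1
    simpa using congrArg (TensorProduct.rid B S') h1
  let eA : CommRingCat.of S' ⟶ CommRingCat.of E.A := CommRingCat.ofHom (algebraMap S' E.A)
  haveI : IsIso eA := (ConcreteCategory.isIso_iff_bijective eA).2 ⟨hinj, E.surjSA⟩
  let x' : Spec (CommRingCat.of E.A) := ⟨E.qA, E.hqA⟩
  let s' : Spec (CommRingCat.of R') := ⟨p', hp'⟩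
  let e : Spec (CommRingCat.of R') ⟶ S := Spec.map (CommRingCat.ofHom (algebraMap R R')) ≫ c.i
  let g : Spec (CommRingCat.of E.A) ⟶ X :=
    Spec.map eA ≫ Spec.map (CommRingCat.ofHom (algebraMap B S')) ≫ c.j
  let h : Spec (CommRingCat.of E.B) ⟶ Spec (CommRingCat.of R') :=
    Spec.map (CommRingCat.ofHom (algebraMap R' E.B))
  let π : Spec (CommRingCat.of E.A) ⟶ Spec (CommRingCat.of E.B) :=
    Spec.map (CommRingCat.ofHom (algebraMap E.B E.A))
  have hx'q : Spec.map eA x' = ⟨q', hq'⟩ := PrimeSpectrum.ext E.q0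
  have hgx : g x' = x := by
    show (Spec.map eA ≫ Spec.map (CommRingCat.ofHom (algebraMap B S')) ≫ c.j) x' = x
    rw [Scheme.Hom.comp_apply, Scheme.Hom.comp_apply, hx'q,
      show Spec.map (CommRingCat.ofHom (algebraMap B S')) ⟨q', hq'⟩ = c.q from PrimeSpectrum.ext hq'q.over.symm, c.hq]
  have hes : e s' = f x := by
    show (Spec.map (CommRingCat.ofHom (algebraMap R R')) ≫ c.i) s' = f x
    rw [Scheme.Hom.comp_apply,
      show Spec.map (CommRingCat.ofHom (algebraMap R R')) s' = c.p from PrimeSpectrum.ext hp'p.over.symm, c.hp]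
  haveI : Etale (Spec.map (CommRingCat.ofHom (algebraMap B S'))) :=
    HasRingHomProperty.Spec_iff.2 (RingHom.etale_algebraMap.2 hS'e)
  haveI : Etale (Spec.map (CommRingCat.ofHom (algebraMap R R'))) :=
    HasRingHomProperty.Spec_iff.2 (RingHom.etale_algebraMap.2 hR'e)
  haveI hsm : SmoothOfRelativeDimension n h := hEd ▸ E.relDim
  haveI : GeometricallyIrreducible h := E.geomIrred
  haveI : Smooth h := SmoothOfRelativeDimension.smooth n h
  haveI := AVLib.geometricallyReduced_of_smooth h
  refine ⟨Spec (CommRingCat.of R'), Spec (CommRingCat.of E.B), Spec (CommRingCat.of E.A), e, h, π, g, s', x',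
    inferInstance, inferInstance, inferInstance, ⟨inferInstance, hes, ?_⟩, ⟨inferInstance, hgx, ?_⟩, ?_, hsm,
    GeometricallyIntegral.of_geometricallyReduced_of_geometricallyIrreducible h, ?_, ?_, ?_⟩
  · exact MatchLib.bijective_residueFieldMap_comp _ c.i s' (residueFieldMap_bijective ⟨p', hp'⟩ hR')
  · show Function.Bijective ((Spec.map eA ≫ Spec.map (CommRingCat.ofHom (algebraMap B S')) ≫ c.j).residueFieldMap x')
    rw [Scheme.residueFieldMap_comp]
    have key : ∀ w, w = (⟨q', hq'⟩ : PrimeSpectrum S') →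
        Function.Bijective ((Spec.map (CommRingCat.ofHom (algebraMap B S')) ≫ c.j).residueFieldMap w) := by
      rintro w rfl
      exact MatchLib.bijective_residueFieldMap_comp _ c.j _ (residueFieldMap_bijective ⟨q', hq'⟩ hS')
    exact (ConcreteCategory.bijective_of_isIso ((Spec.map eA).residueFieldMap x')).comp (key _ hx'q)
  · show (Spec.map eA ≫ Spec.map (CommRingCat.ofHom (algebraMap B S')) ≫ c.j) ≫ f = π ≫ h ≫ Spec.map _ ≫ c.i
    rw [Category.assoc, Category.assoc, c.w, ← Category.assoc, ← Category.assoc, ← Category.assoc, ← Category.assoc]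
    congr 1
    simp only [π, h, eA, ← Spec.map_comp]
    congr 1
    ext r
    show algebraMap S' E.A (algebraMap B S' (algebraMap R B r)) =
      algebraMap E.B E.A (algebraMap R' E.B (algebraMap R R' r))
    rw [← IsScalarTower.algebraMap_apply R B S', IsScalarTower.algebraMap_apply R R' S',
      ← IsScalarTower.algebraMap_apply R' S' E.A, ← IsScalarTower.algebraMap_apply R' E.B E.A]
  · exact (IsFinite.SpecMap_iff _).2 (RingHom.finite_algebraMap.2 E.finiteBA)
  · show h (π x') = s'
    rw [show π x' = (⟨E.qB, E.hqB⟩ : PrimeSpectrum E.B) from PrimeSpectrum.ext E.overA.over.symm]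
    exact PrimeSpectrum.ext E.overB.over.symm
  · intro z hz
    have hzA : (π x' : PrimeSpectrum E.B) = ⟨E.qB, E.hqB⟩ := PrimeSpectrum.ext E.overA.over.symm
    haveI : z.asIdeal.LiesOver E.qB := ⟨((congrArg PrimeSpectrum.asIdeal (hz.trans hzA))).symm⟩
    exact PrimeSpectrum.ext (E.uniq z.asIdeal inferInstance)

end Groth.Agent.DevLib
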