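import Groth.Prelude.Def_FlatCA
import Groth.Agent.ASp.PropDescend
import Groth.Agent.S1356
import Groth.Agent.Eta.Sch
import Groth.Agent.SmoothWeil.Local
import Groth.Agent.DevissLib.CompConn
import Groth.Agent.DevissLib.OpenIrred
import Groth.Agent.DevissLib.SpreadIrred
import Groth.Agent.DevLib.Irred
import Mathlib

/-!
# Preirreducible geometric fibres on a basic open, after an étale localisation of the base only
-/

set_option autoImplicit false
set_option linter.style.haveILetI false
set_option backward.isDefEq.respectTransparency false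
set_option backward.isDefEq.respectTransparency.types false
set_option maxHeartbeats 2000000

universe u

open CategoryTheory CategoryTheory.Limits AlgebraicGeometry TensorProduct

noncomputable section

namespace Groth.Agent.DevLib

open DevissLib

attribute [local instance] Algebra.TensorProduct.rightAlgebra

/-- Irreducible geometric fibres over a basic open of the base give preirreducible ones over the base. -/
theorem preIrred_of_geomIrred_away {A : Type u} [CommRing A] (a : A) (R' D' : Type u) [CommRing R'] [CommRing D']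
    [Algebra A R'] [Algebra R' D'] [Algebra A D'] [IsScalarTower A R' D'] [IsLocalization.Away a R']
    (h : FlatCA.GeomIrredFibres R' D') : PreIrred A D' := by
  intro K _ _
  by_cases hu : algebraMap A K a = 0
  · haveI : Subsingleton (K ⊗[A] D') := by
      refine subsingleton_of_zero_eq_one ?_
      have hD : IsUnit (algebraMap A (K ⊗[A] D') a) := by
        rw [← (Algebra.TensorProduct.includeRight : D' →ₐ[A] K ⊗[A] D').commutes a, IsScalarTower.algebraMap_apply A R' D']
        exact ((IsLocalization.Away.algebraMap_isUnit a).map _).map _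
      rw [IsScalarTower.algebraMap_apply A K (K ⊗[A] D'), hu, map_zero] at hD
      exact (isUnit_zero_iff.1 hD)
    haveI : IsEmpty (PrimeSpectrum (K ⊗[A] D')) := ⟨fun x => x.isPrime.ne_top (Subsingleton.elim _ _)⟩
    exact ⟨Set.subsingleton_of_subsingleton.isPreirreducible⟩
  · letI : Algebra R' K := (IsLocalization.Away.lift (S := R') a (g := algebraMap A K) (Ne.isUnit hu)).toAlgebra
    haveI : IsScalarTower A R' K := .of_algebraMap_eq fun z => (IsLocalization.Away.lift_eq a _ z).symm
    haveI := (geomIrredFibres_iff_tensor.1 h K).toPreirreducibleSpace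
    exact (PrimeSpectrum.homeomorphOfRingEquiv
      (IsLocalization.algebraTensorEquiv (Submonoid.powers a) R' K D').toRingEquiv.symm).isOpenEmbedding.preirreducibleSpace

/-- Near a purely transcendental point the fibres are preirreducible, after étale localisation of the base. -/
theorem exists_preIrred_nhd {R D : Type u} [CommRing R] [CommRing D] [Algebra R D] [Algebra.Smooth R D]
    (p : Ideal R) [p.IsPrime] (P : Ideal D) [P.IsPrime] [P.LiesOver p]
    (h : letI := (Ideal.ResidueField.mapₐ p P (Algebra.ofId R D) (P.over_def p)).toRingHom.toAlgebra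
      separableClosure p.ResidueField P.ResidueField = ⊥) :
    ∃ (A : Type u) (_ : CommRing A) (_ : Algebra R A) (p₁ : Ideal A) (_ : p₁.IsPrime),
      FlatCA.IsEtaleNhd R A p p₁ ∧ ∃ (Y : Ideal (A ⊗[R] D)) (_ : Y.IsPrime) (_ : Y.LiesOver p₁) (_ : Y.LiesOver P)
        (g₁ : A ⊗[R] D), g₁ ∉ Y ∧ PreIrred A (Localization.Away g₁) := by
  let f := Spec.map (CommRingCat.ofHom (algebraMap R D))
  let s : Spec (CommRingCat.of R) := ⟨p, inferInstance⟩
  haveI : Smooth f := (HasRingHomProperty.Spec_iff (P := @Smooth)).2 (RingHom.smooth_algebraMap.2 inferInstance)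
  haveI : GeometricallyReduced f := ⟨fun K _ y Z fst snd sq => by
    haveI : Smooth snd := MorphismProperty.of_isPullback sq inferInstance
    exact ASp.isReduced_of_smooth snd⟩
  obtain ⟨T, hT, ⟨x, hxT, hx⟩⟩ := exists_open_geomConn p P h
  obtain ⟨S', g, s', hS', hnb, V, -, hV, hpts⟩ := S1356.result f s T hT
  haveI := hnb.etale
  -- the base ring
  let A := Γ(S', ⊤)
  let φ : CommRingCat.of R ⟶ A := Spec.preimage (S'.isoSpec.inv ≫ g)
  letI : Algebra R A := φ.hom.toAlgebra
  have hφ : Spec.map (CommRingCat.ofHom (algebraMap R A)) = S'.isoSpec.inv ≫ g := Spec.map_preimage _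
  haveI : Etale (Spec.map (CommRingCat.ofHom (algebraMap R A))) := by
    rw [hφ]
    exact MorphismProperty.comp_mem _ _ _ inferInstance hnb.etale
  haveI : Algebra.Etale R A :=
    RingHom.etale_algebraMap.1 ((HasRingHomProperty.Spec_iff (P := @Etale)).1 ‹Etale (Spec.map (CommRingCat.ofHom (algebraMap R A)))›)
  let u : ↥(Spec A) := S'.isoSpec.hom s'
  have hus : S'.isoSpec.inv u = s' := by simp [u]
  have hu : PrimeSpectrum.comap (algebraMap R A) u = s := by
    show Spec.map (CommRingCat.ofHom (algebraMap R A)) u = s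
    rw [hφ, Scheme.Hom.comp_apply]
    exact (congrArg g hus).trans hnb.base_eq
  let p₁ : Ideal A := u.asIdeal
  haveI hp₁ : p₁.IsPrime := u.isPrime
  haveI : p₁.LiesOver p := ⟨(congrArg PrimeSpectrum.asIdeal hu).symm⟩
  have hres : Function.Bijective (Ideal.ResidueField.mapₐ p p₁ (Algebra.ofId R A) (p₁.over_def p)) := by
    have hb : Function.Bijective ((Spec.map (CommRingCat.ofHom (algebraMap R A))).residueFieldMap u) := by
      rw [hφ, Scheme.residueFieldMap_comp]
      refine (ConcreteCategory.bijective_of_isIso (S'.isoSpec.inv.residueFieldMap u)).comp ?_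
      have aux : ∀ t, t = s' → Function.Bijective (g.residueFieldMap t) := fun t ht => ht ▸ hnb.residue_bijective
      exact aux _ hus
    have hb' := (EtaPt.FieldEndo.residueFieldMap_bijective_iff (algebraMap R A) u).1 hb
    have key : ∀ (I : Ideal R) [I.IsPrime] (e : I = u.asIdeal.comap (algebraMap R A)),
        Function.Bijective (Ideal.ResidueField.map I u.asIdeal (algebraMap R A) e) := by
      intro I _ e
      subst e
      exact hb'
    exact key p (p₁.over_def p)
  -- the point over it
  let Y := ((Ideal.fiberIsoOfBijectiveResidueField hres).symm ⟨P, inferInstance, inferInstance⟩)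
  haveI : Y.1.IsPrime := Y.2.1
  haveI : Y.1.LiesOver p₁ := Y.2.2
  have hYc : Y.1.comap (RingHomClass.toRingHom (Algebra.TensorProduct.includeRight (R := R) (A := A) (B := D))) = P :=
    Ideal.comap_fiberIsoOfBijectiveResidueField_symm hres _
  let yY : Spec (CommRingCat.of (A ⊗[R] D)) := ⟨Y.1, inferInstance⟩
  let a₁ := Spec.map (CommRingCat.ofHom (Algebra.TensorProduct.includeRight (R := R) (A := A) (B := D)).toRingHom)
  let a₂ := Spec.map (CommRingCat.ofHom (Algebra.TensorProduct.includeLeftRingHom (R := R) (A := A) (B := D)))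
  have sq₀ : IsPullback a₁ a₂ f (Spec.map (CommRingCat.ofHom (algebraMap R A))) :=
    (isPullback_SpecMap_of_isPushout _ _ _ _ (CommRingCat.isPushout_tensorProduct R A D)).flip
  have sq : IsPullback a₁ (a₂ ≫ S'.isoSpec.inv) f g :=
    sq₀.of_iso (Iso.refl _) (Iso.refl _) S'.isoSpec.symm (Iso.refl _) (by simp) (by simp) (by simp) (by simp [hφ])
  let ι := sq.isoPullback
  have hι₁ : ι.hom ≫ pullback.fst f g = a₁ := sq.isoPullback_hom_fst
  have hι₂ : ι.hom ≫ pullback.snd f g = a₂ ≫ S'.isoSpec.inv := sq.isoPullback_hom_snd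
  have hyV : ι.hom yY ∈ V := by
    refine (hpts _ ?_).2 ⟨x, hxT, ?_⟩
    · rw [← Scheme.Hom.comp_apply, hι₂, Scheme.Hom.comp_apply]
      exact (congrArg S'.isoSpec.inv (show a₂ yY = u from PrimeSpectrum.ext ((Y.1.over_def p₁).symm))).trans hus
    · rw [hx, ← Scheme.Hom.comp_apply, hι₁]
      exact PrimeSpectrum.ext hYc.symm
  obtain ⟨_, ⟨g₀, rfl⟩, hg₀, hg₀V⟩ := PrimeSpectrum.isTopologicalBasis_basic_opens.exists_subset_of_mem_open
    (show yY ∈ ι.hom ⁻¹' (V : Set _) from hyV) (V.isOpen.preimage ι.hom.continuous)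
  haveI : Module.Flat R D := inferInstance
  obtain ⟨_, ⟨a, rfl⟩, ha, hasub⟩ := PrimeSpectrum.isTopologicalBasis_basic_opens.exists_subset_of_mem_open
    (show u ∈ PrimeSpectrum.comap (algebraMap A (A ⊗[R] D)) '' (PrimeSpectrum.basicOpen g₀ : Set _) from
      ⟨yY, hg₀, PrimeSpectrum.ext ((Y.1.over_def p₁).symm)⟩)
    ((PrimeSpectrum.isOpenMap_comap_of_hasGoingDown_of_finitePresentation (R := A) (S := A ⊗[R] D)) _
      (PrimeSpectrum.basicOpen g₀).2)
  -- the rings
  let R' := Localization.Away a
  let g₁ : A ⊗[R] D := g₀ * algebraMap A (A ⊗[R] D) a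
  let D' := Localization.Away g₁
  letI : Algebra R' D' := (IsLocalization.Away.lift (S := R') a (g := algebraMap A D')
    (isUnit_of_dvd_unit ((IsScalarTower.algebraMap_apply A (A ⊗[R] D) D' a).symm ▸ map_dvd _ (dvd_mul_left _ g₀))
      (IsLocalization.Away.algebraMap_isUnit g₁))).toAlgebra
  haveI : IsScalarTower A R' D' := IsScalarTower.of_algebraMap_eq fun z => (IsLocalization.Away.lift_eq a _ z).symm
  haveI : IsScalarTower R R' D' := IsScalarTower.of_algebraMap_eq fun z => by
    rw [IsScalarTower.algebraMap_apply R A D', IsScalarTower.algebraMap_apply A R' D', ← IsScalarTower.algebraMap_apply R A R']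
  haveI : IsScalarTower D (A ⊗[R] D) D' := inferInstance
  haveI : IsScalarTower R D D' := IsScalarTower.of_algebraMap_eq fun z => by
    rw [IsScalarTower.algebraMap_apply D (A ⊗[R] D) D', ← IsScalarTower.algebraMap_apply R D (A ⊗[R] D),
      ← IsScalarTower.algebraMap_apply R (A ⊗[R] D) D']
  haveI : Algebra.Etale D (A ⊗[R] D) := Algebra.Etale.of_equiv (Algebra.TensorProduct.commRight R D A)
  haveI : Algebra.Etale (A ⊗[R] D) D' := Algebra.Etale.of_isLocalizationAway g₁
  haveI : Algebra.Etale D D' := Algebra.Etale.comp D (A ⊗[R] D) D'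
  haveI : Algebra.Etale A R' := Algebra.Etale.of_isLocalizationAway a
  haveI : Algebra.Etale R R' := Algebra.Etale.comp R A R'
  haveI : Algebra.Smooth R D' := Algebra.Smooth.comp R D D'
  haveI : Algebra.Smooth R' D' := by
    haveI : Algebra.Smooth A D' := Algebra.Smooth.comp A (A ⊗[R] D) D'
    haveI : Algebra.FormallySmooth R' D' := Algebra.FormallySmooth.localization_base (R := A) (Submonoid.powers a)
    haveI : Algebra.FinitePresentation R' D' := Algebra.FinitePresentation.of_restrict_scalars_finitePresentation A R' D'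
    exact ⟨inferInstance, inferInstance⟩
  -- geometric irreducibility
  haveI : Smooth (V.ι ≫ pullback.snd f g) :=
    MorphismProperty.comp_mem _ _ _ inferInstance (MorphismProperty.pullback_snd (P := @Smooth) _ _ inferInstance)
  haveI := hV
  haveI : GeometricallyIrreducible (V.ι ≫ pullback.snd f g) :=
    SmoothWeil.geometricallyIrreducible_of_connected_geomFibres _ fun t =>
      GeometricallyConnected.geometrically_connectedSpace (f := V.ι ≫ pullback.snd f g) _ _ _ (IsPullback.of_hasPullback _ _)
  let w := Spec.map (CommRingCat.ofHom (algebraMap R' D'))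
  let i₁ := Spec.map (CommRingCat.ofHom (algebraMap A R'))
  let j₁ := Spec.map (CommRingCat.ofHom (algebraMap (A ⊗[R] D) D'))
  have hi₁r : ∀ v, i₁ v ∈ PrimeSpectrum.basicOpen a := fun v => by
    have := (PrimeSpectrum.localization_away_comap_range (S := R') a).le ⟨v, rfl⟩
    exact this
  haveI : IsOpenImmersion i₁ := IsOpenImmersion.of_isLocalization a
  haveI : IsOpenImmersion j₁ := IsOpenImmersion.of_isLocalization g₁
  have hw : w ≫ i₁ = j₁ ≫ a₂ := by
    simp only [w, i₁, j₁, a₂, ← Spec.map_comp, ← CommRingCat.ofHom_comp]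
    congr 2
    ext z
    exact (IsScalarTower.algebraMap_apply A R' D' z).symm.trans (IsScalarTower.algebraMap_apply A (A ⊗[R] D) D' z)
  haveI : Surjective w := ⟨fun v => by
    obtain ⟨q, hq, hqv⟩ := hasub (hi₁r v)
    have hqa : algebraMap A (A ⊗[R] D) a ∉ q.asIdeal := fun hm =>
      hi₁r v ((congrArg PrimeSpectrum.asIdeal hqv).le hm)
    obtain ⟨z, hz⟩ := (PrimeSpectrum.localization_away_comap_range (S := D') g₁).ge
      (show q ∈ PrimeSpectrum.basicOpen g₁ from fun hm => (q.isPrime.mem_or_mem hm).elim hq hqa)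
    refine ⟨z, i₁.isOpenEmbedding.injective ?_⟩
    rw [← Scheme.Hom.comp_apply, hw, Scheme.Hom.comp_apply, show j₁ z = q from hz]
    exact hqv⟩
  have hrange : Set.range (j₁ ≫ ι.hom) ⊆ Set.range V.ι := by
    rw [Scheme.Opens.range_ι]
    rintro _ ⟨z, rfl⟩
    rw [Scheme.Hom.comp_apply]
    refine hg₀V ?_
    have h1 : j₁ z ∈ PrimeSpectrum.basicOpen g₁ := (PrimeSpectrum.localization_away_comap_range (S := D') g₁).le ⟨z, rfl⟩
    exact fun hm => h1 ((j₁ z).asIdeal.mul_mem_right _ hm)
  have hgeo : FlatCA.GeomIrredFibres R' D' := by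
    refine geometricallyIrreducible_of_open (V.ι ≫ pullback.snd f g) (IsOpenImmersion.lift V.ι (j₁ ≫ ι.hom) hrange)
      (i₁ ≫ S'.isoSpec.inv) w ?_
    rw [← Category.assoc (IsOpenImmersion.lift _ _ _), IsOpenImmersion.lift_fac, Category.assoc, hι₂, ← Category.assoc w,
      hw, Category.assoc]
  exact ⟨A, inferInstance, inferInstance, p₁, hp₁, ⟨inferInstance, inferInstance, hres⟩, Y.1, inferInstance, inferInstance,
    ⟨hYc.symm⟩, g₁, fun hm => (Y.2.1.mem_or_mem hm).elim hg₀ (fun hm' => ha ((Y.1.over_def p₁).ge hm')),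
    preIrred_of_geomIrred_away a R' D' hgeo⟩


end Groth.Agent.DevLib
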