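import Groth.Agent.DevLib.Shrink
import Groth.Agent.DevLib.PreNhd
import Groth.Agent.DevLib.MainAux
import Groth.Agent.DevLib.Glue
import Groth.Agent.DevissLib.Basis
import Groth.Agent.AssSupLib.Support

/-!
# Continuing a dévissage with the cokernel
-/

set_option autoImplicit false
set_option linter.style.haveILetI false
set_option backward.isDefEq.respectTransparency false
set_option backward.isDefEq.respectTransparency.types false
set_option maxHeartbeats 4000000

universe u

open TensorProduct

noncomputable section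

namespace Groth.Agent.DevLib

attribute [local instance] Algebra.TensorProduct.rightAlgebra

variable {R : Type u} [CommRing R] {p : Ideal R} [p.IsPrime] {S : Type u} [CommRing S] [Algebra R S]
  {N : Type u} [AddCommGroup N] [Module S N] {q : Ideal S} [q.IsPrime]

/-- The point of the source lies over the point of the smooth algebra. -/
theorem DevStep.liesOver_of_map (E : DevStep R p S N q) (σ : E.B →ₐ[R] S)
    (hσ : ∀ b, algebraMap S E.A (σ b) = algebraMap E.B E.A b) (b : E.B) : σ b ∈ q ↔ b ∈ E.qB := by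
  refine (SetLike.ext_iff.1 E.q0 (σ b)).symm.trans ?_
  rw [Ideal.mem_comap, hσ]
  exact (Ideal.mem_of_liesOver E.qA E.qB b).symm

/-- A step whose cokernel misses the point is a whole dévissage nearby. -/
theorem existsDev_of_notMem_support (E : DevStep R p S N q) (σ : E.B →ₐ[R] S)
    (hσ : ∀ b, algebraMap S E.A (σ b) = algebraMap E.B E.A b)
    (h : (⟨E.qB, inferInstance⟩ : PrimeSpectrum E.B) ∉ Module.support E.B (E.M ⧸ LinearMap.range E.α)) :
    ExistsDev R p S N q := by
  haveI := E.finiteBA
  haveI := E.finiteM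
  haveI : Module.Finite E.B E.M := Module.Finite.trans E.A E.M
  haveI : Algebra.Smooth R E.B := DevissLib.smooth_of_smoothRelDim E.relDim
  rw [Module.mem_support_iff_of_finite, SetLike.not_le_iff_exists] at h
  obtain ⟨d, hd, hdq⟩ := h
  have hdM : ∀ m : E.M, d • m ∈ LinearMap.range E.α := fun m =>
    (Submodule.Quotient.mk_eq_zero _).1 ((Submodule.Quotient.mk_smul _ d m).trans (Module.mem_annihilator.1 hd _))
  obtain ⟨f₀, hf₀, himg⟩ := exists_basicOpen_subset_image d p E.qB hdq
  let R' := Localization.Away f₀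
  let s : S := 1 * σ d * algebraMap R S f₀
  let S' := Localization.Away s
  have hsu : IsUnit (algebraMap R S' f₀) := by
    rw [IsScalarTower.algebraMap_apply R S S']
    exact isUnit_of_dvd_unit (map_dvd _ (dvd_mul_left _ _)) (IsLocalization.Away.algebraMap_isUnit s)
  letI : Algebra R' S' := (IsLocalization.Away.lift (S := R') f₀ (g := algebraMap R S') hsu).toAlgebra
  haveI : IsScalarTower R R' S' := .of_algebraMap_eq fun z => (IsLocalization.Away.lift_eq f₀ hsu z).symm
  haveI hqp : q.LiesOver p := ⟨by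
    refine Eq.trans ?_ (congrArg (Ideal.comap (algebraMap R S)) E.q0)
    rw [Ideal.comap_comap, ← IsScalarTower.algebraMap_eq, IsScalarTower.algebraMap_eq R E.B E.A, ← Ideal.comap_comap]
    exact (E.qB.over_def p).trans (congrArg (Ideal.comap (algebraMap R E.B)) (E.qA.over_def E.qB))⟩
  have hsq : s ∉ q := fun hm => by
    simp only [s, one_mul] at hm
    exact ((inferInstance : q.IsPrime).mem_or_mem hm).elim (fun h1 => hdq ((E.liesOver_of_map σ hσ d).1 h1))
      fun h2 => hf₀ ((q.over_def p).ge h2)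
  have hdp : Disjoint (Submonoid.powers f₀ : Set R) p :=
    (Ideal.disjoint_powers_iff_notMem f₀ (inferInstance : p.IsPrime).isRadical).2 hf₀
  have hdq' : Disjoint (Submonoid.powers s : Set S) q :=
    (Ideal.disjoint_powers_iff_notMem s (inferInstance : q.IsPrime).isRadical).2 hsq
  let p' : Ideal R' := p.map (algebraMap R R')
  let q' : Ideal S' := q.map (algebraMap S S')
  haveI : p'.IsPrime := IsLocalization.isPrime_of_isPrime_disjoint (Submonoid.powers f₀) _ p inferInstance hdp
  haveI : q'.IsPrime := IsLocalization.isPrime_of_isPrime_disjoint (Submonoid.powers s) _ q inferInstance hdq'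
  haveI : p'.LiesOver p := IsLocalization.liesOver_map_of_isPrime_disjoint (Submonoid.powers f₀) _ hdp
  haveI : q'.LiesOver q := IsLocalization.liesOver_map_of_isPrime_disjoint (Submonoid.powers s) _ hdq'
  haveI : q'.LiesOver p' := ⟨by
    have h1 : (q'.comap (algebraMap R' S')).comap (algebraMap R R') = p'.comap (algebraMap R R') := by
      rw [Ideal.comap_comap, ← IsScalarTower.algebraMap_eq, IsScalarTower.algebraMap_eq R S S', ← Ideal.comap_comap]
      exact ((q.over_def p).trans (congrArg (Ideal.comap (algebraMap R S)) (q'.over_def q))).symm.trans (p'.over_def p)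
    have h2 := congrArg (Ideal.map (algebraMap R R')) h1
    rw [IsLocalization.map_under (Submonoid.powers f₀) R', IsLocalization.map_under (Submonoid.powers f₀) R'] at h2
    exact h2.symm⟩
  refine ⟨R', S', inferInstance, inferInstance, inferInstance, inferInstance, inferInstance, inferInstance, inferInstance,
    inferInstance, p', q', inferInstance, inferInstance, isEtaleNhd_away f₀ p hf₀ p', isEtaleNhd_away s q hsq q',
    inferInstance, ?_⟩
  intro N' _ _ _ _ φ hφ
  exact E.shrink (g := 1) (h := σ d) (t := algebraMap E.B E.A d) (by rw [map_one, mul_one]) (hσ d) hdq himg dvd_rfl hf₀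
    R' p' S' N' φ hφ q' (Or.inl hdM)

/-- A base change through two intermediate rings. -/
theorem of_forall_baseChange {B B2 B3 B4 : Type u} [CommRing B] [CommRing B2] [CommRing B3] [CommRing B4] [Algebra B B2]
    [Algebra B2 B3] [Algebra B3 B4] [Algebra B B3] [Algebra B B4] [IsScalarTower B B2 B3] [IsScalarTower B B3 B4]
    {K : Type u} [AddCommGroup K] [Module B K] (P : ∀ (Q : Type u) [AddCommGroup Q] [Module B4 Q], Prop)
    (h : ∀ (Q : Type u) [AddCommGroup Q] [Module B4 Q] [Module B3 Q] [IsScalarTower B3 B4 Q]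
      (φ : B3 ⊗[B2] (B2 ⊗[B] K) →ₗ[B3] Q), IsBaseChange B4 φ → P Q)
    (Q : Type u) [AddCommGroup Q] [Module B4 Q] [Module B Q] [IsScalarTower B B4 Q] (k : K →ₗ[B] Q) (hk : IsBaseChange B4 k) :
    P Q := by
  letI : Module B3 Q := Module.compHom _ (algebraMap B3 B4)
  haveI : IsScalarTower B3 B4 Q := .of_algebraMap_smul fun _ _ => rfl
  letI : Module B2 Q := Module.compHom _ (algebraMap B2 B3)
  haveI : IsScalarTower B2 B3 Q := .of_algebraMap_smul fun _ _ => rfl
  haveI : IsScalarTower B B2 Q := .of_algebraMap_smul fun c (m : Q) => by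
    show algebraMap B3 B4 (algebraMap B2 B3 (algebraMap B B2 c)) • m = c • m
    rw [← IsScalarTower.algebraMap_apply B B2 B3, ← IsScalarTower.algebraMap_apply B B3 B4, algebraMap_smul]
  haveI : IsScalarTower B B3 Q := .of_algebraMap_smul fun c (m : Q) => by
    show algebraMap B3 B4 (algebraMap B B3 c) • m = c • m
    rw [← IsScalarTower.algebraMap_apply B B3 B4, algebraMap_smul]
  let k2 := (TensorProduct.isBaseChange B K B2).lift k
  let k3 := (TensorProduct.isBaseChange B2 (B2 ⊗[B] K) B3).lift k2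
  refine h Q k3 (IsBaseChange.of_comp (IsBaseChange.comp (TensorProduct.isBaseChange B K B2)
    (TensorProduct.isBaseChange B2 (B2 ⊗[B] K) B3)) ?_)
  convert hk using 1
  refine LinearMap.ext fun m => ?_
  show k3 ((1 : B3) ⊗ₜ[B2] ((1 : B2) ⊗ₜ[B] m)) = k m
  exact ((TensorProduct.isBaseChange B2 (B2 ⊗[B] K) B3).lift_eq k2 _).trans
    ((TensorProduct.isBaseChange B K B2).lift_eq k m)

/-- Transporting a step to an etale neighbourhood of its smooth algebra. -/
theorem existsDev_of_transport (E : DevStep R p S N q) (σ : E.B →ₐ[R] S)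
    (hσ : ∀ b, algebraMap S E.A (σ b) = algebraMap E.B E.A b)
    {R4 D4 : Type u} [CommRing R4] [CommRing D4] [Algebra R R4] [Algebra R4 D4] [Algebra E.B D4] [Algebra R D4]
    [IsScalarTower R R4 D4] [IsScalarTower R E.B D4] [Algebra.Etale R R4] [Algebra.Etale E.B D4]
    (p4 : Ideal R4) [p4.IsPrime] [p4.LiesOver p] (y4 : Ideal D4) [y4.IsPrime] [y4.LiesOver E.qB] [y4.LiesOver p4]
    (hfracR : DevissLib.FracMod p p4) (hfracB : DevissLib.FracMod E.qB y4)
    (hirr : FlatCA.GeomIrredFibres R4 D4) (hrel : FlatCA.SmoothRelDim E.d R4 D4)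
    (hnext : ∀ (Q : Type u) [AddCommGroup Q] [Module D4 Q] [Module E.B Q] [IsScalarTower E.B D4 Q]
      (k : (E.M ⧸ LinearMap.range E.α) →ₗ[E.B] Q), IsBaseChange D4 k → Dev R4 p4 D4 Q y4) :
    ExistsDev R p S N q := by
  have hres4 := DevissLib.residue_bijective_of_frac p p4 hfracR
  haveI : Algebra.Smooth R4 D4 := DevissLib.smooth_of_smoothRelDim hrel
  haveI : (p4.map (algebraMap R4 D4)).IsPrime := isPrime_map hirr p4
  -- the new source
  letI : Algebra E.B S := σ.toRingHom.toAlgebra
  haveI : IsScalarTower R E.B S := .of_algebraMap_eq fun r => (σ.commutes r).symm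
  haveI : IsScalarTower E.B S E.A := .of_algebraMap_eq fun c => (hσ c).symm
  haveI : q.LiesOver E.qB := ⟨Ideal.ext fun c => (E.liesOver_of_map σ hσ c).symm⟩
  haveI : SMulCommClass E.B R4 D4 := ⟨fun t s d => by
    rw [← algebraMap_smul D4 t (s • d), ← algebraMap_smul D4 t d, smul_comm]⟩
  haveI : SMulCommClass E.B R D4 := ⟨fun t s d => by
    rw [← algebraMap_smul D4 t (s • d), ← algebraMap_smul D4 t d, smul_comm]⟩
  let S4 := D4 ⊗[E.B] S
  let A4 := D4 ⊗[E.B] E.A
  let τ : S4 →ₐ[D4] A4 := Algebra.TensorProduct.map (AlgHom.id D4 D4) (IsScalarTower.toAlgHom E.B S E.A)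
  letI : Algebra S4 A4 := τ.toRingHom.toAlgebra
  letI : Algebra S A4 := ((algebraMap E.A A4).comp (algebraMap S E.A)).toAlgebra
  haveI : IsScalarTower S E.A A4 := .of_algebraMap_eq fun _ => rfl
  haveI : IsScalarTower S S4 A4 := .of_algebraMap_eq fun s => by
    show (1 : D4) ⊗ₜ[E.B] algebraMap S E.A s = τ ((1 : D4) ⊗ₜ[E.B] s)
    rfl
  haveI : IsScalarTower D4 S4 A4 := .of_algebraMap_eq fun c => (τ.commutes c).symm
  haveI : IsScalarTower R4 S4 A4 := .of_algebraMap_eq fun c => by
    rw [IsScalarTower.algebraMap_apply R4 D4 A4, IsScalarTower.algebraMap_apply R4 D4 S4,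
      ← IsScalarTower.algebraMap_apply D4 S4 A4]
  haveI : IsScalarTower R R4 S4 := .of_algebraMap_eq fun r => by
    show algebraMap R D4 r ⊗ₜ[E.B] (1 : S) = algebraMap R4 D4 (algebraMap R R4 r) ⊗ₜ[E.B] (1 : S)
    rw [← IsScalarTower.algebraMap_apply R R4 D4]
  haveI : IsScalarTower R S S4 := .of_algebraMap_eq fun r => by
    show algebraMap R D4 r ⊗ₜ[E.B] (1 : S) = (1 : D4) ⊗ₜ[E.B] algebraMap R S r
    rw [IsScalarTower.algebraMap_apply R E.B D4, IsScalarTower.algebraMap_apply R E.B S,
      Algebra.algebraMap_eq_smul_one (A := D4), Algebra.algebraMap_eq_smul_one (A := S), TensorProduct.smul_tmul]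
  haveI : IsScalarTower E.B S4 A4 := .of_algebraMap_eq fun c => by
    rw [IsScalarTower.algebraMap_apply E.B D4 A4, IsScalarTower.algebraMap_apply E.B D4 S4,
      ← IsScalarTower.algebraMap_apply D4 S4 A4]
  haveI : Algebra.IsPushout E.B E.A D4 A4 := Algebra.IsPushout.symm inferInstance
  haveI : Algebra.IsPushout E.B S D4 S4 := Algebra.IsPushout.symm inferInstance
  haveI : Algebra.IsPushout S E.A S4 A4 :=
    (Algebra.IsPushout.comp_iff (R := E.B) (S := S) (R' := D4) (S' := S4) (T := E.A) (T' := A4)).1 inferInstance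
  haveI : Algebra.IsPushout S S4 E.A A4 := Algebra.IsPushout.symm inferInstance
  haveI : Algebra.Etale S S4 := Algebra.Etale.of_equiv (Algebra.TensorProduct.commRight E.B S D4)
  have hresy4 := DevissLib.residue_bijective_of_frac E.qB y4 hfracB
  let Qf := (Ideal.fiberIsoOfBijectiveResidueField (S := S) hresy4).symm ⟨q, inferInstance, inferInstance⟩
  let q4 : Ideal S4 := Qf.1
  haveI : q4.IsPrime := Qf.2.1
  haveI : q4.LiesOver y4 := Qf.2.2
  have hq4q : q4.comap (algebraMap S S4) = q := Ideal.comap_fiberIsoOfBijectiveResidueField_symm hresy4 _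
  haveI : q4.LiesOver q := ⟨hq4q.symm⟩
  haveI : q4.LiesOver p4 := Ideal.LiesOver.trans q4 y4 p4
  refine ⟨R4, S4, inferInstance, inferInstance, inferInstance, inferInstance, inferInstance, inferInstance, inferInstance,
    inferInstance, p4, q4, inferInstance, inferInstance, ⟨inferInstance, inferInstance, hres4⟩,
    ⟨inferInstance, inferInstance, DevissLib.residue_bijective_of_frac q q4 (hfracB.tensor q4 q)⟩, inferInstance, ?_⟩
  intro N' _ _ _ _ φ hφ
  refine E.transport (A' := A4) y4 hres4 hirr hrel hfracB (fun Q _ hQy hQA => ?_) hφ (Or.inr fun Q _ _ _ _ k hk => hnext Q k hk)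
  haveI := hQy
  haveI : (Q.comap (algebraMap S4 A4)).LiesOver y4 := ⟨by
    show y4 = (Q.comap (algebraMap S4 A4)).comap (algebraMap D4 S4)
    rw [Ideal.comap_comap, ← IsScalarTower.algebraMap_eq]
    exact Q.over_def y4⟩
  refine Ideal.eq_of_comap_eq_comap_of_bijective_residueFieldMap hresy4 _ q4 (Eq.trans ?_ hq4q.symm)
  show (Q.comap (algebraMap S4 A4)).comap (algebraMap S S4) = q
  rw [Ideal.comap_comap, ← IsScalarTower.algebraMap_eq, IsScalarTower.algebraMap_eq S E.A A4, ← Ideal.comap_comap, hQA]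
  exact E.q0

/-- A step continued by a dévissage of the cokernel gives a dévissage. -/
theorem existsDev_of_coker (E : DevStep R p S N q) (σ : E.B →ₐ[R] S)
    (hσ : ∀ b, algebraMap S E.A (σ b) = algebraMap E.B E.A b)
    (h : ExistsDev R p E.B (E.M ⧸ LinearMap.range E.α) E.qB) :
    ExistsDev R p S N q := by
  classical
  obtain ⟨R2, D2, _, _, _, _, _, _, _, _, p2, y2, hp2, hy2, ⟨hRR2, hp2p, hres2⟩, ⟨hBD2, hy2q, hresy2⟩, hy2p, hDev⟩ := h
  haveI := hp2
  haveI := hy2
  haveI := hRR2
  haveI := hp2p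
  haveI := hBD2
  haveI := hy2q
  haveI := hy2p
  haveI : Algebra.Smooth R2 D2 := DevissLib.smooth_of_smoothRelDim (smoothRelDim_etale_over (R' := R2) (D' := D2) E.relDim)
  have hPT2 : FlatCA.PurelyTranscendental p2 y2 :=
    DevissLib.purelyTranscendental_of_bijective hres2 hresy2 E.pureTrans
  obtain ⟨A, _, _, p3, hp3, ⟨hR2A, hp3p2, hres3⟩, Y, hY, hYp3, hYy2, g₁, hg₁, hpre⟩ :=
    exists_preIrred_nhd p2 y2 (separableClosure_eq_bot hPT2)
  haveI := hp3
  haveI := hR2A
  haveI := hp3p2
  haveI := hY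
  haveI := hYp3
  haveI := hYy2
  let D3 := A ⊗[R2] D2
  haveI : Algebra.IsPushout R2 A D2 D3 := inferInstance
  let K := E.M ⧸ LinearMap.range E.α
  have hDev3 : Dev A p3 D3 (D3 ⊗[D2] (D2 ⊗[E.B] K)) Y :=
    Dev.baseChange hres3 (hDev (D2 ⊗[E.B] K) _ (TensorProduct.isBaseChange E.B K D2)) D3 (D3 ⊗[D2] (D2 ⊗[E.B] K)) _
      (TensorProduct.isBaseChange D2 (D2 ⊗[E.B] K) D3) Y
  obtain ⟨f₀, g', hf₀, hg', hdvd, hshr⟩ := hDev3.shrink g₁ hg₁
  obtain ⟨f₁, hf₁, himg⟩ := exists_basicOpen_subset_image g' p3 Y hg'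
  let f := f₀ * f₁
  have hf : f ∉ p3 := p3.primeCompl.mul_mem hf₀ hf₁
  -- the rings
  let b : D3 := g' * algebraMap A D3 f
  let C1 := Localization.Away g₁
  let R4 := Localization.Away f
  let D4 := Localization.Away (algebraMap D3 C1 b)
  haveI hD4 : IsLocalization.Away b D4 := by
    haveI : IsLocalization.Away (g₁ * b) D4 := IsLocalization.Away.mul' C1 D4 g₁ b
    exact away_of_dvd' (dvd_mul_left b g₁) (m := 2) (by
      rw [pow_two]
      exact mul_dvd_mul_right (hdvd.trans (dvd_mul_right g' _)) b)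
  haveI hpreD4 : PreIrred A D4 := PreIrred.localization hpre (algebraMap D3 C1 b) D4
  have hbu : IsUnit (algebraMap A D4 f) := by
    rw [IsScalarTower.algebraMap_apply A D3 D4]
    exact isUnit_of_dvd_unit (map_dvd _ (dvd_mul_left _ g')) (IsLocalization.Away.algebraMap_isUnit b)
  letI : Algebra R4 D4 := (IsLocalization.Away.lift (S := R4) f (g := algebraMap A D4) hbu).toAlgebra
  haveI : IsScalarTower A R4 D4 := .of_algebraMap_eq fun z => (IsLocalization.Away.lift_eq f hbu z).symm
  letI : Algebra R A := ((algebraMap R2 A).comp (algebraMap R R2)).toAlgebra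
  haveI : IsScalarTower R R2 A := .of_algebraMap_eq fun _ => rfl
  haveI : IsScalarTower R A R4 := inferInstance
  haveI : IsScalarTower R A D4 := inferInstance
  haveI : IsScalarTower R R4 D4 := IsScalarTower.of_algebraMap_eq (R := R) (S := R4) (A := D4) fun z => by
    rw [IsScalarTower.algebraMap_apply R A R4, ← IsScalarTower.algebraMap_apply A R4 D4, ← IsScalarTower.algebraMap_apply R A D4]
  letI : Algebra E.B D3 := ((algebraMap D2 D3).comp (algebraMap E.B D2)).toAlgebra
  haveI : IsScalarTower E.B D2 D3 := .of_algebraMap_eq fun _ => rfl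
  haveI : IsScalarTower E.B D3 D4 := inferInstance
  haveI : IsScalarTower R E.B D4 := IsScalarTower.of_algebraMap_eq (R := R) (S := E.B) (A := D4) fun r => by
    rw [IsScalarTower.algebraMap_apply R A D4, IsScalarTower.algebraMap_apply A D3 D4,
      IsScalarTower.algebraMap_apply R R2 A, IsScalarTower.algebraMap_apply E.B D3 D4,
      IsScalarTower.algebraMap_apply E.B D2 D3,
      ← IsScalarTower.algebraMap_apply R E.B D2, IsScalarTower.algebraMap_apply R R2 D2,
      ← IsScalarTower.algebraMap_apply R2 A D3, ← IsScalarTower.algebraMap_apply R2 D2 D3]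
  haveI : Algebra.Etale R A := Algebra.Etale.comp R R2 A
  haveI : Algebra.Etale A R4 := Algebra.Etale.of_isLocalizationAway f
  haveI : Algebra.Etale R R4 := Algebra.Etale.comp R A R4
  haveI : Algebra.Etale D2 D3 := Algebra.Etale.of_equiv (Algebra.TensorProduct.commRight R2 D2 A)
  haveI : Algebra.Etale E.B D3 := Algebra.Etale.comp E.B D2 D3
  haveI : Algebra.Etale D3 D4 := Algebra.Etale.of_isLocalizationAway b
  haveI : Algebra.Etale E.B D4 := Algebra.Etale.comp E.B D3 D4
  -- the points
  have hbY : b ∉ Y := fun hm => (hY.mem_or_mem hm).elim hg' fun hm' => hf ((Y.over_def p3).ge hm')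
  have hdp : Disjoint (Submonoid.powers f : Set A) p3 :=
    (Ideal.disjoint_powers_iff_notMem f hp3.isRadical).2 hf
  have hdY : Disjoint (Submonoid.powers b : Set D3) Y := (Ideal.disjoint_powers_iff_notMem b hY.isRadical).2 hbY
  let p4 : Ideal R4 := p3.map (algebraMap A R4)
  let y4 : Ideal D4 := Y.map (algebraMap D3 D4)
  haveI : p4.IsPrime := IsLocalization.isPrime_of_isPrime_disjoint (Submonoid.powers f) _ p3 inferInstance hdp
  haveI : y4.IsPrime := IsLocalization.isPrime_of_isPrime_disjoint (Submonoid.powers b) _ Y inferInstance hdY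
  haveI : p4.LiesOver p3 := IsLocalization.liesOver_map_of_isPrime_disjoint (Submonoid.powers f) _ hdp
  haveI : y4.LiesOver Y := IsLocalization.liesOver_map_of_isPrime_disjoint (Submonoid.powers b) _ hdY
  haveI : p3.LiesOver p := Ideal.LiesOver.trans p3 p2 p
  haveI : p4.LiesOver p := Ideal.LiesOver.trans p4 p3 p
  haveI : Y.LiesOver E.qB := Ideal.LiesOver.trans Y y2 E.qB
  haveI : y4.LiesOver E.qB := Ideal.LiesOver.trans y4 Y E.qB
  haveI : y4.LiesOver p4 := ⟨by
    have h1 : (y4.comap (algebraMap R4 D4)).comap (algebraMap A R4) = p4.comap (algebraMap A R4) := by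
      rw [Ideal.comap_comap, ← IsScalarTower.algebraMap_eq, IsScalarTower.algebraMap_eq A D3 D4, ← Ideal.comap_comap]
      exact ((Y.over_def p3).trans (congrArg (Ideal.comap (algebraMap A D3)) (y4.over_def Y))).symm.trans (p4.over_def p3)
    have h2 := congrArg (Ideal.map (algebraMap A R4)) h1
    rw [IsLocalization.map_under (Submonoid.powers f) R4, IsLocalization.map_under (Submonoid.powers f) R4] at h2
    exact h2.symm⟩
  have hfracR : DevissLib.FracMod p p4 := ((DevissLib.fracMod_of_bijective p p2 hres2).trans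
    (DevissLib.fracMod_of_bijective p2 p3 hres3)).away f hf
  have hfracB : DevissLib.FracMod E.qB y4 := ((DevissLib.fracMod_of_bijective E.qB y2 hresy2).trans
    ((DevissLib.fracMod_of_bijective p2 p3 hres3).tensor Y y2)).away b hbY
  -- the properties of the new smooth algebra
  have hirr : FlatCA.GeomIrredFibres R4 D4 := by
    refine geomIrred_of_preIrred ?_ (surjective_comap_away himg (dvd_mul_left f₁ f₀) R4 D4)
    haveI : IsLocalization (Algebra.algebraMapSubmonoid D4 (Submonoid.powers f)) D4 :=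
      IsLocalization.self (by
        rintro _ ⟨_, ⟨k, rfl⟩, rfl⟩
        rw [map_pow]
        exact hbu.pow k)
    haveI : Algebra.IsPushout A D4 R4 D4 := Algebra.isPushout_of_isLocalization (Submonoid.powers f) R4 D4 D4
    haveI : Algebra.IsPushout A R4 D4 D4 := Algebra.IsPushout.symm inferInstance
    exact PreIrred.baseChange hpreD4 R4 D4
  have hrel : FlatCA.SmoothRelDim E.d R4 D4 := smoothRelDim_etale_over E.relDim
  exact existsDev_of_transport E σ hσ p4 y4 hfracR hfracB hirr hrel
    (of_forall_baseChange (B2 := D2) (B3 := D3) (fun Q _ _ => Dev R4 p4 D4 Q y4)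
      fun Q _ _ _ _ φ hφ => hshr f (dvd_mul_right f₀ f₁) hf R4 p4 D4 Q φ hφ y4)

end Groth.Agent.DevLib
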