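import Groth.Agent.DevLib.FirstStep
import Groth.Agent.DevLib.Refine
import Groth.Agent.FibAssLib.Fibre

/-!
# Existence of complete dévissages
-/

set_option autoImplicit false
set_option linter.style.haveILetI false
set_option backward.isDefEq.respectTransparency false
set_option backward.isDefEq.respectTransparency.types false
set_option maxHeartbeats 2000000

universe u

open TensorProduct

noncomputable section

namespace Groth.Agent.DevLib

/-- A point of the support of the cokernel of a step has smaller local dimension. -/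
theorem exists_coker_point {R : Type u} [CommRing R] {p : Ideal R} [p.IsPrime] {S : Type u} [CommRing S] [Algebra R S]
    {N : Type u} [AddCommGroup N] [Module S N] {q : Ideal S} (E : DevStep R p S N q)
    [Module R (E.M ⧸ LinearMap.range E.α)] [IsScalarTower R E.B (E.M ⧸ LinearMap.range E.α)]
    (h : (⟨E.qB, inferInstance⟩ : PrimeSpectrum E.B) ∈ Module.support E.B (E.M ⧸ LinearMap.range E.α)) :
    ∃ (x : PrimeSpectrum (p.Fiber E.B))
      (hx : x ∈ Module.support (p.Fiber E.B) (FlatCA.fiberMod p E.B (E.M ⧸ LinearMap.range E.α))),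
      x.asIdeal = FlatCA.fiberIdeal p E.qB ∧ ∃ m < E.d,
        FlatMor.localDim (Module.support (p.Fiber E.B) (FlatCA.fiberMod p E.B (E.M ⧸ LinearMap.range E.α))) ⟨x, hx⟩ = m := by
  haveI := E.finiteBA
  haveI := E.finiteM
  haveI : Module.Finite E.B E.M := Module.Finite.trans E.A E.M
  haveI : Algebra.Smooth R E.B := DevissLib.smooth_of_smoothRelDim E.relDim
  obtain ⟨hpr, hcom⟩ := FibAssLib.fiberIdeal_spec p E.qB
  letI : Algebra E.B (p.Fiber E.B) :=
    (Algebra.TensorProduct.includeRight (R := R) (A := p.ResidueField) (B := E.B)).toRingHom.toAlgebra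
  have hs : Module.support (p.Fiber E.B) (FlatCA.fiberMod p E.B (E.M ⧸ LinearMap.range E.α)) = PrimeSpectrum.zeroLocus
      (((Module.annihilator E.B (E.M ⧸ LinearMap.range E.α)).map (algebraMap E.B (p.Fiber E.B)) :
        Ideal (p.Fiber E.B)) : Set (p.Fiber E.B)) :=
    AssSupLib.support_baseChange
  have hx : (⟨_, hpr⟩ : PrimeSpectrum (p.Fiber E.B)) ∈
      Module.support (p.Fiber E.B) (FlatCA.fiberMod p E.B (E.M ⧸ LinearMap.range E.α)) := by
    rw [hs, PrimeSpectrum.mem_zeroLocus, SetLike.coe_subset_coe]
    exact Ideal.map_mono (Module.mem_support_iff_of_finite.1 h)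
  refine ⟨⟨_, hpr⟩, hx, rfl, ?_⟩
  haveI := FibAssLib.finite_fiberMod p (S := E.B) (E.M ⧸ LinearMap.range E.α)
  haveI : (p.map (algebraMap R E.B)).LiesOver p := DevissLib.liesOver_map E.geomIrred p
  haveI : Subsingleton ((p.map (algebraMap R E.B)).ResidueField ⊗[E.B] (E.M ⧸ LinearMap.range E.α)) :=
    subsingleton_coker_baseChange E.α E.fibreIso.2
  refine exists_nat_localDim_lt _ ?_
  rw [topologicalKrullDim_support]
  exact DevissLib.supportDim_lt p _ (DevissLib.ringKrullDim_fiber_le E.relDim p) inferInstance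

/-- Complete dévissages exist after étale localisation. -/
theorem existsDev : ∀ (n : ℕ) (R : Type u) [CommRing R] (p : Ideal R) [p.IsPrime] (S : Type u) [CommRing S] [Algebra R S]
    [Algebra.FiniteType R S] (N : Type u) [AddCommGroup N] [Module S N] [Module R N] [IsScalarTower R S N]
    [Module.Finite S N] (q : Ideal S) [q.IsPrime] [q.LiesOver p]
    (x : PrimeSpectrum (p.Fiber S)) (hx : x ∈ Module.support (p.Fiber S) (FlatCA.fiberMod p S N)),
    x.asIdeal = FlatCA.fiberIdeal p q →
    FlatMor.localDim (Module.support (p.Fiber S) (FlatCA.fiberMod p S N)) ⟨x, hx⟩ = n →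
    ExistsDev R p S N q := by
  intro n
  induction n using Nat.strong_induction_on with
  | _ n ih =>
    intro R _ p _ S _ _ _ N _ _ _ _ _ q _ _ x hx hxq hn
    obtain ⟨R', S', _, _, _, _, _, _, _, _, p', q', hp', hq', hR', hS', hqp, E, hEd, σ, hσ⟩ :=
      exists_first_step N p q n x hxq hx hn
    haveI := hp'
    haveI := hq'
    refine ExistsDev.of_nhd hR' hS' ?_
    by_cases h : (⟨E.qB, inferInstance⟩ : PrimeSpectrum E.B) ∈ Module.support E.B (E.M ⧸ LinearMap.range E.α)
    · haveI := E.finiteBA
      haveI := E.finiteM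
      haveI : Module.Finite E.B E.M := Module.Finite.trans E.A E.M
      haveI : Algebra.Smooth R' E.B := DevissLib.smooth_of_smoothRelDim E.relDim
      letI : Module R' (E.M ⧸ LinearMap.range E.α) := Module.compHom _ (algebraMap R' E.B)
      haveI : IsScalarTower R' E.B (E.M ⧸ LinearMap.range E.α) := .of_algebraMap_smul fun _ _ => rfl
      obtain ⟨x', hx', hxq', m, hm, hdim⟩ := exists_coker_point E h
      exact existsDev_of_coker E σ hσ (ih m (hEd ▸ hm) R' p' E.B _ E.qB x' hx' hxq' hdim)
    · exact existsDev_of_notMem_support E σ hσ h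

end Groth.Agent.DevLib
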